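import Groth.Agent.Lib.GrpSch.Translate
import Groth.Agent.Lib.GrpSch.GenericIso
import Groth.Agent.Lib.GrpSch.GeomPoints
import Groth.Agent.Lib.SchTopo.Closure
import Groth.Agent.Lib.Spectral.Basic
import Groth.Agent.H75.RedSub
import Mathlib.AlgebraicGeometry.ZariskisMainTheorem
import Mathlib.AlgebraicGeometry.Morphisms.FinitePresentation

/-!
# A quasi-compact monomorphism of group schemes locally of finite type over a field is a closed immersion
-/

set_option autoImplicit false

universe u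

open scoped Topology
open CategoryTheory Limits MonoidalCategory CartesianMonoidalCategory MonObj AlgebraicGeometry

namespace Groth.Agent.Lib.GrpQ.MonoClosed

theorem exists_open_inter_closure_subset {X : Type*} [TopologicalSpace X] [SpectralSpace X]
    {s : Set X} (hs : Topology.IsConstructible s) (hne : s.Nonempty) :
    ∃ U : Set X, IsOpen U ∧ (U ∩ closure s).Nonempty ∧ U ∩ closure s ⊆ s := by
  obtain ⟨Z, hZ⟩ : ∃ Z, Z ∈ irreducibleComponents ↥(closure s) :=
    ⟨_, irreducibleComponent_mem_irreducibleComponents ⟨_, subset_closure hne.some_mem⟩⟩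
  have hqs : QuasiSober ↥(closure s) := isClosed_closure.isClosedEmbedding_subtypeVal.quasiSober
  set z := hZ.1.genericPoint with hz
  have hmax : ∀ e ∈ closure s, e ⤳ z.1 → e = z.1 := by
    intro e he hspec
    have h1 : (⟨e, he⟩ : ↥(closure s)) ⤳ z := (subtype_specializes_iff _ _).2 hspec
    have hcl : closure {z} = Z := hZ.1.closure_genericPoint (isClosed_of_mem_irreducibleComponents _ hZ)
    have h2 : Z ⊆ closure {(⟨e, he⟩ : ↥(closure s))} :=
      hcl ▸ specializes_iff_closure_subset.1 h1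
    have h3 := hZ.2 isIrreducible_singleton.closure h2
    have h4 : z ⤳ (⟨e, he⟩ : ↥(closure s)) :=
      specializes_iff_mem_closure.2 (by rw [hcl]; exact h3 (subset_closure rfl))
    exact congrArg Subtype.val (h1.antisymm h4).eq
  have hcons := Spectral.Basic.isClopen_cons_of_isConstructible hs
  have hzO : z.1 ∈ s := by
    obtain ⟨e, he, hspec⟩ := Spectral.Basic.exists_specializes_of_mem_closure hcons.1 z.2
    exact hmax e (subset_closure he) hspec ▸ he
  refine ⟨(closure (closure s \ s))ᶜ, isClosed_closure.isOpen_compl, ⟨z.1, ?_, z.2⟩, ?_⟩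
  · intro hmem
    have hcl : IsClosed[constructibleTopology X] (closure s \ s) :=
      @IsClosed.inter _ _ _ (constructibleTopology X)
        (Spectral.Basic.isClosed_cons_of_isClosed isClosed_closure)
        ((@isClosed_compl_iff _ (constructibleTopology X) _).2 hcons.2)
    obtain ⟨e, ⟨he, heO⟩, hspec⟩ := Spectral.Basic.exists_specializes_of_mem_closure hcl hmem
    exact heO (hmax e he hspec ▸ hzO)
  · rintro x ⟨hx, hxC⟩
    by_contra hxO
    exact hx (subset_closure ⟨hxC, hxO⟩)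

variable {k : Type u} [Field k] [IsAlgClosed k]

/-- The underlying point of a rational point. -/
noncomputable def ptOf {X : Over (Spec (CommRingCat.of k))} (x : 𝟙_ (Over (Spec (CommRingCat.of k))) ⟶ X) :
    X.left := x.left (IsLocalRing.closedPoint k)

omit [IsAlgClosed k] in
theorem ptOf_comp {X Y : Over (Spec (CommRingCat.of k))} (x : 𝟙_ (Over (Spec (CommRingCat.of k))) ⟶ X)
    (f : X ⟶ Y) : f.left (ptOf x) = ptOf (x ≫ f) :=
  (Scheme.Hom.comp_apply _ _ _).symm

theorem exists_ptOf {X : Over (Spec (CommRingCat.of k))} [LocallyOfFiniteType X.hom] {s : Set X.left}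
    (hs : IsLocallyClosed s) (hne : s.Nonempty) : ∃ x, ptOf x ∈ s := by
  have : JacobsonSpace X.left := LocallyOfFiniteType.jacobsonSpace X.hom
  obtain ⟨c, hcs, hc⟩ := nonempty_inter_closedPoints hne hs
  refine ⟨Over.homMk (pointOfClosedPoint X.hom c hc) (pointOfClosedPoint_comp X.hom c hc), ?_⟩
  show pointOfClosedPoint X.hom c hc _ ∈ s
  exact (pointOfClosedPoint_apply X.hom c hc _).symm ▸ hcs

variable {G H : Over (Spec (CommRingCat.of k))} [GrpObj G] [GrpObj H] [LocallyOfFiniteType G.hom]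
  [LocallyOfFiniteType H.hom] (f : G ⟶ H) [IsMonHom f]

/-- `x ↦ x * r`. -/
noncomputable def rmul (r : 𝟙_ (Over (Spec (CommRingCat.of k))) ⟶ H) : H ⟶ H := 𝟙 H * (toUnit H ≫ r)

omit [IsAlgClosed k] [LocallyOfFiniteType H.hom] in
theorem ptOf_rmul (x r : 𝟙_ (Over (Spec (CommRingCat.of k))) ⟶ H) :
    (rmul r).left (ptOf x) = ptOf (x * r) := by
  rw [ptOf_comp, rmul, MonObj.comp_mul, Category.comp_id, ← Category.assoc,
    toUnit_unique (x ≫ toUnit H) (𝟙 _), Category.id_comp]

omit [IsAlgClosed k] [LocallyOfFiniteType G.hom] [LocallyOfFiniteType H.hom] in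
theorem rmul_mapsTo (g : 𝟙_ (Over (Spec (CommRingCat.of k))) ⟶ G) :
    Set.MapsTo (rmul (g ≫ f)).left (Set.range f.left) (Set.range f.left) := by
  rintro _ ⟨x, rfl⟩
  refine ⟨(rmul g).left x, ?_⟩
  rw [← Scheme.Hom.comp_apply, ← Scheme.Hom.comp_apply, ← Over.comp_left, ← Over.comp_left]
  congr 3
  simp [rmul, MonObj.mul_comp, MonObj.comp_mul, ← Category.assoc, toUnit_unique (f ≫ toUnit H) (toUnit G)]

omit [IsAlgClosed k] [LocallyOfFiniteType G.hom] [LocallyOfFiniteType H.hom] in
theorem mul_mem_range {x y : 𝟙_ (Over (Spec (CommRingCat.of k))) ⟶ H} (g : 𝟙_ (Over (Spec (CommRingCat.of k))) ⟶ G)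
    (hy : y = g ≫ f) (hx : ptOf x ∈ Set.range f.left) : ptOf (x * y) ∈ Set.range f.left := by
  subst hy
  rw [← ptOf_rmul]
  exact rmul_mapsTo f g hx

theorem eq_comp_of_ptOf_eq (g : 𝟙_ (Over (Spec (CommRingCat.of k))) ⟶ G)
    (x : 𝟙_ (Over (Spec (CommRingCat.of k))) ⟶ H) (h : f.left (ptOf g) = ptOf x) : x = g ≫ f := by
  refine Over.OverMorphism.ext (ext_of_apply_closedPoint_eq H.hom (Over.w x) (Over.w (g ≫ f)) ?_)
  rw [ptOf_comp] at h
  exact h.symm

variable [QuasiCompact f.left]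

theorem isClosed_range : IsClosed (Set.range f.left) := by
  set R := Set.range f.left with hR
  have : IsLocallyNoetherian H.left := LocallyOfFiniteType.isLocallyNoetherian H.hom
  have : JacobsonSpace H.left := LocallyOfFiniteType.jacobsonSpace H.hom
  have : LocallyOfFiniteType (f.left ≫ H.hom) := by rw [Over.w]; infer_instance
  have : LocallyOfFiniteType f.left := locallyOfFiniteType_of_comp f.left H.hom
  have hcons : ∀ V : H.left.Opens, IsAffineOpen V → Topology.IsConstructible (Set.range (f.left ∣_ V)) ∧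
      SpectralSpace (V : Scheme.{u}) ∧ Set.range (f.left ∣_ V) = Subtype.val ⁻¹' R := by
    intro V hV
    have : IsAffine (V : Scheme.{u}) := hV
    have : QuasiCompact (f.left ∣_ V) :=
      MorphismProperty.of_isPullback (isPullback_morphismRestrict f.left V).flip inferInstance
    refine ⟨?_, ⟨⟩, ?_⟩
    · rw [← Set.image_univ]
      exact (f.left ∣_ V).isConstructible_image .univ
    · rw [morphismRestrict_base]
      exact Set.range_restrictPreimage _ _
  -- an open set meeting the closure inside the range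
  obtain ⟨W, hW, hWne, hWR⟩ : ∃ W : Set H.left, IsOpen W ∧ (W ∩ closure R).Nonempty ∧ W ∩ closure R ⊆ R := by
    obtain ⟨_, ⟨V, hV, rfl⟩, hxV, -⟩ := H.left.isBasis_affineOpens.exists_subset_of_mem_open
      (Set.mem_univ (η[H].left (IsLocalRing.closedPoint k))) isOpen_univ
    obtain ⟨h1, h2, h3⟩ := hcons V hV
    obtain ⟨U, hU, ⟨z, hzU, hzc⟩, hUR⟩ := exists_open_inter_closure_subset h1 (by
      rw [h3]
      refine ⟨⟨_, hxV⟩, η[G].left (IsLocalRing.closedPoint k), ?_⟩
      exact (Scheme.Hom.comp_apply _ _ _).symm.trans (by rw [← Over.comp_left, IsMonHom.one_hom]))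
    rw [h3] at hUR hzc
    refine ⟨Subtype.val '' U, V.2.isOpenMap_subtype_val U hU, ⟨z.1, ⟨z, hzU, rfl⟩,
      map_mem_closure (f := Subtype.val) continuous_subtype_val hzc fun _ h => h⟩, ?_⟩
    rintro _ ⟨⟨y, hy, rfl⟩, hyc⟩
    exact hUR ⟨hy, V.2.isOpenMap_subtype_val.preimage_closure_subset_closure_preimage hyc⟩
  by_contra hnc
  obtain ⟨y, hyc, hyR⟩ : ∃ y, y ∈ closure R ∧ y ∉ R := by
    by_contra h
    push Not at h
    exact hnc (closure_subset_iff_isClosed.1 h)
  -- a rational point in the boundary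
  obtain ⟨c, hcc, hcR⟩ : ∃ c, ptOf c ∈ closure R ∧ ptOf c ∉ R := by
    obtain ⟨_, ⟨V, hV, rfl⟩, hyV, -⟩ := H.left.isBasis_affineOpens.exists_subset_of_mem_open
      (Set.mem_univ y) isOpen_univ
    obtain ⟨h1, h2, h3⟩ := hcons V hV
    rw [h3] at h1
    obtain ⟨Z, hZ, hyZ, hZsub⟩ : ∃ Z : Set (V : Scheme.{u}), IsLocallyClosed Z ∧ ⟨y, hyV⟩ ∈ Z ∧
        Z ⊆ (Subtype.val ⁻¹' R)ᶜ :=
      GrpSch.exists_isLocallyClosed_subset h1.compl _ hyR
    obtain ⟨O, C, hO, hC, rfl⟩ := hZ
    have hO' : IsOpen (Subtype.val '' O : Set H.left) := V.2.isOpenMap_subtype_val O hO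
    obtain ⟨C', hC', rfl⟩ := isClosed_induced_iff.1 hC
    obtain ⟨c, hc⟩ := exists_ptOf (X := H) (s := (Subtype.val '' O) ∩ (C' ∩ closure R))
      ⟨_, _, hO', hC'.inter isClosed_closure, rfl⟩ ⟨y, ⟨_, hyZ.1, rfl⟩, hyZ.2, hyc⟩
    obtain ⟨⟨c', hc'O, hc'e⟩, hcC, hcc⟩ := hc
    exact ⟨c, hcc, fun h => hZsub ⟨hc'O, show c'.1 ∈ C' from hc'e ▸ hcC⟩ (show c'.1 ∈ R from hc'e ▸ h)⟩
  -- a rational point of the range in `W`
  have hWRne : (W ∩ R).Nonempty := ⟨_, hWne.some_mem.1, hWR hWne.some_mem⟩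
  obtain ⟨gw, hgw⟩ := exists_ptOf (X := G) (s := f.left ⁻¹' W) (hW.preimage f.left.continuous).isLocallyClosed
    (let ⟨_, hw, x, hx⟩ := hWRne; ⟨x, show f.left x ∈ W from hx.symm ▸ hw⟩)
  rw [Set.mem_preimage, ptOf_comp] at hgw
  let w := gw ≫ f
  let φ : H ⟶ H := (toUnit H ≫ c) * (𝟙 H)⁻¹
  have hφ : ∀ x, φ.left (ptOf x) = ptOf (c * x⁻¹) := fun x => by
    rw [ptOf_comp]
    simp [φ, MonObj.comp_mul, GrpObj.comp_inv, ← Category.assoc, toUnit_unique (x ≫ toUnit H) (𝟙 _)]
  let lm : H ⟶ H := (toUnit H ≫ w⁻¹) * 𝟙 H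
  have hlm : Set.MapsTo lm.left R R := by
    rintro _ ⟨x, rfl⟩
    refine ⟨((toUnit G ≫ gw⁻¹) * 𝟙 G).left x, ?_⟩
    rw [← Scheme.Hom.comp_apply, ← Scheme.Hom.comp_apply, ← Over.comp_left, ← Over.comp_left]
    congr 3
    simp [lm, w, MonObj.mul_comp, MonObj.comp_mul, GrpObj.inv_comp, GrpObj.comp_inv, ← Category.assoc,
      toUnit_unique (f ≫ toUnit H) (toUnit G)]
  have hx0 : ptOf (w⁻¹ * c) ∈ closure R := by
    have := hlm.closure lm.left.continuous hcc
    rwa [ptOf_comp, show c ≫ lm = w⁻¹ * c by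
      simp [lm, MonObj.comp_mul, ← Category.assoc, toUnit_unique (c ≫ toUnit H) (𝟙 _)]] at this
  have hx1 : ptOf (w⁻¹ * c) ∈ φ.left ⁻¹' W := by
    rw [Set.mem_preimage, hφ, mul_inv_rev, inv_inv, mul_inv_cancel_left]
    exact hgw
  obtain ⟨_, hrW, x, rfl⟩ := mem_closure_iff.1 hx0 _ (hW.preimage φ.left.continuous) hx1
  obtain ⟨g, hg⟩ := exists_ptOf (X := G) (s := f.left ⁻¹' (φ.left ⁻¹' W))
    ((hW.preimage φ.left.continuous).preimage f.left.continuous).isLocallyClosed ⟨x, hrW⟩
  rw [Set.mem_preimage, ptOf_comp, Set.mem_preimage, hφ] at hg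
  have h1 : ptOf (c * (g ≫ f)⁻¹) ∈ closure R := by
    rw [← ptOf_rmul, show (g ≫ f)⁻¹ = g⁻¹ ≫ f from (GrpObj.inv_comp g f).symm]
    exact (rmul_mapsTo f g⁻¹).closure (rmul _).left.continuous hcc
  have h2 := mul_mem_range f g rfl (hWR ⟨hg, h1⟩)
  rw [inv_mul_cancel_right] at h2
  exact hcR h2

theorem universallyClosed [Mono f] : UniversallyClosed f.left := by
  have : Mono f.left := (Over.forget _).map_mono f
  have : IsLocallyNoetherian H.left := LocallyOfFiniteType.isLocallyNoetherian H.hom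
  have : LocallyOfFiniteType (f.left ≫ H.hom) := by rw [Over.w]; infer_instance
  have : LocallyOfFiniteType f.left := locallyOfFiniteType_of_comp f.left H.hom
  let Zc : TopologicalSpace.Closeds H.left := ⟨Set.range f.left, isClosed_range f⟩
  let I := Scheme.IdealSheafData.vanishingIdeal Zc
  let j := I.subschemeι
  have hj : Set.range j = Set.range f.left := by
    rw [Scheme.IdealSheafData.range_subschemeι, Scheme.IdealSheafData.coe_support_vanishingIdeal]
    rfl
  have : IsReduced I.subscheme := H75.RedSub.isReduced_vanishingIdeal Zc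
  have : IsLocallyNoetherian I.subscheme := LocallyOfFiniteType.isLocallyNoetherian (j ≫ H.hom)
  let p := pullback.snd f.left j
  have : Mono p := inferInstanceAs (Mono (pullback.snd f.left j))
  have : Surjective p := ⟨fun z => by
    obtain ⟨x, hx⟩ := hj.le ⟨z, rfl⟩
    obtain ⟨w, -, hw⟩ := Scheme.Pullback.exists_preimage_pullback (f := f.left) (g := j) x z hx
    exact ⟨w, hw⟩⟩
  obtain ⟨z₀, hz₀⟩ := hj.ge ⟨η[G].left (IsLocalRing.closedPoint k), rfl⟩
  obtain ⟨ξ, hξ, -⟩ := SchTopo.Closure.exists_maximal_specializes I.subscheme z₀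
  obtain ⟨U, hU, hiso⟩ := GrpSch.exists_isIso_restrict_of_mono p ξ
    (isField_stalk_of_closure_mem_irreducibleComponents _ _ hξ) (p.surjective ξ)
  obtain ⟨W, hW, hWU⟩ : ∃ W, IsOpen W ∧ j ⁻¹' W = (U : Set I.subscheme) :=
    (j.isClosedEmbedding.isInducing.isOpen_iff).1 U.2
  let W' : H.left.Opens := ⟨W, hW⟩
  have hWU' : j ⁻¹ᵁ W' = U := TopologicalSpace.Opens.ext hWU
  let q := (isPullback_morphismRestrict f.left W').flip
  have hpW : UniversallyClosed (f.left ∣_ W') := by
    subst hWU'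
    let m : ((p ⁻¹ᵁ j ⁻¹ᵁ W' : (pullback f.left j).Opens) : Scheme.{u}) ⟶ (f.left ⁻¹ᵁ W' : G.left.Opens) :=
      q.lift (Scheme.Opens.ι _ ≫ pullback.fst f.left j) ((p ∣_ (j ⁻¹ᵁ W')) ≫ (j ∣_ W')) (by
        rw [Category.assoc, pullback.condition, Category.assoc, morphismRestrict_ι,
          morphismRestrict_ι_assoc])
    have hm : m ≫ (f.left ∣_ W') = (p ∣_ (j ⁻¹ᵁ W')) ≫ (j ∣_ W') := q.lift_snd _ _ _
    have : UniversallyClosed (m ≫ (f.left ∣_ W')) := by
      rw [hm]
      have : IsClosedImmersion (j ∣_ W') :=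
        MorphismProperty.of_isPullback (isPullback_morphismRestrict j W').flip inferInstance
      infer_instance
    have : Surjective m := ⟨fun x => by
      have hxW : f.left x.1 ∈ W' := x.2
      obtain ⟨z, hz⟩ := hj.ge ⟨x.1, rfl⟩
      obtain ⟨w, hw1, hw2⟩ := Scheme.Pullback.exists_preimage_pullback (f := f.left) (g := j) x.1 z hz.symm
      refine ⟨⟨w, show j (p w) ∈ W' by
        rw [show p w = z from hw2, hz]; exact hxW⟩, Subtype.ext ?_⟩
      refine ((Scheme.Hom.comp_apply m (f.left ⁻¹ᵁ W').ι _).symm.trans ?_).trans hw1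
      rw [show m ≫ (f.left ⁻¹ᵁ W').ι = _ from q.lift_fst _ _ _]
      rfl⟩
    exact UniversallyClosed.of_comp_surjective m _
  refine IsZariskiLocalAtTarget.of_forall_exists_morphismRestrict fun y => ?_
  by_cases hy : y ∈ Set.range f.left
  · have : JacobsonSpace H.left := LocallyOfFiniteType.jacobsonSpace H.hom
    obtain ⟨c, hc⟩ := exists_ptOf (X := H) (s := closure {y}) isClosed_closure.isLocallyClosed
      ⟨y, subset_closure rfl⟩
    obtain ⟨x, hx⟩ := (isClosed_range f).closure_subset_iff.2 (Set.singleton_subset_iff.2 hy) hc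
    obtain ⟨gc, hgc⟩ := exists_ptOf (X := G) (s := f.left ⁻¹' {ptOf c})
      ((GrpSch.rational_isClosed c _).preimage f.left.continuous).isLocallyClosed ⟨x, hx⟩
    have ec : c = gc ≫ f := eq_comp_of_ptOf_eq f gc c hgc
    obtain ⟨gv, hgv⟩ := exists_ptOf (X := G) (s := f.left ⁻¹' W) (hW.preimage f.left.continuous).isLocallyClosed (by
      obtain ⟨x', hx'⟩ := hj.le ⟨ξ, rfl⟩
      exact ⟨x', show f.left x' ∈ W from hx'.symm ▸ hWU.ge hU⟩)
    rw [Set.mem_preimage, ptOf_comp] at hgv
    let τ := (GrpSch.translate (GrpSch.regularAction H) ((gv * gc⁻¹) ≫ f)).hom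
    refine ⟨τ.left ⁻¹ᵁ W', ?_, GrpSch.restrict_preimage_of_isPullback
      (GrpSch.forall_translate_isPullback f _) W' hpW⟩
    refine (specializes_iff_mem_closure.2 hc).mem_open (τ.left ⁻¹ᵁ W').2 ?_
    show τ.left (ptOf c) ∈ W
    rw [ptOf_comp, GrpSch.translate_regular_apply, ec, MonObj.mul_comp, GrpObj.inv_comp,
      inv_mul_cancel_right]
    exact hgv
  · let O : H.left.Opens := ⟨(Set.range f.left)ᶜ, (isClosed_range f).isOpen_compl⟩
    have : IsEmpty ((f.left ⁻¹ᵁ O : G.left.Opens) : Scheme.{u}) := ⟨fun x => x.2 ⟨x.1, rfl⟩⟩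
    exact ⟨O, hy, inferInstance⟩

theorem isClosedImmersion_of_isAlgClosed [Mono f] : IsClosedImmersion f.left := by
  have : Mono f.left := (Over.forget _).map_mono f
  have := universallyClosed f
  have : LocallyOfFiniteType (f.left ≫ H.hom) := by rw [Over.w]; infer_instance
  have : LocallyOfFiniteType f.left := locallyOfFiniteType_of_comp f.left H.hom
  exact (IsClosedImmersion.iff_isProper_and_mono f.left).2 ⟨{}, inferInstance⟩

end Groth.Agent.Lib.GrpQ.MonoClosed

namespace Groth.Agent.Lib.GrpQ.MonoClosed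

/-- A quasi-compact monomorphism of groups locally of finite type over a field is a closed immersion. -/
theorem isClosedImmersion_of_mono {k : Type u} [Field k] {G H : Over (Spec (CommRingCat.of k))}
    [GrpObj G] [GrpObj H] [LocallyOfFiniteType G.hom] [LocallyOfFiniteType H.hom]
    (f : G ⟶ H) [IsMonHom f] [Mono f] [QuasiCompact f.left] : IsClosedImmersion f.left := by
  have : Mono f.left := (Over.forget _).map_mono f
  let K := AlgebraicClosure k
  let b := GrpSch.extBase k K
  have : LocallyOfFiniteType (Red.bc b G).hom := GrpSch.bc_hom_of (P := @LocallyOfFiniteType) b G ‹_›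
  have : LocallyOfFiniteType (Red.bc b H).hom := GrpSch.bc_hom_of (P := @LocallyOfFiniteType) b H ‹_›
  have : QuasiCompact ((Over.pullback b).map f).left :=
    GrpSch.bc_map_left_of (P := @QuasiCompact) b f ‹_›
  have : Mono ((Over.pullback b).map f) := inferInstance
  have : UniversallyClosed f.left :=
    GrpSch.of_bc_map_left k K (P := @UniversallyClosed) f (universallyClosed ((Over.pullback b).map f))
  have : LocallyOfFiniteType (f.left ≫ H.hom) := by rw [Over.w]; infer_instance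
  have : LocallyOfFiniteType f.left := locallyOfFiniteType_of_comp f.left H.hom
  exact (IsClosedImmersion.iff_isProper_and_mono f.left).2 ⟨{}, inferInstance⟩

end Groth.Agent.Lib.GrpQ.MonoClosed
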