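import Groth.Agent.Lib.GrpQ.DomFF
import Groth.Agent.H4.IdealAcc

/-!
Scheme-theoretic images of homomorphisms; affine groups receiving a scheme-theoretically dominant
homomorphism from an algebraic group are algebraic.
-/

set_option autoImplicit false

universe u

open CategoryTheory Limits MonoidalCategory CartesianMonoidalCategory MonObj AlgebraicGeometry
open TensorProduct

namespace Groth.Agent.Lib.GrpQ.Image

noncomputable section

theorem appTop_injective {X Y : Scheme.{u}} (f : X ⟶ Y) [IsSchemeTheoreticallyDominant f] [QuasiCompact f] :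
    Function.Injective f.appTop :=
  f.app_injective ⊤

theorem std_of_appTop_injective {X Y : Scheme.{u}} (f : X ⟶ Y) [IsAffine Y] (h : Function.Injective f.appTop) :
    IsSchemeTheoreticallyDominant f := by
  refine ⟨?_⟩
  rw [Scheme.ker_of_isAffine, (RingHom.injective_iff_ker_eq_bot f.appTop.hom).1 h]
  exact Scheme.IdealSheafData.ext_of_isAffine (by simp)

theorem std_toImage {X Y : Scheme.{u}} (f : X ⟶ Y) [QuasiCompact f] :
    IsSchemeTheoreticallyDominant f.toImage := by
  refine ⟨Scheme.IdealSheafData.ext_of_iSup_eq_top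
    (fun U : Y.affineOpens => (⟨f.imageι ⁻¹ᵁ U.1, U.2.preimage f.imageι⟩ : f.image.affineOpens)) ?_ fun U => ?_⟩
  · rw [← Scheme.Hom.preimage_iSup, iSup_affineOpens_eq_top]
    rfl
  · rw [Scheme.Hom.ker_apply, Scheme.IdealSheafData.ideal_bot, Pi.bot_apply]
    exact (RingHom.injective_iff_ker_eq_bot _).1 (f.toImage_app_injective U)

theorem ker_comp_eq {X Y Z : Scheme.{u}} (f : X ⟶ Y) (g : Y ⟶ Z) [IsSchemeTheoreticallyDominant f] :
    (f ≫ g).ker = g.ker := by
  rw [Scheme.Hom.ker_comp, f.ker_eq_bot, Scheme.IdealSheafData.map_bot]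

variable {k : Type u} [Field k]

/-- The scheme-theoretic image of a homomorphism is a subgroup. -/
theorem exists_image {G G' : Over (Spec (CommRingCat.of k))} [GrpObj G] [GrpObj G'] [QuasiCompact G.hom]
    (u : G ⟶ G') [IsMonHom u] :
    ∃ (C : Over (Spec (CommRingCat.of k))) (_ : GrpObj C) (p : G ⟶ C) (i : C ⟶ G'), IsMonHom p ∧ IsMonHom i ∧
      p ≫ i = u ∧ IsSchemeTheoreticallyDominant p.left ∧ IsClosedImmersion i.left := by
  have := quasiCompact_left u
  let C : Over (Spec (CommRingCat.of k)) := Over.mk (u.left.imageι ≫ G'.hom)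
  let i : C ⟶ G' := Over.homMk u.left.imageι rfl
  let p : G ⟶ C := Over.homMk u.left.toImage (by
    change u.left.toImage ≫ u.left.imageι ≫ G'.hom = _
    rw [← Category.assoc, Scheme.Hom.toImage_imageι, Over.w])
  have hpi : p ≫ i = u := Over.OverMorphism.ext u.left.toImage_imageι
  have hi : IsClosedImmersion i.left := inferInstanceAs (IsClosedImmersion u.left.imageι)
  have := mono_of_left i
  have hp : IsSchemeTheoreticallyDominant p.left := std_toImage u.left
  have hpq : QuasiCompact p.left := inferInstanceAs (QuasiCompact u.left.toImage)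
  have hflat : ∀ (T : Over (Spec (CommRingCat.of k))), Flat T.hom := fun T =>
    GrpSch.flat_of_isField (Field.toIsField k) T.hom
  have hfac : ∀ {T T' : Over (Spec (CommRingCat.of k))} (z : T' ⟶ T) (x : T ⟶ G'),
      IsSchemeTheoreticallyDominant z.left → (∃ w : T' ⟶ C, w ≫ i = z ≫ x) → ∃ w : T ⟶ C, w ≫ i = x := by
    intro T T' z x hz ⟨w, hw⟩
    have H : i.left.ker ≤ x.left.ker := by
      rw [← ker_comp_eq z.left x.left, ← Over.comp_left, ← hw, Over.comp_left]
      exact Scheme.Hom.le_ker_comp _ _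
    refine ⟨Over.homMk (IsClosedImmersion.lift i.left x.left H) ?_, Over.OverMorphism.ext ?_⟩
    · rw [← Over.w i, IsClosedImmersion.lift_fac_assoc, Over.w]
    · exact IsClosedImmersion.lift_fac _ _ _
  have h1 : ∃ e, e ≫ i = η[G'] := ⟨η[G] ≫ p, by rw [Category.assoc, hpi, IsMonHom.one_hom]⟩
  have h2 : ∃ m, m ≫ i = (fst C C ≫ i) * (snd C C ≫ i) := by
    have : Flat (fst C G).left := GrpSch.fst_left_of (P := @Flat) _ (hflat G)
    have : Flat (snd C C).left := GrpSch.snd_left_of (P := @Flat) _ (hflat C)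
    have : Flat (fst C C).left := GrpSch.fst_left_of (P := @Flat) _ (hflat C)
    have ha : IsSchemeTheoreticallyDominant (p ▷ G).left :=
      .of_isPullback (GrpSch.isPullback_whiskerRight p G).flip
    have hb : IsSchemeTheoreticallyDominant (C ◁ p).left :=
      .of_isPullback (GrpSch.isPullback_whiskerLeft C p).flip
    refine hfac ((p ▷ G) ≫ (C ◁ p)) _ (by rw [Over.comp_left]; infer_instance)
      ⟨μ[G] ≫ p, ?_⟩
    rw [Category.assoc, hpi, IsMonHom.mul_hom, Hom.mul_def]
    simp only [← hpi, comp_lift_assoc, Category.assoc, whiskerLeft_fst_assoc, whiskerLeft_snd_assoc,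
      whiskerRight_fst_assoc, whiskerRight_snd_assoc]
    congr 1
  have h3 : ∃ v, v ≫ i = i⁻¹ := hfac p _ hp ⟨(𝟙 G)⁻¹ ≫ p, by
    rw [Category.assoc, hpi, GrpObj.inv_comp, Category.id_comp, GrpObj.comp_inv, hpi]⟩
  obtain ⟨_, hmon⟩ := InfSub.exists_grpObj_of_mono i h1 h2 h3
  exact ⟨C, inferInstance, p, i, DomFlat.isMonHom_of_comp_mono p i (by rw [hpi]; infer_instance), hmon, hpi, hp, hi⟩

/-- An affine group with a scheme-theoretically dominant homomorphism from an algebraic group is algebraic. -/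
theorem locallyOfFiniteType_of_std {G C : Over (Spec (CommRingCat.of k))} [GrpObj G] [GrpObj C]
    [LocallyOfFiniteType G.hom] [QuasiCompact G.hom] [IsAffine C.left] (p : G ⟶ C) [IsMonHom p]
    [IsSchemeTheoreticallyDominant p.left] : LocallyOfFiniteType C.hom := by
  classical
  obtain ⟨A, _, _, e, he⟩ := H1.Hopf.exists_iso C
  have hie' : IsIso e.hom.left := ((Over.forget _).mapIso e).isIso_hom
  let q : G ⟶ AffQ.sp k A := p ≫ e.hom
  have hqstd : IsSchemeTheoreticallyDominant q.left := by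
    change IsSchemeTheoreticallyDominant (p.left ≫ e.hom.left); infer_instance
  have : IsLocallyNoetherian G.left := LocallyOfFiniteType.isLocallyNoetherian G.hom
  have : CompactSpace G.left := QuasiCompact.compactSpace_of_compactSpace G.hom
  let ι' := {A₀ : Subalgebra k A // A₀.FG ∧ SGA3.IsHopfSubalgebra k A A₀}
  let gs := fun A₀ : ι' => Lib.Hopf.SubStruct.subHopf A₀.2.2
  let v : ∀ A₀ : ι', AffQ.sp k A ⟶ AffQ.sp k A₀.1 := fun A₀ =>
    let _ := gs A₀
    AffQ.homOfBialgHom (BialgHom.ofAlgHom A₀.1.val (AlgHom.ext fun _ => rfl)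
      (AlgHom.ext fun b => Lib.Hopf.SubStruct.map_subComul A₀.2.2 b) : A₀.1 →ₐc[k] A)
  have hvmon : ∀ A₀ : ι', letI := gs A₀; IsMonHom (v A₀) := fun A₀ =>
    letI := gs A₀; AffQ.isMonHom_homOfBialgHom _
  have hdata : ∀ A₀ : ι', letI := gs A₀
      IsCover (q ≫ v A₀) ∧ ∃ (N : Over (Spec (CommRingCat.of k))) (i : N ⟶ G),
        IsClosedImmersion i.left ∧ AlgGrp.IsKernel i (q ≫ v A₀) := fun A₀ => by
    let _ := gs A₀
    have := hvmon A₀
    have : Algebra.FiniteType k A₀.1 := (Subalgebra.fg_iff_finiteType A₀.1).1 A₀.2.1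
    have := DomFlat.locallyOfFiniteType_of_finiteType (k := k) A₀.1
    have hvstd : IsSchemeTheoreticallyDominant (v A₀).left := by
      refine std_of_appTop_injective _ fun x y hxy => ?_
      obtain ⟨x, rfl⟩ := (Scheme.ΓSpecIso (CommRingCat.of A₀.1)).commRingCatIsoToRingEquiv.symm.surjective x
      obtain ⟨y, rfl⟩ := (Scheme.ΓSpecIso (CommRingCat.of A₀.1)).commRingCatIsoToRingEquiv.symm.surjective y
      have hn := Scheme.ΓSpecIso_inv_naturality (CommRingCat.ofHom (A₀.1.val : A₀.1 →+* A))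
      have hx := ConcreteCategory.congr_hom hn x
      have hy := ConcreteCategory.congr_hom hn y
      congr 1
      apply Subtype.ext
      apply (Scheme.ΓSpecIso (CommRingCat.of A)).commRingCatIsoToRingEquiv.symm.injective
      exact hx.trans (hxy.trans hy.symm)
    have : IsSchemeTheoreticallyDominant (q ≫ v A₀).left := by rw [Over.comp_left]; infer_instance
    obtain ⟨h1, h2⟩ := DomFlat.flat_surjective (q ≫ v A₀)
    have := GrpSch.isSeparated_of_field (AffQ.sp k A₀.1)
    obtain ⟨N, _, i, -, hi, hK, -⟩ := exists_kernel (q ≫ v A₀)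
    exact ⟨⟨h1, h2, quasiCompact_left _⟩, N, i, hi, hK⟩
  choose hcov N i hi hK using hdata
  obtain ⟨B₀, -, hB₀fg, hB₀⟩ := Lib.Hopf.SubHopf.exists_fg_hopfSubalgebra (k := k) (∅ : Finset A)
  obtain ⟨_, ⟨A₀, rfl⟩, hmax⟩ := (H4.IdealAcc.wellFoundedGT G.left).wf.has_min
    (Set.range fun A₁ : ι' => (i A₁).left.ker) ⟨_, ⟨⟨B₀, hB₀fg, hB₀⟩, rfl⟩⟩
  have hle : ∀ x : A, x ∈ A₀.1 := by
    intro x
    obtain ⟨t, ht⟩ := A₀.2.1
    obtain ⟨B₁, hs, hB₁fg, hB₁⟩ := Lib.Hopf.SubHopf.exists_fg_hopfSubalgebra (k := k) (insert x t)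
    let A₁ : ι' := ⟨B₁, hB₁fg, hB₁⟩
    have hsub : A₀.1 ≤ A₁.1 := by
      rw [← ht, Algebra.adjoin_le_iff]
      exact fun y hy => hs (by simp [Finset.mem_coe.1 hy])
    let _ := gs A₀
    let _ := gs A₁
    have := hvmon A₀
    have := hvmon A₁
    let w : AffQ.sp k A₁.1 ⟶ AffQ.sp k A₀.1 := InfSub.spMap (Subalgebra.inclusion hsub)
    have hw : v A₁ ≫ w = v A₀ := Over.OverMorphism.ext
      (Spec.map_comp (CommRingCat.ofHom (Subalgebra.inclusion hsub).toRingHom)
        (CommRingCat.ofHom (A₁.1.val : A₁.1 →+* A))).symm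
    have hwone : (1 : 𝟙_ (Over (Spec (CommRingCat.of k))) ⟶ AffQ.sp k A₁.1) ≫ w = 1 := by
      rw [← MonObj.comp_one (η[G]), show η[G] ≫ (1 : G ⟶ AffQ.sp k A₁.1) = η[G] ≫ q ≫ v A₁ by
        rw [MonObj.comp_one, IsMonHom.one_hom, Hom.one_def, toUnit_unique (toUnit _) (𝟙 _), Category.id_comp],
        Category.assoc, Category.assoc, hw, IsMonHom.one_hom, Hom.one_def, toUnit_unique (toUnit _) (𝟙 _),
        Category.id_comp]
    have := kernel_mono (hK A₀)
    obtain ⟨n, hn⟩ := (mem_kernel (hK A₀) (i A₁)).2 (by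
      rw [← hw, ← Category.assoc q, ← Category.assoc, kernel_comp (hK A₁), Hom.one_def, Category.assoc,
        show η[AffQ.sp k A₁.1] = (1 : 𝟙_ _ ⟶ AffQ.sp k A₁.1) by
          rw [Hom.one_def, toUnit_unique (toUnit _) (𝟙 _), Category.id_comp],
        hwone, MonObj.comp_one])
    have hker : (i A₀).left.ker ≤ (i A₁).left.ker := by
      rw [← hn, Over.comp_left]; exact Scheme.Hom.le_ker_comp _ _
    have heq : (i A₁).left.ker = (i A₀).left.ker := by
      by_contra hne
      exact hmax _ ⟨A₁, rfl⟩ (lt_of_le_of_ne hker (Ne.symm hne))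
    have hmem : ∀ {T : Over (Spec (CommRingCat.of k))} (y : T ⟶ G),
        y ≫ q ≫ v A₀ = 1 → y ≫ q ≫ v A₁ = 1 := by
      intro T y hy
      obtain ⟨z, rfl⟩ := (mem_kernel (hK A₀) y).2 hy
      refine (mem_kernel (hK A₁) _).1 ⟨Over.homMk (IsClosedImmersion.lift (i A₁).left (z ≫ i A₀).left ?_) ?_,
        Over.OverMorphism.ext (IsClosedImmersion.lift_fac _ _ _)⟩
      · rw [heq, Over.comp_left]; exact Scheme.Hom.le_ker_comp _ _
      · rw [← Over.w (i A₁), IsClosedImmersion.lift_fac_assoc, Over.w]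
    have hmono : Mono w := ⟨fun {T} y y' hyy => by
      obtain ⟨T₁, p₁, x₁, hp₁, hx₁⟩ := exists_lift (hcov A₁) y
      obtain ⟨T₂, p₂, x₂, hp₂, hx₂⟩ := exists_lift (hcov A₁) (p₁ ≫ y')
      refine cancel_cover (hp₂.comp hp₁) ?_
      have e₁ : (p₂ ≫ p₁) ≫ y = (p₂ ≫ x₁) ≫ q ≫ v A₁ := by simp only [Category.assoc, hx₁]
      have e₂ : (p₂ ≫ p₁) ≫ y' = x₂ ≫ q ≫ v A₁ := by simp only [Category.assoc, hx₂]
      have h0 : (p₂ ≫ x₁) ≫ q ≫ v A₀ = x₂ ≫ q ≫ v A₀ := by
        simp only [← hw, ← Category.assoc] at e₁ e₂ ⊢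
        rw [← e₁, ← e₂, Category.assoc _ y, Category.assoc _ y', hyy]
      have h1 := hmem ((p₂ ≫ x₁)⁻¹ * x₂) (by
        rw [MonObj.mul_comp, GrpObj.inv_comp, h0, inv_mul_cancel])
      rw [MonObj.mul_comp, GrpObj.inv_comp, inv_mul_eq_one] at h1
      rw [e₁, e₂, h1]⟩
    have hwcov : IsCover w := by
      obtain ⟨h1, h2, h3⟩ := hcov A₀
      obtain ⟨h1', h2', h3'⟩ := hcov A₁
      have e : (q ≫ v A₁).left ≫ w.left = (q ≫ v A₀).left := by rw [← Over.comp_left, Category.assoc, hw]
      have : Flat ((q ≫ v A₁).left ≫ w.left) := by rw [e]; exact h1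
      have : Surjective ((q ≫ v A₁).left ≫ w.left) := by rw [e]; exact h2
      exact ⟨Flat55.FlatDescend.flat_of_comp (q ≫ v A₁).left w.left, Surjective.of_comp (q ≫ v A₁).left w.left,
        inferInstanceAs (QuasiCompact (Spec.map (CommRingCat.ofHom (Subalgebra.inclusion hsub).toRingHom)))⟩
    have hiso := isIso_of_mono w hwcov
    have : IsIso w.left := ((Over.forget _).mapIso (asIso w)).isIso_hom
    have hbij : Function.Bijective (Subalgebra.inclusion hsub) := by
      have : IsIso (Spec.map (CommRingCat.ofHom (Subalgebra.inclusion hsub).toRingHom)) := this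
      exact isIso_SpecMap_iff.1 this
    obtain ⟨⟨y, hy⟩, hxy⟩ := hbij.2 ⟨x, hs (by simp)⟩
    have := congrArg Subtype.val hxy
    exact (show y = x from this) ▸ hy
  have : Algebra.FiniteType k A := by
    refine ⟨?_⟩
    rw [← (eq_top_iff.2 fun y _ => hle y : A₀.1 = ⊤)]
    exact A₀.2.1
  have := DomFlat.locallyOfFiniteType_of_finiteType (k := k) A
  rw [← Over.w e.hom]
  infer_instance

/-- A scheme-theoretically dominant homomorphism from an algebraic group to an affine group is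
faithfully flat, and the target is algebraic. -/
theorem flat_surjective {G C : Over (Spec (CommRingCat.of k))} [GrpObj G] [GrpObj C]
    [LocallyOfFiniteType G.hom] [QuasiCompact G.hom] [IsAffine C.left] (p : G ⟶ C) [IsMonHom p]
    [IsSchemeTheoreticallyDominant p.left] : Flat p.left ∧ Surjective p.left :=
  have := locallyOfFiniteType_of_std p
  DomFlat.flat_surjective p

end

end Groth.Agent.Lib.GrpQ.Image
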