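import Groth.Agent.Lib.GrpQ.AntiAffSub
import Groth.Agent.S16480
import Groth.Agent.Lib.RedPts.BC
import Groth.Agent.Lib.RedPts.Affine
import Groth.Prelude.Def_FrameBundle
import Groth.Prelude.Def_VecGrp
import Mathlib.AlgebraicGeometry.AffineSpace
import Mathlib.LinearAlgebra.GeneralLinearGroup.Basic

/-!
A group which is not anti-affine has a non-trivial matrix representation; the associated morphism to
the general linear group, the linear action on affine space and the module structure.
-/

set_option autoImplicit false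

universe u

open CategoryTheory Limits MonoidalCategory CartesianMonoidalCategory MonObj AlgebraicGeometry
open TensorProduct
open Groth.Agent.Lib.RedPts

namespace Groth.Agent.Lib.GrpQ.RepMat

noncomputable section

variable {k : Type u} [Field k]

/-- Pullback of a matrix of functions. -/
def pbM {T X : Over (Spec (CommRingCat.of k))} (g : T ⟶ X) {n : ℕ} (P : Matrix (Fin n) (Fin n) Γ(X.left, ⊤)) :
    Matrix (Fin n) (Fin n) Γ(T.left, ⊤) := P.map g.left.appTop.hom

theorem pbM_comp {T T' X : Over (Spec (CommRingCat.of k))} (t : T' ⟶ T) (g : T ⟶ X) {n : ℕ}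
    (P : Matrix (Fin n) (Fin n) Γ(X.left, ⊤)) : pbM (t ≫ g) P = pbM t (pbM g P) := by
  ext i j; rfl

theorem pbM_id {X : Over (Spec (CommRingCat.of k))} {n : ℕ} (P : Matrix (Fin n) (Fin n) Γ(X.left, ⊤)) :
    pbM (𝟙 X) P = P := by
  ext i j; rfl

/-- A matrix of functions which is multiplicative on points. -/
structure Rep (G : Over (Spec (CommRingCat.of k))) [GrpObj G] (n : ℕ) where
  P : Matrix (Fin n) (Fin n) Γ(G.left, ⊤)
  mul : ∀ {T : Over (Spec (CommRingCat.of k))} (g h : T ⟶ G), pbM (g * h) P = pbM g P * pbM h P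
  one : ∀ {T : Over (Spec (CommRingCat.of k))}, pbM (1 : T ⟶ G) P = 1

theorem one_hom_of_mul {S : Scheme.{u}} {G H : Over S} [GrpObj G] [GrpObj H] (ρ : G ⟶ H)
    (h : ∀ (T : Over S) (a b : T ⟶ G), (a * b) ≫ ρ = (a ≫ ρ) * (b ≫ ρ)) : IsMonHom ρ where
  one_hom := by
    have h1 : (1 : 𝟙_ (Over S) ⟶ G) ≫ ρ = 1 := by
      have h2 := h (𝟙_ (Over S)) 1 1
      rw [_root_.one_mul] at h2
      exact mul_eq_left.1 h2.symm
    rw [Hom.one_def, Hom.one_def, toUnit_unique (toUnit (𝟙_ (Over S))) (𝟙 _), Category.id_comp,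
      Category.id_comp] at h1
    exact h1
  mul_hom := by
    have h1 := h (G ⊗ G) (fst G G) (snd G G)
    rw [Hom.mul_def, Hom.mul_def, lift_fst_snd, Category.id_comp] at h1
    rw [h1, lift_fst_comp_snd_comp]

variable {G : Over (Spec (CommRingCat.of k))} [GrpObj G]

attribute [local instance] Points.baseAlgebra

/-- A group which is not anti-affine has a non-trivial matrix of functions. -/
theorem exists_rep [LocallyOfFiniteType G.hom] [QuasiCompact G.hom] (hG : ¬ AntiAffSub.AntiAffine G) :
    ∃ (n : ℕ) (r : Rep G n), r.P ≠ 1 := by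
  obtain ⟨_, _⟩ := Affinization.exists_grp G
  obtain ⟨A, _, _, e, he⟩ := H1.Hopf.exists_iso (Affinization.aff G)
  have := GrpSch.isSeparated_of_field G
  obtain ⟨-, -, hlft⟩ := Affinization.rho_faithfullyFlat G
  have : IsIso e.inv.left := ((Over.forget _).mapIso e.symm).isIso_hom
  have : Algebra.FiniteType k A := DomFlat.finiteType_of_locallyOfFiniteType (by
    rw [← Over.w e.inv]; infer_instance)
  obtain ⟨n, π, hπ⟩ := S16480.result k A
  let x := Affinization.rho G ≫ e.hom
  let P : Matrix (Fin n) (Fin n) Γ(G.left, ⊤) := Matrix.of fun i j => Points.algHomOf x (π (CoordGrp.GLn.X i j))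
  have hP : ∀ {T : Over (Spec (CommRingCat.of k))} (g : T ⟶ G) (i j : Fin n),
      pbM g P i j = Points.algHomOf (g ≫ x) (π (CoordGrp.GLn.X i j)) := fun g i j =>
    (Points.ringHomOf_comp g.left x.left _).symm
  have hmul : ∀ {T : Over (Spec (CommRingCat.of k))} (g h : T ⟶ G), pbM (g * h) P = pbM g P * pbM h P := by
    intro T g h
    ext i j
    rw [Matrix.mul_apply, hP, MonObj.mul_comp, Points.algHomOf_mul, ← CoalgHomClass.map_comp_comul_apply π,
      CoordGrp.GLn.comul_X]
    simp [hP]
  have hone : ∀ {T : Over (Spec (CommRingCat.of k))}, pbM (1 : T ⟶ G) P = 1 := by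
    intro T
    ext i j
    rw [hP, MonObj.one_comp, Points.algHomOf_one, CoalgHomClass.counit_comp_apply π, CoordGrp.GLn.counit_X,
      Matrix.one_apply]
    split_ifs <;> simp
  refine ⟨n, ⟨P, hmul, hone⟩, fun h1 => hG ?_⟩
  -- all coordinates are constant
  have hx : IsIso x.left.appTop := by
    have : IsIso e.hom.left := ((Over.forget _).mapIso e).isIso_hom
    have : IsIso e.hom.left.appTop := inferInstanceAs (IsIso (e.hom.left.app ⊤))
    simp only [x, Over.comp_left, Scheme.Hom.comp_appTop]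
    exact IsIso.comp_isIso' inferInstance inferInstance
  have hinj : Function.Injective (Points.algHomOf x) := by
    intro a b hab
    have h2 := (ConcreteCategory.bijective_of_isIso x.left.appTop).1 hab
    exact (ConcreteCategory.bijective_of_isIso (Scheme.ΓSpecIso (CommRingCat.of A)).inv).1 h2
  have hX : ∀ i j, π (CoordGrp.GLn.X i j) = algebraMap k A (if i = j then 1 else 0) := fun i j => by
    apply hinj
    rw [AlgHom.commutes]
    refine (congrFun (congrFun h1 i) j).trans ?_
    rw [Matrix.one_apply]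
    split_ifs <;> simp
  have hπ' : (π : CoordGrp.GLn n k →ₐ[k] A) = (Algebra.ofId k A).comp (Bialgebra.counitAlgHom k (CoordGrp.GLn n k)) := by
    refine CoordGrp.GLn.algHom_ext (fun i j => ?_) ?_
    · simp [hX, CoordGrp.GLn.counit_X]
    · have hd : (π : CoordGrp.GLn n k →ₐ[k] A) CoordGrp.GLn.det = 1 := by
        rw [CoordGrp.GLn.det_eq, AlgHom.map_det, show ((π : CoordGrp.GLn n k →ₐ[k] A)).mapMatrix
          (CoordGrp.GLn.genMat n k) = 1 from ?_, Matrix.det_one]
        ext i j
        simp [CoordGrp.GLn.genMat, hX, Matrix.one_apply]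
      have hd' := congrArg (π : CoordGrp.GLn n k →ₐ[k] A) (CoordGrp.GLn.det_mul_Dinv (n := n) (k := k))
      rw [map_mul, hd, _root_.one_mul, map_one] at hd'
      rw [hd']
      simp [Algebra.ofId_apply, CoordGrp.GLn.counit_Dinv]
  have hsurj : Function.Surjective (algebraMap k A) := fun a => by
    obtain ⟨c, rfl⟩ := hπ a
    exact ⟨_, (congr($hπ' c)).symm⟩
  refine ⟨?_, fun s => ?_⟩
  · have : Nontrivial Γ(G.left, ⊤) := by
      refine ⟨0, 1, fun h01 => ?_⟩
      have := congrArg (η[G].left.appTop ≫ (Scheme.ΓSpecIso (CommRingCat.of k)).hom).hom h01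
      rw [map_zero, map_one] at this
      exact zero_ne_one this
    exact RingHom.injective _
  · obtain ⟨s', rfl⟩ := (ConcreteCategory.bijective_of_isIso x.left.appTop).2 s
    obtain ⟨a, rfl⟩ := (ConcreteCategory.bijective_of_isIso (Scheme.ΓSpecIso (CommRingCat.of A)).inv).2 s'
    obtain ⟨c, rfl⟩ := hsurj a
    exact ⟨c, ((Points.algHomOf x).commutes c).symm⟩

variable {n : ℕ} (r : Rep G n)

theorem Rep.det_mul : r.P.det * (pbM (𝟙 G)⁻¹ r.P).det = 1 := by
  have h := r.mul (𝟙 G) (𝟙 G)⁻¹
  rw [mul_inv_cancel, r.one, pbM_id] at h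
  rw [← Matrix.det_mul, ← h, Matrix.det_one]

/-! ### The morphism to the general linear group -/

/-- The base morphism. -/
abbrev toZ (k : Type u) [Field k] : Spec (CommRingCat.of k) ⟶ Spec (CommRingCat.of (ULift.{u} ℤ)) :=
  IsTerminal.from specULiftZIsTerminal _

/-- The morphism to the general linear group. -/
def Rep.toGLn : G ⟶ FrB.GLn n (Spec (CommRingCat.of k)) :=
  BC.up (toZ k) (Points.pointOf (R := ULift.{u} ℤ) (A := CoordGrp.GLn n (ULift.{u} ℤ)) (W := (Over.map (toZ k)).obj G)
    (CoordGrp.GLn.pt n (ULift.{u} ℤ) (B := Γ(((Over.map (toZ k)).obj G).left, ⊤)) r.P (pbM (𝟙 G)⁻¹ r.P).det r.det_mul))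

theorem Rep.toGLn_X {T : Over (Spec (CommRingCat.of k))} (g : T ⟶ G) (i j : Fin n) :
    Points.algHomOf (R := ULift.{u} ℤ) (BC.down (toZ k) (g ≫ r.toGLn)) (CoordGrp.GLn.X i j) = pbM g r.P i j := by
  rw [BC.down_comp, Rep.toGLn, BC.down_up, Points.algHomOf_apply]
  refine (Points.ringHomOf_comp _ _ _).trans ?_
  rw [← Points.algHomOf_apply, Points.algHomOf_pointOf, CoordGrp.GLn.pt_X]
  rfl

theorem glnPoint_ext {W : Over (Spec (CommRingCat.of (ULift.{u} ℤ)))} (a b : W ⟶ FrB.GLZ n)
    (h : ∀ i j, Points.algHomOf a (CoordGrp.GLn.X i j) = Points.algHomOf b (CoordGrp.GLn.X i j)) : a = b := by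
  apply Points.algHomOf_injective
  refine CoordGrp.GLn.algHom_ext h ?_
  have hd : Points.algHomOf a CoordGrp.GLn.det = Points.algHomOf b CoordGrp.GLn.det := by
    rw [CoordGrp.GLn.det_eq, AlgHom.map_det, AlgHom.map_det]
    congr 1
    ext i j
    exact h i j
  have h1 := congrArg (Points.algHomOf a) (CoordGrp.GLn.det_mul_Dinv (n := n) (k := ULift.{u} ℤ))
  have h2 := congrArg (Points.algHomOf b) (CoordGrp.GLn.det_mul_Dinv (n := n) (k := ULift.{u} ℤ))
  rw [map_mul, map_one] at h1 h2
  rw [← hd] at h2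
  exact left_inv_eq_right_inv (by rwa [mul_comm] at h1) h2

theorem Rep.isMonHom_toGLn : IsMonHom r.toGLn := one_hom_of_mul _ fun T a b => by
  apply BC.down_injective
  refine glnPoint_ext _ _ fun i j => ?_
  rw [BC.down_mul, Points.algHomOf_mul, CoordGrp.GLn.comul_X]
  simp only [map_sum, Algebra.TensorProduct.lift_tmul, r.toGLn_X, r.mul, Matrix.mul_apply]

theorem Rep.eq_one_of_toGLn (h : r.toGLn = 1) : r.P = 1 := by
  ext i j
  have h1 := r.toGLn_X (𝟙 G) i j
  rw [Category.id_comp, pbM_id, h, BC.down_one, Points.algHomOf_one, CoordGrp.GLn.counit_X] at h1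
  rw [← h1, Matrix.one_apply]
  split_ifs <;> simp

/-! ### The linear action on affine space -/

variable (k n) in
/-- Affine space. -/
abbrev V : Over (Spec (CommRingCat.of k)) :=
  Over.mk (𝔸(ULift.{u} (Fin n); Spec (CommRingCat.of k)) ↘ Spec (CommRingCat.of k))

/-- The coordinates of a point of affine space. -/
def co {T : Over (Spec (CommRingCat.of k))} (x : T ⟶ V k n) (i : Fin n) : Γ(T.left, ⊤) :=
  x.left.appTop (AffineSpace.coord _ (ULift.up i))

theorem co_comp {T T' : Over (Spec (CommRingCat.of k))} (t : T' ⟶ T) (x : T ⟶ V k n) (i : Fin n) :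
    co (t ≫ x) i = t.left.appTop (co x i) := rfl

/-- The point with given coordinates. -/
def mkPt {T : Over (Spec (CommRingCat.of k))} (v : Fin n → Γ(T.left, ⊤)) : T ⟶ V k n :=
  Over.homMk (AffineSpace.homOfVector T.hom fun i => v i.down) (AffineSpace.homOfVector_over _ _)

theorem co_mkPt {T : Over (Spec (CommRingCat.of k))} (v : Fin n → Γ(T.left, ⊤)) (i : Fin n) :
    co (mkPt v) i = v i :=
  AffineSpace.homOfVector_appTop_coord _ _ _

theorem co_ext {T : Over (Spec (CommRingCat.of k))} {x y : T ⟶ V k n} (h : ∀ i, co x i = co y i) : x = y :=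
  Over.OverMorphism.ext (AffineSpace.hom_ext ((Over.w x).trans (Over.w y).symm) fun i => h i.down)

/-- The morphism of the action. -/
def Rep.actHom : G ⊗ V k n ⟶ V k n :=
  mkPt fun i => ∑ j, pbM (fst G (V k n)) r.P i j * co (snd G (V k n)) j

theorem Rep.co_act {T : Over (Spec (CommRingCat.of k))} (g : T ⟶ G) (x : T ⟶ V k n) (i : Fin n) :
    co (lift g x ≫ r.actHom) i = ∑ j, pbM g r.P i j * co x j := by
  rw [co_comp, Rep.actHom, co_mkPt, map_sum]
  refine Finset.sum_congr rfl fun j _ => ?_
  rw [map_mul, ← co_comp, lift_snd]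
  congr 1
  exact congrFun (congrFun ((pbM_comp (lift g x) (fst G (V k n)) r.P).symm.trans
    (congrArg (fun z => pbM z r.P) (lift_fst g x))) i) j

/-- The linear action. -/
def Rep.action : AlgGrp.Action G (V k n) :=
  GrpSch.actionMk r.actHom
    (fun T x => co_ext fun i => by simp [r.co_act, r.one, Matrix.one_apply])
    (fun T g h x => co_ext fun i => by
      simp only [r.co_act, r.mul, Matrix.mul_apply, Finset.sum_mul, Finset.mul_sum, _root_.mul_assoc]
      exact Finset.sum_comm)

theorem Rep.action_fixed : r.action.IsFixedPt (mkPt 0 : 𝟙_ _ ⟶ V k n) := fun T g => co_ext fun i => by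
  change co (lift g _ ≫ r.actHom) i = _
  simp [r.co_act, co_comp, co_mkPt]

theorem Rep.eq_one_of_action (h : r.action.act = snd G (V k n)) : r.P = 1 := by
  classical
  ext i j
  have h1 := r.co_act (𝟙 G) (mkPt fun l => if l = j then 1 else 0) i
  rw [show r.actHom = snd G (V k n) from h, lift_snd] at h1
  simp only [co_mkPt, pbM_id, mul_ite, _root_.mul_one, mul_zero, Finset.sum_ite_eq', Finset.mem_univ,
    if_true] at h1
  rw [← h1, Matrix.one_apply]

/-! ### The module -/

/-- Values of a matrix at affine points. -/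
def Rep.val (B : Type u) [CommRing B] [Algebra k B] : (VecGrp.pt k B ⟶ G) →* Matrix (Fin n) (Fin n) B where
  toFun g := (pbM g r.P).map (Scheme.ΓSpecIso (CommRingCat.of B)).hom.hom
  map_one' := by rw [r.one, Matrix.map_one _ (map_zero _) (map_one _)]
  map_mul' g h := by rw [r.mul, Matrix.map_mul]

theorem Rep.val_naturality {B B' : Type u} [CommRing B] [Algebra k B] [CommRing B'] [Algebra k B']
    (φ : B →ₐ[k] B') (g : VecGrp.pt k B ⟶ G) : r.val B' (VecGrp.ptMap φ ≫ g) = (r.val B g).map φ := by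
  ext i j
  exact ConcreteCategory.congr_hom (Scheme.ΓSpecIso_naturality (CommRingCat.ofHom φ.toRingHom)) _

variable (k n) in
/-- The standard basis of the module. -/
abbrev bas (B : Type u) [CommRing B] [Algebra k B] : Module.Basis (Fin n) B (B ⊗[k] (Fin n → k)) :=
  Algebra.TensorProduct.basis B (Pi.basisFun k (Fin n))

/-- The module structure. -/
def Rep.gmod : VecGrp.GMod G (Fin n → k) where
  ρ B _ _ := (LinearMap.GeneralLinearGroup.generalLinearEquiv B _).toMonoidHom.comp
    ((((Matrix.toLinAlgEquiv (bas k n B)).toMonoidHom).comp (r.val B)).toHomUnits)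
  naturality {B B'} _ _ _ _ φ g x := by
    change VecGrp.Wmap φ (Matrix.toLinAlgEquiv (bas k n B) (r.val B g) x) =
      Matrix.toLinAlgEquiv (bas k n B') (r.val B' (VecGrp.ptMap φ ≫ g)) (VecGrp.Wmap φ x)
    induction x using TensorProduct.induction_on with
    | zero => simp
    | add x y hx hy => simp only [map_add, hx, hy]
    | tmul b v =>
      have hb : ∀ (C : Type u) [CommRing C] [Algebra k C] (c : C) (M : Matrix (Fin n) (Fin n) C),
          Matrix.toLinAlgEquiv (bas k n C) M (c ⊗ₜ v) =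
            ∑ i, (∑ j, M i j * (c * algebraMap k C (v j))) • bas k n C i := by
        intro C _ _ c M
        rw [Matrix.toLinAlgEquiv_apply]
        refine Finset.sum_congr rfl fun i _ => ?_
        congr 1
        simp [Matrix.mulVec, dotProduct, mul_left_comm]
      rw [VecGrp.Wmap_tmul, hb, hb, map_sum, r.val_naturality]
      refine Finset.sum_congr rfl fun i _ => ?_
      rw [VecGrp.Wmap_smul, map_sum]
      simp [Algebra.TensorProduct.basis_apply]

theorem Rep.val_eq_one {B : Type u} [CommRing B] [Algebra k B] (g : VecGrp.pt k B ⟶ G)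
    (h : r.gmod.ρ B g = 1) : r.val B g = 1 := by
  apply (Matrix.toLinAlgEquiv (bas k n B)).injective
  rw [map_one]
  exact congrArg LinearEquiv.toLinearMap h

theorem Rep.eq_one_of_gmod (h : ∀ (B : Type u) [CommRing B] [Algebra k B] (g : VecGrp.pt k B ⟶ G), r.gmod.ρ B g = 1) :
    r.P = 1 := by
  ext i j
  apply (AffineSpace.toSpecMvPolyIntEquiv PUnit.{u+1} (X := G.left)).symm.injective.comp
    (fun a b (hab : (fun _ : PUnit.{u+1} => a) = fun _ => b) => congrFun hab PUnit.unit)
  refine Scheme.Cover.hom_ext G.left.affineCover _ _ fun s => ?_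
  apply (AffineSpace.toSpecMvPolyIntEquiv PUnit.{u+1}).injective
  funext t
  simp only [Function.comp_apply, AffineSpace.toSpecMvPolyIntEquiv_comp, Equiv.apply_symm_apply]
  obtain ⟨_, u, hu⟩ := InfAgree.exists_algebra (X := G) ((G.left.affineCover.X s).isoSpec.inv ≫ G.left.affineCover.f s)
  have h1 := congrFun (congrFun (r.val_eq_one u (h _ u)) i) j
  have : IsIso (G.left.affineCover.X s).isoSpec.inv.appTop :=
    inferInstanceAs (IsIso ((G.left.affineCover.X s).isoSpec.inv.app ⊤))
  apply (ConcreteCategory.bijective_of_isIso (G.left.affineCover.X s).isoSpec.inv.appTop).1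
  apply (ConcreteCategory.bijective_of_isIso (Scheme.ΓSpecIso Γ(G.left.affineCover.X s, ⊤)).hom).1
  have h2 : ∀ z, (Scheme.ΓSpecIso Γ(G.left.affineCover.X s, ⊤)).hom
      ((G.left.affineCover.X s).isoSpec.inv.appTop ((G.left.affineCover.f s).appTop z)) =
      (Scheme.ΓSpecIso Γ(G.left.affineCover.X s, ⊤)).hom (u.left.appTop z) := fun z => by
    rw [hu, Scheme.Hom.comp_appTop]; rfl
  rw [h2, h2]
  refine h1.trans ?_
  rw [Matrix.one_apply, Matrix.one_apply]
  split_ifs
  · exact (map_one (u.left.appTop ≫ (Scheme.ΓSpecIso Γ(G.left.affineCover.X s, ⊤)).hom).hom).symm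
  · exact (map_zero (u.left.appTop ≫ (Scheme.ΓSpecIso Γ(G.left.affineCover.X s, ⊤)).hom).hom).symm

end

end Groth.Agent.Lib.GrpQ.RepMat
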