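import Groth.Prelude.Def_AlgGrp
import Groth.Agent.Lib.GrpSch.Basic
import Mathlib.AlgebraicGeometry.Sites.Fpqc
import Mathlib.AlgebraicGeometry.Morphisms.FlatMono
import Mathlib.AlgebraicGeometry.Morphisms.FiniteType

/-!
# Flat surjective quasi-compact morphisms in `Over S` and quotient maps of group schemes

* `exists_desc`: morphisms constant on the kernel pair descend uniquely.
* `exists_lift`: points lift along a cover; `exists_factor`: factoring through a mono is local for covers.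
* `isIso_of_mono`; kernels: `mem_kernel`, `exists_desc_hom`, `isMonHom_of_cover`.
-/

set_option autoImplicit false

universe u

open CategoryTheory Limits MonoidalCategory CartesianMonoidalCategory MonObj AlgebraicGeometry

namespace Groth.Agent.Lib.GrpQ

variable {S : Scheme.{u}} {T T' G Q H N : Over S}

/-- A flat surjective quasi-compact morphism over `S`. -/
def IsCover (p : T' ⟶ T) : Prop := Flat p.left ∧ Surjective p.left ∧ QuasiCompact p.left

theorem IsCover.mk' (p : T' ⟶ T) [Flat p.left] [Surjective p.left] [QuasiCompact p.left] : IsCover p :=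
  ⟨‹_›, ‹_›, ‹_›⟩

theorem IsCover.comp {T'' : Over S} {p : T' ⟶ T} {p' : T'' ⟶ T'} (h' : IsCover p') (h : IsCover p) :
    IsCover (p' ≫ p) := by
  obtain ⟨h1, h2, h3⟩ := h
  obtain ⟨h1', h2', h3'⟩ := h'
  refine ⟨?_, ?_, ?_⟩ <;> rw [Over.comp_left] <;> infer_instance

theorem IsCover.id (T : Over S) : IsCover (𝟙 T) := by
  refine ⟨?_, ?_, ?_⟩ <;> rw [Over.id_left] <;> infer_instance

theorem exists_desc {p : T' ⟶ T} (hp : IsCover p) (φ : T' ⟶ H)
    (h : ∀ (Z : Over S) (x y : Z ⟶ T'), x ≫ p = y ≫ p → x ≫ φ = y ≫ φ) :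
    ∃ φ' : T ⟶ H, p ≫ φ' = φ := by
  obtain ⟨h1, h2, h3⟩ := hp
  have key : ∀ {Z : Scheme.{u}} (g₁ g₂ : Z ⟶ T'.left), g₁ ≫ p.left = g₂ ≫ p.left →
      g₁ ≫ φ.left = g₂ ≫ φ.left := by
    intro Z g₁ g₂ hg
    have hw : g₂ ≫ T'.hom = g₁ ≫ T'.hom := by rw [← Over.w p, reassoc_of% hg]
    exact congr($(h (Over.mk (g₁ ≫ T'.hom)) (Over.homMk g₁ rfl) (Over.homMk g₂ hw)
      (Over.OverMorphism.ext hg)).left)
  refine ⟨Over.homMk (EffectiveEpi.desc p.left φ.left key) ?_, Over.OverMorphism.ext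
    (EffectiveEpi.fac p.left φ.left key)⟩
  rw [← cancel_epi p.left, EffectiveEpi.fac_assoc p.left φ.left key, Over.w, Over.w]

theorem IsCover.epi {p : T' ⟶ T} (hp : IsCover p) : Epi p := by
  obtain ⟨h1, h2, h3⟩ := hp
  exact ⟨fun a b hab => Over.OverMorphism.ext ((cancel_epi p.left).1 congr($(hab).left))⟩

theorem cancel_cover {p : T' ⟶ T} (hp : IsCover p) {a b : T ⟶ H} (h : p ≫ a = p ≫ b) : a = b :=
  have := hp.epi
  (cancel_epi p).1 h

/-- Points of the target lift along a cover after a cover. -/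
theorem exists_lift {q : G ⟶ Q} (hq : IsCover q) (y : T ⟶ Q) :
    ∃ (T' : Over S) (p : T' ⟶ T) (x : T' ⟶ G), IsCover p ∧ x ≫ q = p ≫ y := by
  obtain ⟨h1, h2, h3⟩ := hq
  refine ⟨Over.mk (pullback.fst y.left q.left ≫ T.hom), Over.homMk (pullback.fst y.left q.left) rfl,
    Over.homMk (pullback.snd y.left q.left) ?_,
    ⟨inferInstanceAs (Flat (pullback.fst y.left q.left)),
      inferInstanceAs (Surjective (pullback.fst y.left q.left)),
      inferInstanceAs (QuasiCompact (pullback.fst y.left q.left))⟩,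
    Over.OverMorphism.ext pullback.condition.symm⟩
  show pullback.snd y.left q.left ≫ G.hom = pullback.fst y.left q.left ≫ T.hom
  rw [← Over.w q, ← reassoc_of% pullback.condition (f := y.left) (g := q.left), Over.w y]

/-- Factoring through a monomorphism is local for covers. -/
theorem exists_factor (i : N ⟶ G) [Mono i] (x : T ⟶ G) {p : T' ⟶ T} (hp : IsCover p)
    (z : T' ⟶ N) (hz : z ≫ i = p ≫ x) : ∃ w : T ⟶ N, w ≫ i = x := by
  obtain ⟨w, hw⟩ := exists_desc hp z fun _ _ _ hab => by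
    rw [← cancel_mono i, Category.assoc, Category.assoc, hz, reassoc_of% hab]
  exact ⟨w, cancel_cover hp (by rw [reassoc_of% hw, hz])⟩

theorem isIso_of_mono (q : G ⟶ Q) [Mono q] (hq : IsCover q) : IsIso q := by
  obtain ⟨s, hs⟩ := exists_desc hq (𝟙 G) fun _ _ _ hab => by
    rw [(cancel_mono q).1 hab]
  exact ⟨s, hs, cancel_cover hq (by rw [reassoc_of% hs, Category.comp_id])⟩

theorem mono_of_left (i : N ⟶ G) [Mono i.left] : Mono i :=
  ⟨fun _ _ h => Over.OverMorphism.ext ((cancel_mono i.left).1 congr($(h).left))⟩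

/-! ### Over a field -/

section Field

variable {k : Type u} [Field k] {A B : Over (Spec (CommRingCat.of k))}

theorem locallyOfFiniteType_left (f : A ⟶ B) [LocallyOfFiniteType A.hom] : LocallyOfFiniteType f.left :=
  have : LocallyOfFiniteType (f.left ≫ B.hom) := by rw [Over.w]; infer_instance
  locallyOfFiniteType_of_comp f.left B.hom

theorem quasiCompact_left (f : A ⟶ B) [QuasiCompact A.hom] [GrpObj B] : QuasiCompact f.left :=
  have := GrpSch.isSeparated_of_field B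
  have : QuasiCompact (f.left ≫ B.hom) := by rw [Over.w]; infer_instance
  QuasiCompact.of_comp f.left B.hom

theorem isCover_hom (q : A ⟶ B) [QuasiCompact A.hom] [GrpObj B] [Flat q.left] [Surjective q.left] :
    IsCover q :=
  ⟨‹_›, ‹_›, quasiCompact_left q⟩

end Field

/-! ### Kernels -/

section Kernel

variable [GrpObj Q] {i : N ⟶ G} {q : G ⟶ Q}

theorem kernel_mono (hK : AlgGrp.IsKernel i q) : Mono i :=
  ⟨fun _ _ h => hK.hom_ext h (toUnit_unique _ _)⟩

theorem kernel_comp (hK : AlgGrp.IsKernel i q) : i ≫ q = 1 := by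
  rw [hK.w, Hom.one_def]

theorem mem_kernel (hK : AlgGrp.IsKernel i q) (x : T ⟶ G) : (∃ n : T ⟶ N, n ≫ i = x) ↔ x ≫ q = 1 := by
  refine ⟨?_, fun h => ?_⟩
  · rintro ⟨n, rfl⟩
    rw [Category.assoc, kernel_comp hK, MonObj.comp_one]
  · exact ⟨hK.lift x (toUnit _) (by rw [h, Hom.one_def]), hK.lift_fst _ _ _⟩

theorem isKernel_of (i : N ⟶ G) [Mono i] (hiq : i ≫ q = 1)
    (h : ∀ (T : Over S) (x : T ⟶ G), x ≫ q = 1 → ∃ n : T ⟶ N, n ≫ i = x) : AlgGrp.IsKernel i q := by
  have hw : i ≫ q = toUnit N ≫ η[Q] := by rw [hiq, Hom.one_def]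
  have hs : ∀ s : PullbackCone q η[Q], s.fst ≫ q = 1 := fun s => by
    rw [s.condition, Hom.one_def, toUnit_unique s.snd (toUnit _)]
  exact ⟨⟨hw⟩, ⟨PullbackCone.IsLimit.mk hw (fun s => (h _ s.fst (hs s)).choose)
    (fun s => (h _ s.fst (hs s)).choose_spec) (fun s => toUnit_unique _ _)
    (fun s m h1 _ => by rw [← cancel_mono i, h1, (h _ s.fst (hs s)).choose_spec])⟩⟩

variable [GrpObj G] [IsMonHom q]

/-- A homomorphism trivial on the kernel is constant on the fibres of the quotient map. -/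
theorem comp_eq_of_kernel [GrpObj H] (hK : AlgGrp.IsKernel i q) (φ : G ⟶ H) [IsMonHom φ]
    (hφ : i ≫ φ = toUnit N ≫ η[H]) (x y : T ⟶ G) (h : x ≫ q = y ≫ q) : x ≫ φ = y ≫ φ := by
  obtain ⟨n, hn⟩ := (mem_kernel hK (x⁻¹ * y)).2 (by
    rw [MonObj.mul_comp, GrpObj.inv_comp, h, inv_mul_cancel])
  have : (x⁻¹ * y) ≫ φ = 1 := by
    rw [← hn, Category.assoc, hφ, ← Category.assoc, toUnit_unique (n ≫ toUnit N) (toUnit T), Hom.one_def]
  rw [MonObj.mul_comp, GrpObj.inv_comp, inv_mul_eq_one] at this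
  exact this

end Kernel

/-- Being a homomorphism descends along a cover homomorphism. -/
theorem isMonHom_of_cover [GrpObj G] [GrpObj Q] [GrpObj H] {q : G ⟶ Q} [IsMonHom q] (hq : IsCover q)
    (φ' : Q ⟶ H) [IsMonHom (q ≫ φ')] : IsMonHom φ' := by
  refine ⟨?_, ?_⟩
  · rw [← IsMonHom.one_hom (f := q), Category.assoc, IsMonHom.one_hom (f := q ≫ φ')]
  · have h2 : ∀ (T : Over S) (y₁ y₂ : T ⟶ Q), (y₁ * y₂) ≫ φ' = (y₁ ≫ φ') * (y₂ ≫ φ') := by
      intro T y₁ y₂
      obtain ⟨T₁, p₁, x₁, hp₁, hx₁⟩ := exists_lift hq y₁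
      obtain ⟨T₂, p₂, x₂, hp₂, hx₂⟩ := exists_lift hq (p₁ ≫ y₂)
      refine cancel_cover (hp₂.comp hp₁) ?_
      have e₁ : (p₂ ≫ p₁) ≫ y₁ = (p₂ ≫ x₁) ≫ q := by simp only [Category.assoc, hx₁]
      have e₂ : (p₂ ≫ p₁) ≫ y₂ = x₂ ≫ q := by simp only [Category.assoc, hx₂]
      rw [← Category.assoc, MonObj.comp_mul, MonObj.comp_mul, ← Category.assoc _ y₁, ← Category.assoc _ y₂,
        e₁, e₂, ← MonObj.mul_comp, Category.assoc, MonObj.mul_comp, Category.assoc _ q, Category.assoc _ q]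
    have := h2 (Q ⊗ Q) (fst Q Q) (snd Q Q)
    rw [Hom.mul_def, lift_fst_snd, Category.id_comp] at this
    rw [this, Hom.mul_def, ← lift_fst_comp_snd_comp]

end Groth.Agent.Lib.GrpQ
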