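import Groth.Prelude.Def_AlgGrp
import Groth.Agent.Lib.RedPts.Points
import Groth.Agent.Lib.GrpQ.Desc
import Mathlib.RingTheory.Jacobson.Ring
import Mathlib.Algebra.CharP.Lemmas
import Mathlib.Algebra.CharP.Algebra

/-!
Infinitesimal subgroups: for an affine neighbourhood `Spec O` of the unit and a power `q` of the
characteristic exponent, the subscheme cut out by the `q`-th powers of the augmentation ideal.
-/

set_option autoImplicit false

universe u

open CategoryTheory Limits MonoidalCategory CartesianMonoidalCategory MonObj AlgebraicGeometry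
open TensorProduct
open Groth.Agent.Lib.RedPts.Points

namespace Groth.Agent.Lib.GrpQ.InfSub

noncomputable section

variable {k : Type u} [Field k]

attribute [local instance] baseAlgebra

/-- An algebra with a point in which `a ^ q` only depends on the value of `a` at the point. -/
def IsQPt (q : ℕ) {A : Type u} [CommRing A] [Algebra k A] (e : A →ₐ[k] k) : Prop :=
  ∀ a : A, a ^ q = algebraMap k A (e a ^ q)

theorem IsQPt.isNilpotent {q : ℕ} {A : Type u} [CommRing A] [Algebra k A]
    {e : A →ₐ[k] k} (h : IsQPt q e) (hq : q ≠ 0) {a : A} (ha : e a = 0) : IsNilpotent a :=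
  ⟨q, by rw [h a, ha, zero_pow hq, map_zero]⟩

theorem IsQPt.subsingleton {q : ℕ} {A : Type u} [CommRing A] [Algebra k A] {e : A →ₐ[k] k}
    (h : IsQPt q e) (hq : q ≠ 0) : Subsingleton (PrimeSpectrum A) := by
  refine ⟨fun x y => PrimeSpectrum.ext ?_⟩
  have key : ∀ z : PrimeSpectrum A, z.asIdeal = RingHom.ker e := fun z => by
    have h1 : RingHom.ker e ≤ z.asIdeal := fun a ha =>
      nilpotent_iff_mem_prime.1 (h.isNilpotent hq ha) z.asIdeal z.isPrime
    have hmax : (RingHom.ker e).IsMaximal :=
      RingHom.ker_isMaximal_of_surjective e fun c => ⟨algebraMap k A c, e.commutes c⟩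
    exact (hmax.eq_of_le z.isPrime.ne_top h1).symm
  rw [key x, key y]

/-- The point of a tensor product. -/
def tPt {A B : Type u} [CommRing A] [Algebra k A] [CommRing B] [Algebra k B]
    (e : A →ₐ[k] k) (e' : B →ₐ[k] k) : A ⊗[k] B →ₐ[k] k :=
  Algebra.TensorProduct.lift e e' fun _ _ => Commute.all _ _

theorem IsQPt.tensor (p n : ℕ) [ExpChar k p] {A B : Type u} [CommRing A] [Algebra k A] [CommRing B]
    [Algebra k B] {e : A →ₐ[k] k} {e' : B →ₐ[k] k}
    (h : IsQPt (p ^ n) e) (h' : IsQPt (p ^ n) e') : IsQPt (p ^ n) (tPt e e') := by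
  have : Nontrivial (A ⊗[k] B) := (tPt e e').toRingHom.domain_nontrivial
  have : ExpChar (A ⊗[k] B) p :=
    expChar_of_injective_algebraMap (algebraMap k (A ⊗[k] B)).injective p
  intro z
  induction z using TensorProduct.induction_on with
  | zero =>
    have hp : p ^ n ≠ 0 := pow_ne_zero _ (expChar_pos k p).ne'
    simp [zero_pow hp]
  | add a b ha hb => rw [add_pow_expChar_pow, map_add, add_pow_expChar_pow, map_add, ha, hb]
  | tmul a b =>
    rw [Algebra.TensorProduct.tmul_pow, h a, h' b]
    simp [tPt, mul_pow, Algebra.TensorProduct.one_def, TensorProduct.smul_tmul',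
      TensorProduct.tmul_smul, Algebra.algebraMap_eq_smul_one, smul_smul, mul_comm]

theorem IsQPt.base (q : ℕ) : IsQPt q (AlgHom.id k k) := fun a => by simp

/-- A map of pointed algebras. -/
theorem IsQPt.of_surjective {q : ℕ} {A B : Type u} [CommRing A] [Algebra k A] [CommRing B] [Algebra k B]
    {e : A →ₐ[k] k} {e' : B →ₐ[k] k} (h : IsQPt q e) (f : A →ₐ[k] B) (hf : Function.Surjective f)
    (he : e'.comp f = e) : IsQPt q e' := fun b => by
  obtain ⟨a, rfl⟩ := hf b
  rw [← map_pow, h a, AlgHom.commutes, ← he]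
  rfl

variable (k) in
/-- The scheme of an algebra. -/
abbrev sp (A : Type u) [CommRing A] [Algebra k A] : Over (Spec (CommRingCat.of k)) :=
  (Spec (CommRingCat.of A)).asOver (Spec (CommRingCat.of k))

/-- The morphism of an algebra map. -/
def spMap {A B : Type u} [CommRing A] [Algebra k A] [CommRing B] [Algebra k B] (f : A →ₐ[k] B) :
    sp k B ⟶ sp k A :=
  Over.homMk (Spec.map (CommRingCat.ofHom f.toRingHom)) (by
    change Spec.map _ ≫ Spec.map _ = Spec.map _
    rw [← Spec.map_comp, ← CommRingCat.ofHom_comp]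
    congr 2
    exact f.comp_algebraMap)

theorem spMap_left {A B : Type u} [CommRing A] [Algebra k A] [CommRing B] [Algebra k B] (f : A →ₐ[k] B) :
    (spMap f).left = Spec.map (CommRingCat.ofHom f.toRingHom) := rfl

theorem spMap_comp {A B C : Type u} [CommRing A] [Algebra k A] [CommRing B] [Algebra k B] [CommRing C]
    [Algebra k C] (f : A →ₐ[k] B) (g : B →ₐ[k] C) : spMap (g.comp f) = spMap g ≫ spMap f := by
  ext1
  rw [Over.comp_left, spMap_left, spMap_left, spMap_left]
  exact Spec.map_comp (CommRingCat.ofHom f.toRingHom) (CommRingCat.ofHom g.toRingHom)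

/-- The point `𝟙 ⟶ Spec A` of an algebra map `A → k`. -/
def ptOf {A : Type u} [CommRing A] [Algebra k A] (e : A →ₐ[k] k) :
    𝟙_ (Over (Spec (CommRingCat.of k))) ⟶ sp k A :=
  Over.homMk (Spec.map (CommRingCat.ofHom e.toRingHom)) (by
    change Spec.map _ ≫ Spec.map _ = 𝟙 _
    rw [← Spec.map_comp, ← CommRingCat.ofHom_comp, ← Spec.map_id]
    congr 2
    exact e.comp_algebraMap)

section Main

variable {N : Over (Spec (CommRingCat.of k))} {O : Type u} [CommRing O] [Algebra k O]
  (j : sp k O ⟶ N) (eO : O →ₐ[k] k) (q : ℕ)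

/-- The ideal of `q`-th powers of the augmentation ideal. -/
def frobIdeal : Ideal O := Ideal.span {a | ∃ b, eO b = 0 ∧ b ^ q = a}

/-- The coordinate ring of the infinitesimal subgroup. -/
abbrev infRing : Type u := O ⧸ frobIdeal eO q

theorem frobIdeal_le (hq : q ≠ 0) : frobIdeal eO q ≤ RingHom.ker eO := by
  rw [frobIdeal, Ideal.span_le]
  rintro _ ⟨b, hb, rfl⟩
  rw [SetLike.mem_coe, RingHom.mem_ker, map_pow, hb, zero_pow hq]

/-- The point of the infinitesimal subgroup. -/
def infPt (hq : q ≠ 0) : infRing eO q →ₐ[k] k :=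
  Ideal.Quotient.liftₐ (frobIdeal eO q) eO fun _ ha => frobIdeal_le eO q hq ha

theorem isQPt_inf (p n : ℕ) [ExpChar k p] (hq : p ^ n ≠ 0) : IsQPt (p ^ n) (infPt eO (p ^ n) hq) := by
  have : Nontrivial (infRing eO (p ^ n)) := (infPt eO (p ^ n) hq).toRingHom.domain_nontrivial
  have : ExpChar (infRing eO (p ^ n)) p :=
    expChar_of_injective_algebraMap (algebraMap k (infRing eO (p ^ n))).injective p
  intro a
  obtain ⟨a, rfl⟩ := Ideal.Quotient.mk_surjective a
  have h0 : Ideal.Quotient.mk (frobIdeal eO (p ^ n)) (a - algebraMap k O (eO a)) ^ p ^ n = 0 := by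
    rw [← map_pow, Ideal.Quotient.eq_zero_iff_mem]
    exact Ideal.subset_span ⟨_, by simp, rfl⟩
  rw [map_sub, sub_pow_expChar_pow, sub_eq_zero] at h0
  rw [h0]
  simp [infPt, ← map_pow]

/-- The inclusion of the infinitesimal subgroup. -/
def infIncl : sp k (infRing eO q) ⟶ N := spMap (Ideal.Quotient.mkₐ k (frobIdeal eO q)) ≫ j

theorem mono_infIncl [IsOpenImmersion j.left] : Mono (infIncl j eO q) := by
  have : Mono (infIncl j eO q).left := by
    rw [infIncl, Over.comp_left, spMap_left]
    have hm : Mono j.left := IsOpenImmersion.mono j.left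
    have : IsClosedImmersion (Spec.map (CommRingCat.ofHom (Ideal.Quotient.mkₐ k (frobIdeal eO q)).toRingHom)) :=
      IsClosedImmersion.spec_of_surjective _ Ideal.Quotient.mk_surjective
    exact @mono_comp _ _ _ _ _ (Spec.map (CommRingCat.ofHom (Ideal.Quotient.mkₐ k (frobIdeal eO q)).toRingHom)) inferInstance j.left hm
  exact GrpQ.mono_of_left _

/-- A pointed `q`-algebra point at the centre factors through the infinitesimal subgroup. -/
theorem exists_factor (hq : q ≠ 0) [IsOpenImmersion j.left] {A : Type u} [CommRing A] [Algebra k A]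
    (eA : A →ₐ[k] k) (hA : IsQPt q eA) (x : sp k A ⟶ N) (hx : ptOf eA ≫ x = ptOf eO ≫ j) :
    ∃ x' : sp k A ⟶ sp k (infRing eO q), x' ≫ infIncl j eO q = x := by
  have : Subsingleton ↥(sp k A).left := hA.subsingleton hq
  have hrange : Set.range x.left ⊆ Set.range j.left := by
    rintro _ ⟨z, rfl⟩
    let s : ↥(𝟙_ (Over (Spec (CommRingCat.of k)))).left := IsLocalRing.closedPoint k
    have : z = (ptOf eA).left s := Subsingleton.elim _ _
    rw [this]
    exact ⟨(ptOf eO).left s, congr($(hx).left s).symm⟩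
  let y : (sp k A).left ⟶ (sp k O).left := IsOpenImmersion.lift j.left x.left hrange
  have hy : y ≫ j.left = x.left := IsOpenImmersion.lift_fac _ _ _
  let y' : sp k A ⟶ sp k O := Over.homMk y (by rw [← Over.w j, reassoc_of% hy, Over.w])
  have hy' : y' ≫ j = x := by ext1; exact hy
  have : Mono j.left := inferInstance
  have := GrpQ.mono_of_left j
  obtain ⟨φ, hφ⟩ : ∃ φ : O →ₐ[k] A, spMap φ = y' := by
    refine ⟨⟨(Spec.preimage y'.left).hom, fun r => ?_⟩, ?_⟩
    · have hw := y'.w
      have h2 : CommRingCat.ofHom (algebraMap k O) ≫ Spec.preimage y'.left = CommRingCat.ofHom (algebraMap k A) := by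
        apply Spec.map_injective
        rw [Spec.map_comp, Spec.map_preimage]
        simpa using! hw
      exact congr($h2 r)
    · ext1
      exact Spec.map_preimage _
  have hpt : eA.comp φ = eO := by
    have h1 : ptOf eA ≫ y' = ptOf eO := by
      rw [← cancel_mono j, Category.assoc, hy', hx]
    rw [← hφ] at h1
    have h2 := congr($(h1).left)
    change Spec.map _ ≫ Spec.map _ = Spec.map _ at h2
    rw [← Spec.map_comp] at h2
    exact AlgHom.coe_ringHom_injective (congrArg CommRingCat.Hom.hom (Spec.map_injective h2))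
  have hkill : ∀ a ∈ frobIdeal eO q, φ a = 0 := fun a ha => by
    have h1 : frobIdeal eO q ≤ RingHom.ker φ := by
      rw [frobIdeal, Ideal.span_le]
      rintro _ ⟨b, hb, rfl⟩
      rw [SetLike.mem_coe, RingHom.mem_ker, map_pow, hA, ← AlgHom.comp_apply, hpt, hb, zero_pow hq, map_zero]
    exact h1 ha
  refine ⟨spMap (Ideal.Quotient.liftₐ (frobIdeal eO q) φ hkill), ?_⟩
  rw [infIncl, ← Category.assoc, ← spMap_comp, Ideal.Quotient.liftₐ_comp, hφ, hy']

end Main

/-- A monomorphism through which the unit, the product and the inverse factor is a subgroup. -/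
theorem exists_grpObj_of_mono {S : Scheme.{u}} {G N : Over S} [GrpObj G] (i : N ⟶ G) [Mono i]
    (h1 : ∃ e, e ≫ i = η[G]) (h2 : ∃ m, m ≫ i = (fst N N ≫ i) * (snd N N ≫ i)) (h3 : ∃ v, v ≫ i = i⁻¹) :
    ∃ _ : GrpObj N, IsMonHom i := by
  obtain ⟨e₁, he₁⟩ := h1
  obtain ⟨m, hm⟩ := h2
  obtain ⟨v, hv⟩ := h3
  have hm' : ∀ {T : Over S} (f : T ⟶ N ⊗ N), f ≫ m ≫ i = (f ≫ fst N N ≫ i) * (f ≫ snd N N ≫ i) := fun f => by
    rw [hm, MonObj.comp_mul]
  let instMon : MonObj N :=
    { one := e₁
      mul := m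
      one_mul := by
        rw [← cancel_mono i, Category.assoc, hm', whiskerRight_fst_assoc, whiskerRight_snd_assoc, he₁,
          toUnit_unique (fst (𝟙_ (Over S)) N) (toUnit _), ← Hom.one_def, _root_.one_mul]
        simp [leftUnitor_hom]
      mul_one := by
        rw [← cancel_mono i, Category.assoc, hm', whiskerLeft_fst_assoc, whiskerLeft_snd_assoc, he₁,
          toUnit_unique (snd N (𝟙_ (Over S))) (toUnit _), ← Hom.one_def, _root_.mul_one]
        simp [rightUnitor_hom]
      mul_assoc := by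
        rw [← cancel_mono i]
        simp only [Category.assoc, hm, MonObj.comp_mul, whiskerRight_fst_assoc, whiskerRight_snd_assoc,
          whiskerLeft_fst_assoc, whiskerLeft_snd_assoc, associator_hom_fst_assoc,
          associator_hom_snd_fst_assoc, associator_hom_snd_snd_assoc, _root_.mul_assoc] }
  let instGrp : GrpObj N :=
    { inv := v
      left_inv := by
        rw [← cancel_mono i, Category.assoc]
        change lift v (𝟙 N) ≫ m ≫ i = (toUnit N ≫ e₁) ≫ i
        rw [hm', lift_fst_assoc, lift_snd_assoc, hv, Category.id_comp, inv_mul_cancel, Category.assoc, he₁,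
          Hom.one_def]
      right_inv := by
        rw [← cancel_mono i, Category.assoc]
        change lift (𝟙 N) v ≫ m ≫ i = (toUnit N ≫ e₁) ≫ i
        rw [hm', lift_fst_assoc, lift_snd_assoc, hv, Category.id_comp, mul_inv_cancel, Category.assoc, he₁,
          Hom.one_def] }
  refine ⟨instGrp, he₁, ?_⟩
  change m ≫ i = _
  rw [hm, Hom.mul_def]
  congr 1

section Group

variable {N : Over (Spec (CommRingCat.of k))} [GrpObj N] {O : Type u} [CommRing O] [Algebra k O]
  (j : sp k O ⟶ N) [IsOpenImmersion j.left] (eO : O →ₐ[k] k)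

/-- The infinitesimal subscheme is a subgroup. -/
theorem exists_infSubgroup (hj : ptOf eO ≫ j = η[N]) (p n : ℕ) [ExpChar k p] :
    ∃ _ : GrpObj (sp k (infRing eO (p ^ n))), IsMonHom (infIncl j eO (p ^ n)) := by
  have hq : p ^ n ≠ 0 := pow_ne_zero _ (expChar_pos k p).ne'
  have := mono_infIncl j eO (p ^ n)
  let e := infPt eO (p ^ n) hq
  have hA := isQPt_inf eO p n hq
  have hpt : ptOf e ≫ infIncl j eO (p ^ n) = η[N] := by
    rw [infIncl, ← hj, ← Category.assoc]
    congr 1
    ext1
    rw [Over.comp_left]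
    exact (Spec.map_comp _ _).symm
  refine exists_grpObj_of_mono _ ⟨ptOf e, hpt⟩ ?_ ?_
  · let R := infRing eO (p ^ n)
    let π₁ : sp k (R ⊗[k] R) ⟶ sp k R := spMap Algebra.TensorProduct.includeLeft
    let π₂ : sp k (R ⊗[k] R) ⟶ sp k R := spMap Algebra.TensorProduct.includeRight
    let cmp : sp k R ⊗ sp k R ⟶ sp k (R ⊗[k] R) :=
      Over.homMk (pullbackSpecIso k R R).hom (by
        change (pullbackSpecIso k R R).hom ≫ Spec.map (CommRingCat.ofHom (algebraMap k (R ⊗[k] R))) =
          pullback.fst _ _ ≫ Spec.map (CommRingCat.ofHom (algebraMap k R))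
        rw [← pullbackSpecIso_hom_fst k R R, Category.assoc, ← Spec.map_comp]
        rfl)
    have h₁ : cmp ≫ π₁ = fst _ _ := by
      ext1
      rw [Over.comp_left]
      exact pullbackSpecIso_hom_fst k R R
    have h₂ : cmp ≫ π₂ = snd _ _ := by
      ext1
      rw [Over.comp_left]
      exact pullbackSpecIso_hom_snd k R R
    have hp1 : ptOf (tPt e e) ≫ π₁ = ptOf e := by
      ext1
      rw [Over.comp_left]
      refine (Spec.map_comp _ _).symm.trans ?_
      congr 1
      ext1
      exact RingHom.ext fun r => by simp [tPt, e]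
    have hp2 : ptOf (tPt e e) ≫ π₂ = ptOf e := by
      ext1
      rw [Over.comp_left]
      refine (Spec.map_comp _ _).symm.trans ?_
      congr 1
      ext1
      exact RingHom.ext fun r => by simp [tPt, e]
    obtain ⟨y, hy⟩ := exists_factor j eO (p ^ n) hq (tPt e e) (hA.tensor p n hA)
      ((π₁ ≫ infIncl j eO (p ^ n)) * (π₂ ≫ infIncl j eO (p ^ n))) (by
        rw [MonObj.comp_mul, reassoc_of% hp1, reassoc_of% hp2, hpt, hj,
          show η[N] = (1 : 𝟙_ _ ⟶ N) by rw [Hom.one_def, toUnit_unique (toUnit _) (𝟙 _), Category.id_comp],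
          _root_.one_mul])
    exact ⟨cmp ≫ y, by rw [Category.assoc, hy, MonObj.comp_mul, reassoc_of% h₁, reassoc_of% h₂]⟩
  · exact exists_factor j eO (p ^ n) hq e hA _ (by
      rw [GrpObj.comp_inv, hpt, hj,
        show η[N] = (1 : 𝟙_ _ ⟶ N) by rw [Hom.one_def, toUnit_unique (toUnit _) (𝟙 _), Category.id_comp], inv_one])

end Group


end

end Groth.Agent.Lib.GrpQ.InfSub
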