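import Groth.Agent.Lib.GrpQ.Desc
import Groth.Agent.Lib.GrpSch.Translate
import Groth.Agent.Lib.GrpSch.SmoothReduced
import Groth.Agent.H47.GenericFlat
import Groth.Agent.H87.Loci

/-!
# Surjective homomorphisms onto smooth groups are flat
-/

set_option autoImplicit false

universe u

open CategoryTheory Limits MonoidalCategory CartesianMonoidalCategory MonObj AlgebraicGeometry

namespace Groth.Agent.Lib.GrpQ

/-- Over an algebraically closed field, a surjective homomorphism onto a reduced group is flat. -/
theorem flat_of_surjective_of_isReduced {k : Type u} [Field k] [IsAlgClosed k]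
    {G H : Over (Spec (CommRingCat.of k))} [GrpObj G] [GrpObj H] [LocallyOfFiniteType G.hom]
    [QuasiCompact G.hom] [LocallyOfFiniteType H.hom] [QuasiCompact H.hom] [IsReduced H.left]
    (f : G ⟶ H) [IsMonHom f] [Surjective f.left] : Flat f.left := by
  have : IsLocallyNoetherian H.left := LocallyOfFiniteType.isLocallyNoetherian H.hom
  have : CompactSpace H.left := QuasiCompact.compactSpace_of_compactSpace H.hom
  have : IsNoetherian H.left := ⟨⟩
  let x : H.left := η[H].left (IsLocalRing.closedPoint k)
  let V : H.left.Opens :=
    ⟨(⋃₀ (irreducibleComponents H.left \ {irreducibleComponent x}))ᶜ, by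
      rw [Set.sUnion_eq_biUnion, isOpen_compl_iff]
      exact TopologicalSpace.NoetherianSpace.finite_irreducibleComponents.sdiff.isClosed_biUnion
        fun W hW ↦ isClosed_of_mem_irreducibleComponents W hW.1⟩
  have hV : closure (V : Set H.left) = irreducibleComponent x :=
    closure_sUnion_irreducibleComponents_sdiff_singleton
      TopologicalSpace.NoetherianSpace.finite_irreducibleComponents
      _ (irreducibleComponent_mem_irreducibleComponents x)
  have : AlgebraicGeometry.IsIntegral (V : Scheme.{u}) :=
    have : IrreducibleSpace (V : Scheme.{u}) := isIrreducible_iff_irreducibleSpace.mp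
      (isIrreducible_iff_closure.mp (hV ▸ isIrreducible_irreducibleComponent))
    isIntegral_of_irreducibleSpace_of_isReduced _
  have : LocallyOfFiniteType f.left := locallyOfFiniteType_left f
  have : QuasiCompact f.left := quasiCompact_left f
  have : LocallyOfFiniteType (f.left ∣_ V) :=
    MorphismProperty.of_isPullback (isPullback_morphismRestrict f.left V).flip inferInstance
  have : QuasiCompact (f.left ∣_ V) :=
    MorphismProperty.of_isPullback (isPullback_morphismRestrict f.left V).flip inferInstance
  have : MorphismProperty.RespectsIso (@Flat : MorphismProperty Scheme.{u}) :=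
    MorphismProperty.IsStableUnderBaseChange.respectsIso
  obtain ⟨A, u, hu, hη, hflat⟩ := H47.GenericFlat.exists_flat_affine (f.left ∣_ V)
  let v : Spec A ⟶ H.left := u ≫ V.ι
  have hv : Flat (pullback.snd f.left v) := by
    have sq : IsPullback (pullback.snd (f.left ∣_ V) u) (pullback.fst (f.left ∣_ V) u ≫ (f.left ⁻¹ᵁ V).ι)
        v f.left :=
      (IsPullback.of_hasPullback (f.left ∣_ V) u).flip.paste_vert (isPullback_morphismRestrict f.left V)
    rw [← sq.flip.isoPullback_inv_snd]
    infer_instance
  have : IsZariskiLocalAtTarget (@Flat : MorphismProperty Scheme.{u}) :=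
    HasRingHomProperty.instIsZariskiLocalAtTarget _
  refine GrpSch.forall_of_open_of_surjective (P := (@Flat : MorphismProperty Scheme.{u})) f v.opensRange ?_ ?_
  · obtain ⟨a, -⟩ := hη
    exact ⟨v a, a, rfl⟩
  · exact ((MorphismProperty.arrow_mk_iso_iff _ (morphismRestrictOpensRange f.left v)).2 hv)

/-- A surjective homomorphism onto a smooth group is flat. -/
theorem flat_of_surjective_of_smooth {k : Type u} [Field k]
    {G H : Over (Spec (CommRingCat.of k))} [GrpObj G] [GrpObj H] [LocallyOfFiniteType G.hom]
    [QuasiCompact G.hom] [LocallyOfFiniteType H.hom] [QuasiCompact H.hom] [Smooth H.hom]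
    (f : G ⟶ H) [IsMonHom f] [Surjective f.left] : Flat f.left := by
  let K := AlgebraicClosure k
  let b := GrpSch.extBase k K
  have : Smooth (Red.bc b H).hom := GrpSch.bc_hom_of (P := @Smooth) b H ‹_›
  have : IsReduced (Red.bc b H).left := GrpSch.isReduced_of_smooth_field (Red.bc b H).hom
  have : LocallyOfFiniteType (Red.bc b G).hom := GrpSch.bc_hom_of (P := @LocallyOfFiniteType) b G ‹_›
  have : LocallyOfFiniteType (Red.bc b H).hom := GrpSch.bc_hom_of (P := @LocallyOfFiniteType) b H ‹_›
  have : QuasiCompact (Red.bc b G).hom := GrpSch.bc_hom_of (P := @QuasiCompact) b G ‹_›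
  have : QuasiCompact (Red.bc b H).hom := GrpSch.bc_hom_of (P := @QuasiCompact) b H ‹_›
  have : Surjective ((Over.pullback b).map f).left :=
    GrpSch.bc_map_left_of (P := @Surjective) b f ‹_›
  have : IsZariskiLocalAtTarget (@Flat : MorphismProperty Scheme.{u}) :=
    HasRingHomProperty.instIsZariskiLocalAtTarget _
  have : MorphismProperty.RespectsIso (@Flat : MorphismProperty Scheme.{u}) :=
    MorphismProperty.IsStableUnderBaseChange.respectsIso
  exact GrpSch.of_bc_map_left k K (P := (@Flat : MorphismProperty Scheme.{u})) f
    (flat_of_surjective_of_isReduced ((Over.pullback b).map f))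

end Groth.Agent.Lib.GrpQ
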