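import Groth.Agent.Lib.GrpQ.GlobalFn
import Groth.Agent.Lib.GrpQ.Image

/-!
The affine hull `G ⟶ Spec Γ(G)` of a group scheme over a field as a homomorphism of group schemes.
-/

set_option autoImplicit false

universe u

open CategoryTheory Limits MonoidalCategory CartesianMonoidalCategory MonObj AlgebraicGeometry

namespace Groth.Agent.Lib.GrpQ.Affinization

noncomputable section

variable {k : Type u} [Field k]

/-- The affine hull. -/
def aff (X : Over (Spec (CommRingCat.of k))) : Over (Spec (CommRingCat.of k)) :=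
  Over.mk (Spec.map X.hom.appTop ≫ (Spec (CommRingCat.of k)).isoSpec.inv)

instance (X : Over (Spec (CommRingCat.of k))) : IsAffine (aff X).left := inferInstanceAs (IsAffine (Spec Γ(X.left, ⊤)))

/-- The morphism to the affine hull. -/
def rho (X : Over (Spec (CommRingCat.of k))) : X ⟶ aff X :=
  Over.homMk X.left.toSpecΓ (by
    change X.left.toSpecΓ ≫ Spec.map X.hom.appTop ≫ _ = _
    rw [← Scheme.toSpecΓ_naturality_assoc, ← Scheme.isoSpec_hom, Iso.hom_inv_id, Category.comp_id])

theorem rho_left (X : Over (Spec (CommRingCat.of k))) : (rho X).left = X.left.toSpecΓ := rfl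

instance isIso_rho_appTop (X : Over (Spec (CommRingCat.of k))) [QuasiCompact X.hom] [QuasiSeparated X.hom] :
    IsIso (rho X).left.appTop := by
  have : CompactSpace X.left := QuasiCompact.compactSpace_of_compactSpace X.hom
  have : QuasiSeparatedSpace X.left := quasiSeparatedSpace_of_quasiSeparated X.hom
  have h : IsIso X.left.toSpecΓ.appTop := by rw [Scheme.toSpecΓ_appTop]; infer_instance
  exact h

/-- A morphism inducing an isomorphism on functions is universal to affine targets. -/
theorem eq_of_comp {X Y Z : Over (Spec (CommRingCat.of k))} (f : X ⟶ Y) [IsIso f.left.appTop] [IsAffine Z.left] {a b : Y ⟶ Z}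
    (h : f ≫ a = f ≫ b) : a = b := by
  ext1
  apply ext_of_isAffine
  have h' := congrArg (fun z : X ⟶ Z => z.left.appTop) h
  simp only [Over.comp_left, Scheme.Hom.comp_appTop] at h'
  exact (cancel_mono f.left.appTop).1 h'

theorem exists_fac {X Y Z : Over (Spec (CommRingCat.of k))} (f : X ⟶ Y) [IsIso f.left.appTop] [IsAffine Z.left] (x : X ⟶ Z) :
    ∃ y : Y ⟶ Z, f ≫ y = x := by
  let y : Y.left ⟶ Z.left := Y.left.toSpecΓ ≫ Spec.map (x.left.appTop ≫ inv f.left.appTop) ≫ Z.left.isoSpec.inv
  have hy : f.left ≫ y = x.left := by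
    simp only [y, Scheme.toSpecΓ_naturality_assoc, ← Spec.map_comp_assoc, Category.assoc, IsIso.inv_hom_id,
      Category.comp_id]
    rw [← Scheme.toSpecΓ_naturality_assoc, ← Scheme.isoSpec_hom, Iso.hom_inv_id, Category.comp_id]
  have hw : y ≫ Z.hom = Y.hom := by
    apply ext_of_isAffine
    refine (cancel_mono f.left.appTop).1 ?_
    rw [← Scheme.Hom.comp_appTop, ← Scheme.Hom.comp_appTop, reassoc_of% hy, Over.w, Over.w]
  exact ⟨Over.homMk y hw, Over.OverMorphism.ext hy⟩

theorem qs_of_isAffine (X : Over (Spec (CommRingCat.of k))) [IsAffine X.left] : QuasiSeparated X.hom := inferInstance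

theorem qc_of_isAffine (X : Over (Spec (CommRingCat.of k))) [IsAffine X.left] : QuasiCompact X.hom := inferInstance

theorem isAffine_tensor (X Y : Over (Spec (CommRingCat.of k))) [IsAffine X.left] [IsAffine Y.left] : IsAffine (X ⊗ Y).left :=
  inferInstanceAs (IsAffine (pullback X.hom Y.hom))

/-- Products of morphisms inducing isomorphisms on functions. -/
theorem isIso_tensor_appTop {X X' Y Y' : Over (Spec (CommRingCat.of k))} (f : X ⟶ X') (g : Y ⟶ Y') [QuasiCompact X.hom]
    [QuasiSeparated X.hom] [QuasiCompact Y.hom] [QuasiSeparated Y.hom] [QuasiCompact X'.hom]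
    [QuasiSeparated X'.hom] [QuasiCompact Y'.hom] [QuasiSeparated Y'.hom] [IsIso f.left.appTop]
    [IsIso g.left.appTop] : IsIso (f ⊗ₘ g).left.appTop := by
  have h := GlobalFn.isPushout_tensor (X := X) (Y := Y)
  have h' := GlobalFn.isPushout_tensor (X := X') (Y := Y')
  have ef : X'.hom.appTop ≫ f.left.appTop = X.hom.appTop := by rw [← Scheme.Hom.comp_appTop, Over.w]
  have eg : Y'.hom.appTop ≫ g.left.appTop = Y.hom.appTop := by rw [← Scheme.Hom.comp_appTop, Over.w]
  have e : IsPushout X'.hom.appTop Y'.hom.appTop (fst X Y ≫ f).left.appTop (snd X Y ≫ g).left.appTop := by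
    refine h.of_iso (Iso.refl _) (asIso f.left.appTop).symm (asIso g.left.appTop).symm (Iso.refl _) ?_ ?_ ?_ ?_
    · simp [← ef]
    · simp [← eg]
    · simp
    · simp
  have hd := e.isoIsPushout _ _ h'
  have key : (f ⊗ₘ g).left.appTop = (h'.isoIsPushout _ _ e).hom := by
    apply h'.hom_ext
    · rw [h'.inl_isoIsPushout_hom, ← Scheme.Hom.comp_appTop, ← Over.comp_left, tensorHom_fst]
    · rw [h'.inr_isoIsPushout_hom, ← Scheme.Hom.comp_appTop, ← Over.comp_left, tensorHom_snd]
  rw [key]
  infer_instance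

theorem eq_of_tensor {X Y Z : Over (Spec (CommRingCat.of k))} [QuasiCompact X.hom]
    [QuasiSeparated X.hom] [QuasiCompact Y.hom] [QuasiSeparated Y.hom] [IsAffine Z.left]
    {a b : aff X ⊗ aff Y ⟶ Z} (h : (rho X ⊗ₘ rho Y) ≫ a = (rho X ⊗ₘ rho Y) ≫ b) : a = b :=
  have := isIso_tensor_appTop (rho X) (rho Y)
  eq_of_comp _ h

section Grp

variable (G : Over (Spec (CommRingCat.of k))) [GrpObj G] [QuasiCompact G.hom]

theorem exists_grp : ∃ _ : GrpObj (aff G), IsMonHom (rho G) := by
  have := GrpSch.isSeparated_of_field G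
  obtain ⟨m, hm⟩ : ∃ m : aff G ⊗ aff G ⟶ aff G, (rho G ⊗ₘ rho G) ≫ m = μ[G] ≫ rho G :=
    have := isIso_tensor_appTop (rho G) (rho G)
    exists_fac _ _
  obtain ⟨v, hv⟩ := exists_fac (rho G) (GrpObj.inv (X := G) ≫ rho G)
  have e3 : IsIso ((rho G ⊗ₘ rho G) ⊗ₘ rho G).left.appTop := by
    have := isIso_tensor_appTop (rho G) (rho G)
    have := isAffine_tensor (aff G) (aff G)
    have : QuasiCompact (G ⊗ G).hom := inferInstanceAs (QuasiCompact (pullback.fst G.hom G.hom ≫ G.hom))
    have : QuasiSeparated (G ⊗ G).hom := inferInstanceAs (QuasiSeparated (pullback.fst G.hom G.hom ≫ G.hom))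
    exact isIso_tensor_appTop _ _
  let instMon : MonObj (aff G) :=
    { one := η[G] ≫ rho G
      mul := m
      one_mul := by
        have : IsIso (𝟙_ (Over (Spec (CommRingCat.of k))) ◁ rho G).left.appTop := by
          have : QuasiCompact (𝟙_ (Over (Spec (CommRingCat.of k)))).hom := inferInstanceAs (QuasiCompact (𝟙 _))
          have : QuasiSeparated (𝟙_ (Over (Spec (CommRingCat.of k)))).hom := inferInstanceAs (QuasiSeparated (𝟙 _))
          have : IsIso (Over.Hom.left (𝟙 (𝟙_ (Over (Spec (CommRingCat.of k)))))).appTop :=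
            by rw [Over.id_left, Scheme.Hom.id_appTop]; infer_instance
          have h := isIso_tensor_appTop (𝟙 (𝟙_ (Over (Spec (CommRingCat.of k))))) (rho G)
          rwa [id_tensorHom] at h
        apply eq_of_comp (𝟙_ (Over (Spec (CommRingCat.of k))) ◁ rho G)
        have e1 : (𝟙_ (Over (Spec (CommRingCat.of k))) ◁ rho G) ≫ (η[G] ≫ rho G) ▷ aff G =
            (η[G] ▷ G) ≫ (rho G ⊗ₘ rho G) := by
          rw [← id_tensorHom, ← tensorHom_id, ← tensorHom_id, tensorHom_comp_tensorHom,
            tensorHom_comp_tensorHom, Category.id_comp, Category.comp_id, Category.id_comp]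
        rw [reassoc_of% e1, hm, MonObj.one_mul_assoc, leftUnitor_naturality]
      mul_one := by
        have : IsIso (rho G ▷ 𝟙_ (Over (Spec (CommRingCat.of k)))).left.appTop := by
          have : QuasiCompact (𝟙_ (Over (Spec (CommRingCat.of k)))).hom := inferInstanceAs (QuasiCompact (𝟙 _))
          have : QuasiSeparated (𝟙_ (Over (Spec (CommRingCat.of k)))).hom := inferInstanceAs (QuasiSeparated (𝟙 _))
          have : IsIso (Over.Hom.left (𝟙 (𝟙_ (Over (Spec (CommRingCat.of k)))))).appTop :=
            by rw [Over.id_left, Scheme.Hom.id_appTop]; infer_instance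
          have h := isIso_tensor_appTop (rho G) (𝟙 (𝟙_ (Over (Spec (CommRingCat.of k)))))
          rwa [tensorHom_id] at h
        apply eq_of_comp (rho G ▷ 𝟙_ (Over (Spec (CommRingCat.of k))))
        have e1 : (rho G ▷ 𝟙_ (Over (Spec (CommRingCat.of k)))) ≫ aff G ◁ (η[G] ≫ rho G) =
            (G ◁ η[G]) ≫ (rho G ⊗ₘ rho G) := by
          rw [← tensorHom_id, ← id_tensorHom, ← id_tensorHom, tensorHom_comp_tensorHom,
            tensorHom_comp_tensorHom, Category.id_comp, Category.comp_id, Category.id_comp]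
        rw [reassoc_of% e1, hm, MonObj.mul_one_assoc, rightUnitor_naturality]
      mul_assoc := by
        apply eq_of_comp ((rho G ⊗ₘ rho G) ⊗ₘ rho G)
        have e1 : ((rho G ⊗ₘ rho G) ⊗ₘ rho G) ≫ m ▷ aff G = (μ[G] ▷ G) ≫ (rho G ⊗ₘ rho G) := by
          rw [← tensorHom_id, ← tensorHom_id, tensorHom_comp_tensorHom, tensorHom_comp_tensorHom, hm,
            Category.id_comp, Category.comp_id]
        have e2 : ((rho G ⊗ₘ rho G) ⊗ₘ rho G) ≫ (α_ (aff G) (aff G) (aff G)).hom ≫ aff G ◁ m =
            (α_ G G G).hom ≫ (G ◁ μ[G]) ≫ (rho G ⊗ₘ rho G) := by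
          rw [associator_naturality_assoc]
          congr 1
          rw [← id_tensorHom, ← id_tensorHom, tensorHom_comp_tensorHom, tensorHom_comp_tensorHom, hm,
            Category.id_comp, Category.comp_id]
        rw [reassoc_of% e1, hm, reassoc_of% e2, hm, MonObj.mul_assoc_assoc] }
  have hmon : IsMonHom (rho G) := ⟨rfl, hm.symm⟩
  let instGrp : GrpObj (aff G) :=
    { inv := v
      left_inv := by
        apply eq_of_comp (rho G)
        change rho G ≫ CartesianMonoidalCategory.lift v (𝟙 _) ≫ m = rho G ≫ toUnit _ ≫ η[G] ≫ rho G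
        rw [← Category.assoc _ (CartesianMonoidalCategory.lift v (𝟙 _)), comp_lift, hv, Category.comp_id,
          show CartesianMonoidalCategory.lift (GrpObj.inv (X := G) ≫ rho G) (rho G) =
            CartesianMonoidalCategory.lift (GrpObj.inv (X := G)) (𝟙 G) ≫ (rho G ⊗ₘ rho G) by ext1 <;> simp,
          Category.assoc, hm, GrpObj.left_inv_assoc, ← Category.assoc (rho G) (toUnit _),
          toUnit_unique (rho G ≫ toUnit _) (toUnit _)]
      right_inv := by
        apply eq_of_comp (rho G)
        change rho G ≫ CartesianMonoidalCategory.lift (𝟙 _) v ≫ m = rho G ≫ toUnit _ ≫ η[G] ≫ rho G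
        rw [← Category.assoc _ (CartesianMonoidalCategory.lift (𝟙 _) v), comp_lift, hv, Category.comp_id,
          show CartesianMonoidalCategory.lift (rho G) (GrpObj.inv (X := G) ≫ rho G) =
            CartesianMonoidalCategory.lift (𝟙 G) (GrpObj.inv (X := G)) ≫ (rho G ⊗ₘ rho G) by ext1 <;> simp,
          Category.assoc, hm, GrpObj.right_inv_assoc, ← Category.assoc (rho G) (toUnit _),
          toUnit_unique (rho G ≫ toUnit _) (toUnit _)] }
  exact ⟨instGrp, hmon⟩

/-- The affine hull of an algebraic group is an algebraic group and a quotient. -/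
theorem rho_faithfullyFlat [LocallyOfFiniteType G.hom] :
    Surjective (rho G).left ∧ Flat (rho G).left ∧ LocallyOfFiniteType (aff G).hom := by
  have := GrpSch.isSeparated_of_field G
  obtain ⟨_, _⟩ := exists_grp G
  have : IsSchemeTheoreticallyDominant (rho G).left :=
    Image.std_of_appTop_injective _ (ConcreteCategory.bijective_of_isIso _).1
  obtain ⟨h1, h2⟩ := Image.flat_surjective (rho G)
  exact ⟨h2, h1, Image.locallyOfFiniteType_of_std (rho G)⟩

end Grp

end

end Groth.Agent.Lib.GrpQ.Affinization
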