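import Groth.Agent.Lib.GrpQ.InfSub
import Groth.Agent.Lib.GrpQ.Affinization
import Mathlib.RingTheory.Filtration

/-!
Morphisms out of `P ⊗ Y` agreeing on all infinitesimal neighbourhoods `P ⊗ Tₙ` of a rational point
agree on `P ⊗ V` for a neighbourhood `V` of the point (Krull's intersection theorem); they agree
everywhere when `Y` is integral. No finiteness is asked of `P`.
-/

set_option autoImplicit false

universe u

open CategoryTheory Limits MonoidalCategory CartesianMonoidalCategory MonObj AlgebraicGeometry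
open TensorProduct

namespace Groth.Agent.Lib.GrpQ.InfAgree

noncomputable section

variable {k : Type u} [Field k]

/-- The locus where two morphisms to a separated scheme agree. -/
theorem exists_eqLocus {X Z S : Scheme.{u}} (f g : X ⟶ Z) (c : Z ⟶ S) [IsSeparated c] (w : f ≫ c = g ≫ c) :
    ∃ (E : Scheme.{u}) (i : E ⟶ X), IsClosedImmersion i ∧ i ≫ f = i ≫ g ∧
      ∀ {T : Scheme.{u}} (z : T ⟶ X), z ≫ f = z ≫ g → ∃ l : T ⟶ E, l ≫ i = z := by
  let p := pullback.lift (f := c) (g := c) f g w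
  let d := pullback.diagonal c
  refine ⟨pullback p d, pullback.fst p d, inferInstance, ?_, fun {T} z hz => ?_⟩
  · have e1 := congrArg (· ≫ pullback.fst c c) (pullback.condition (f := p) (g := d))
    have e2 := congrArg (· ≫ pullback.snd c c) (pullback.condition (f := p) (g := d))
    simp only [p, d, Category.assoc, pullback.lift_fst, pullback.lift_snd, pullback.diagonal_fst,
      pullback.diagonal_snd, Category.comp_id] at e1 e2
    exact e1.trans e2.symm
  · refine ⟨pullback.lift z (z ≫ f) ?_, pullback.lift_fst _ _ _⟩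
    apply pullback.hom_ext
    · simp [p, d]
      exact congrArg (z ≫ ·) (pullback.lift_fst _ _ _)
    · simp [p, d, hz]
      exact congrArg (z ≫ ·) (pullback.lift_snd _ _ _)

theorem eq_of_std {A B Z : Over (Spec (CommRingCat.of k))} [IsSeparated Z.hom] (z : A ⟶ B)
    [IsSchemeTheoreticallyDominant z.left] {f g : B ⟶ Z} (h : z ≫ f = z ≫ g) : f = g := by
  obtain ⟨E, i, hi, hif, hu⟩ := exists_eqLocus f.left g.left Z.hom (by rw [Over.w, Over.w])
  obtain ⟨l, hl⟩ := hu z.left (by rw [← Over.comp_left, h, Over.comp_left])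
  have : IsSchemeTheoreticallyDominant (l ≫ i) := by rw [hl]; infer_instance
  have := DomFlat.std_of_comp l i
  have : IsIso i := IsClosedImmersion.isIso_iff_ker_eq_bot.2 (Scheme.Hom.ker_eq_bot i)
  ext1
  exact (cancel_epi i).1 hif

theorem exists_eqIdeal {R : CommRingCat.{u}} {Z S : Scheme.{u}} (f g : Spec R ⟶ Z) (c : Z ⟶ S)
    [IsSeparated c] (w : f ≫ c = g ≫ c) :
    ∃ I : Ideal R, ∀ {C : CommRingCat.{u}} (φ : R ⟶ C),
      Spec.map φ ≫ f = Spec.map φ ≫ g ↔ I ≤ RingHom.ker φ.hom := by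
  obtain ⟨E, i, hi, hif, hu⟩ := exists_eqLocus f g c w
  obtain ⟨I, e, he⟩ := IsClosedImmersion.Spec_iff.1 hi
  refine ⟨I, fun {C} φ => ⟨fun h => ?_, fun h => ?_⟩⟩
  · obtain ⟨l, hl⟩ := hu _ h
    rw [he, ← Category.assoc, ← Spec.map_preimage (l ≫ e.hom), ← Spec.map_comp] at hl
    intro a ha
    have e1 := ConcreteCategory.congr_hom (Spec.map_injective hl) a
    simp only [ConcreteCategory.comp_apply] at e1
    rw [RingHom.mem_ker]
    refine e1.symm.trans ?_
    rw [show (CommRingCat.ofHom (Ideal.Quotient.mk I)) a = 0 from Ideal.Quotient.eq_zero_iff_mem.2 ha, map_zero]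
  · have e1 : Spec.map φ = (Spec.map (CommRingCat.ofHom (Ideal.Quotient.lift I φ.hom h)) ≫ e.inv) ≫ i := by
      rw [he, Category.assoc, Iso.inv_hom_id_assoc, ← Spec.map_comp]
      congr 1
    rw [e1]
    simp only [Category.assoc, hif]

theorem exists_algebra {X : Over (Spec (CommRingCat.of k))} {R : CommRingCat.{u}} (u₀ : Spec R ⟶ X.left) :
    ∃ (_ : Algebra k R) (u : InfSub.sp k R ⟶ X), u.left = u₀ := by
  let _ : Algebra k R := (Spec.preimage (u₀ ≫ X.hom)).hom.toAlgebra
  exact ⟨inferInstance, Over.homMk u₀ (Spec.map_preimage (u₀ ≫ X.hom)).symm, rfl⟩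

/-- The pointwise hypothesis: the chart of a rational point. -/
theorem exists_chart (Y : Over (Spec (CommRingCat.of k))) [IsLocallyNoetherian Y.left]
    (y : 𝟙_ (Over (Spec (CommRingCat.of k))) ⟶ Y) :
    ∃ (A : Type u) (_ : CommRing A) (_ : Algebra k A) (_ : IsNoetherianRing A) (j : InfSub.sp k A ⟶ Y)
      (e : A →ₐ[k] k), IsOpenImmersion j.left ∧ InfSub.ptOf e ≫ j = y := by
  let s : ↥(𝟙_ (Over (Spec (CommRingCat.of k)))).left := IsLocalRing.closedPoint k
  obtain ⟨U, hU, heU, -⟩ := exists_isAffineOpen_mem_and_subset (x := y.left s) (U := ⊤) trivial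
  have : IsNoetherianRing Γ(Y.left, U) := IsLocallyNoetherian.component_noetherian ⟨U, hU⟩
  obtain ⟨_, j, hj⟩ := exists_algebra (X := Y) hU.fromSpec
  have hjo : IsOpenImmersion j.left := by rw [hj]; exact hU.isOpenImmersion_fromSpec
  have hη : Set.range y.left ⊆ Set.range j.left := by
    rintro _ ⟨z, rfl⟩
    rw [hj]
    refine (Set.ext_iff.1 hU.range_fromSpec _).2 ?_
    rw [Subsingleton.elim (α := Spec (CommRingCat.of k)) z s]
    exact heU
  let y' := IsOpenImmersion.lift j.left y.left hη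
  have hy' : y' ≫ j.left = y.left := IsOpenImmersion.lift_fac _ _ _
  have hyw : y' ≫ Spec.map (CommRingCat.ofHom (algebraMap k Γ(Y.left, U))) = 𝟙 _ := by
    refine (congrArg (y' ≫ ·) (Over.w j).symm).trans ?_
    refine (Category.assoc _ _ _).symm.trans ?_
    exact (congrArg (· ≫ Y.hom) hy').trans (Over.w y)
  refine ⟨Γ(Y.left, U), inferInstance, inferInstance, inferInstance, j, ⟨(Spec.preimage y').hom, fun r => ?_⟩,
    hjo, ?_⟩
  · have h2 : CommRingCat.ofHom (algebraMap k Γ(Y.left, U)) ≫ Spec.preimage y' = 𝟙 _ := by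
      apply Spec.map_injective
      rw [Spec.map_comp, Spec.map_preimage]
      exact hyw.trans (Spec.map_id _).symm
    exact congr($h2 r)
  · ext1
    rw [Over.comp_left, ← hy']
    exact congrArg (· ≫ j.left) (Spec.map_preimage y')

section Chart

variable {A : Type u} [CommRing A] [Algebra k A] (e : A →ₐ[k] k)

/-- The ring of the `n`-th neighbourhood. -/
abbrev nbhRing (n : ℕ) : Type u := A ⧸ (RingHom.ker e ^ (n + 1))

/-- The point of the `n`-th neighbourhood. -/
def nbhPt (n : ℕ) : nbhRing e n →ₐ[k] k :=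
  Ideal.Quotient.liftₐ (RingHom.ker e ^ (n + 1)) e fun _ ha =>
    RingHom.mem_ker.1 (Ideal.pow_le_self n.succ_ne_zero ha)

theorem subsingleton_nbh (n : ℕ) : Subsingleton (PrimeSpectrum (nbhRing e n)) := by
  have hmax : (RingHom.ker e).IsMaximal :=
    RingHom.ker_isMaximal_of_surjective e fun a => ⟨algebraMap k A a, e.commutes a⟩
  have key : ∀ p : PrimeSpectrum (nbhRing e n),
      p.asIdeal.comap (Ideal.Quotient.mk (RingHom.ker e ^ (n + 1))) = RingHom.ker e := fun p => by
    refine (hmax.eq_of_le (Ideal.IsPrime.comap _).ne_top ?_).symm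
    refine (Ideal.IsPrime.comap _).le_of_pow_le (n := n + 1) fun a ha => ?_
    rw [Ideal.mem_comap, Ideal.Quotient.eq_zero_iff_mem.2 ha]
    exact zero_mem _
  exact ⟨fun p q => PrimeSpectrum.ext
    (Ideal.comap_injective_of_surjective _ Ideal.Quotient.mk_surjective ((key p).trans (key q).symm))⟩

variable {P Y Z : Over (Spec (CommRingCat.of k))} (j : InfSub.sp k A ⟶ Y)

/-- The inclusion of the `n`-th neighbourhood. -/
def nbhIncl (n : ℕ) : InfSub.sp k (nbhRing e n) ⟶ Y :=
  InfSub.spMap (Ideal.Quotient.mkₐ k (RingHom.ker e ^ (n + 1))) ≫ j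

theorem ptOf_nbhIncl (n : ℕ) : InfSub.ptOf (nbhPt e n) ≫ nbhIncl e j n = InfSub.ptOf e ≫ j := by
  rw [nbhIncl, ← Category.assoc]
  congr 1
  ext1
  rw [Over.comp_left]
  refine (Spec.map_comp _ _).symm.trans ?_
  rfl

/-- Agreement on every infinitesimal neighbourhood. -/
def AgreeInf (f g : P ⊗ Y ⟶ Z) : Prop :=
  ∀ n, (P ◁ nbhIncl e j n) ≫ f = (P ◁ nbhIncl e j n) ≫ g

theorem exists_killer [IsNoetherianRing A] :
    ∃ r ∈ RingHom.ker e, ∀ x : A, (∀ n : ℕ, x ∈ RingHom.ker e ^ (n + 1)) → (1 - r) * x = 0 := by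
  let J : Ideal A := ⨅ n : ℕ, RingHom.ker e ^ (n + 1)
  have hJ : ∀ x ∈ J, x ∈ (RingHom.ker e) • J := by
    intro x hx
    have h1 : x ∈ (⨅ i : ℕ, RingHom.ker e ^ i • ⊤ : Submodule A A) := by
      simp only [Submodule.mem_iInf, smul_eq_mul, Ideal.mul_top]
      intro i
      cases i with
      | zero => simp
      | succ i => exact Ideal.mem_iInf.1 hx i
    obtain ⟨⟨r, hr⟩, hrx⟩ := (Ideal.mem_iInf_smul_pow_eq_bot_iff _ _).1 h1
    rw [← hrx]
    exact Submodule.smul_mem_smul hr hx
  obtain ⟨r, hr, hr0⟩ := Submodule.exists_sub_one_mem_and_smul_eq_zero_of_fg_of_le_smul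
    (RingHom.ker e) J (IsNoetherian.noetherian J) hJ
  refine ⟨1 - r, by rw [← neg_sub]; exact neg_mem hr, fun x hx => ?_⟩
  rw [sub_sub_cancel]
  exact hr0 x (Ideal.mem_iInf.2 hx)

variable {B C : Type u} [CommRing B] [Algebra k B] [CommRing C] [Algebra k C]

variable (k) in
/-- The comparison of the spectrum of a tensor product with the product. -/
def cmp (B A : Type u) [CommRing B] [Algebra k B] [CommRing A] [Algebra k A] :
    InfSub.sp k (B ⊗[k] A) ⟶ InfSub.sp k B ⊗ InfSub.sp k A :=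
  lift (InfSub.spMap Algebra.TensorProduct.includeLeft) (InfSub.spMap Algebra.TensorProduct.includeRight)

theorem isIso_cmp : IsIso (cmp k B A).left := by
  have : (cmp k B A).left = (pullbackSpecIso k B A).inv := by
    apply pullback.hom_ext
    · refine Eq.trans ?_ (pullbackSpecIso_inv_fst k B A).symm
      exact (congrArg Over.Hom.left (lift_fst (InfSub.spMap (Algebra.TensorProduct.includeLeft (R := k) (S := k) (A := B) (B := A)))
        (InfSub.spMap Algebra.TensorProduct.includeRight)))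
    · refine Eq.trans ?_ (pullbackSpecIso_inv_snd k B A).symm
      exact (congrArg Over.Hom.left (lift_snd (InfSub.spMap (Algebra.TensorProduct.includeLeft (R := k) (S := k) (A := B) (B := A)))
        (InfSub.spMap Algebra.TensorProduct.includeRight)))
  rw [this]
  infer_instance

theorem cmp_natural (φ : A →ₐ[k] C) :
    InfSub.spMap (Algebra.TensorProduct.map (AlgHom.id k B) φ) ≫ cmp k B A =
      cmp k B C ≫ (InfSub.sp k B ◁ InfSub.spMap φ) := by
  rw [cmp, cmp, comp_lift, lift_whiskerLeft, ← InfSub.spMap_comp, ← InfSub.spMap_comp, ← InfSub.spMap_comp]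
  congr 2
  all_goals ext x; simp

/-- Morphisms out of `P ⊗ W` agree if they agree on an affine cover of `P`. -/
theorem hom_ext_cover {W : Over (Spec (CommRingCat.of k))} {f g : P ⊗ W ⟶ Z}
    (h : ∀ (B : Type u) [CommRing B] [Algebra k B] (u : InfSub.sp k B ⟶ P), IsOpenImmersion u.left →
      (u ▷ W) ≫ f = (u ▷ W) ≫ g) : f = g := by
  ext1
  refine Scheme.Cover.hom_ext ((P.left.affineCover).pullback₁ (fst P W).left) _ _ fun (i : P.left.affineCover.I₀) => ?_
  obtain ⟨_, u, hu⟩ := exists_algebra (X := P) (P.left.affineCover.f i)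
  have h1 := congrArg Over.Hom.left (h _ u (hu ▸ P.left.affineCover.map_prop i))
  rw [Over.comp_left, Over.comp_left] at h1
  have sq := GrpSch.isPullback_whiskerRight u W
  rw [hu] at sq
  have e1 : pullback.fst (fst P W).left (P.left.affineCover.f i) = sq.isoPullback.inv ≫ (u ▷ W).left :=
    (sq.isoPullback_inv_fst).symm
  change pullback.fst (fst P W).left (P.left.affineCover.f i) ≫ f.left =
    pullback.fst (fst P W).left (P.left.affineCover.f i) ≫ g.left
  rw [e1]
  exact (Category.assoc _ _ _).trans ((congrArg (sq.isoPullback.inv ≫ ·) h1).trans (Category.assoc _ _ _).symm)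

/-- Agreement on the infinitesimal neighbourhoods gives agreement near the point. -/
theorem exists_agree_nhd [IsNoetherianRing A] [IsOpenImmersion j.left] [IsSeparated Z.hom]
    (f g : P ⊗ Y ⟶ Z) (h : AgreeInf e j f g) :
    ∃ (L : Type u) (_ : CommRing L) (_ : Algebra k L) (_ : IsNoetherianRing L) (v : InfSub.sp k L ⟶ Y) (eL : L →ₐ[k] k),
      IsOpenImmersion v.left ∧ InfSub.ptOf eL ≫ v = InfSub.ptOf e ≫ j ∧ (P ◁ v) ≫ f = (P ◁ v) ≫ g := by
  classical
  obtain ⟨r, hr, hkill⟩ := exists_killer e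
  let L := Localization.Away (1 - r)
  let loc : A →ₐ[k] L := IsScalarTower.toAlgHom k A L
  have he1 : e (1 - r) = 1 := by rw [map_sub, map_one, RingHom.mem_ker.1 hr, sub_zero]
  let eL : L →ₐ[k] k := IsLocalization.Away.liftAlgHom (x := 1 - r) (f := e) (by rw [he1]; exact isUnit_one)
  have heL : eL.comp loc = e := AlgHom.ext fun a => by simp [eL, loc]
  have hopen : IsOpenImmersion (InfSub.spMap loc).left :=
    inferInstanceAs (IsOpenImmersion (Spec.map (CommRingCat.ofHom (algebraMap A (Localization.Away (1 - r))))))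
  refine ⟨L, inferInstance, inferInstance, IsLocalization.isNoetherianRing (Submonoid.powers (1 - r)) L inferInstance,
    InfSub.spMap loc ≫ j, eL, by rw [Over.comp_left]; infer_instance, ?_, ?_⟩
  · rw [← Category.assoc]
    congr 1
    ext1
    rw [Over.comp_left]
    refine (Spec.map_comp _ _).symm.trans ?_
    rw [← heL]
    rfl
  refine hom_ext_cover fun B _ _ u _ => ?_
  let c := cmp k B A ≫ (u ▷ InfSub.sp k A) ≫ (P ◁ j)
  obtain ⟨I, hI⟩ := exists_eqIdeal (c ≫ f).left (c ≫ g).left Z.hom ((Over.w (c ≫ f)).trans (Over.w (c ≫ g)).symm)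
  have hmap : ∀ {C : Type u} [CommRing C] [Algebra k C] (φ : A →ₐ[k] C) (x : InfSub.sp k C ⟶ Y),
      x = InfSub.spMap φ ≫ j →
      InfSub.spMap (Algebra.TensorProduct.map (AlgHom.id k B) φ) ≫ c =
        cmp k B C ≫ (u ▷ InfSub.sp k C) ≫ (P ◁ x) := by
    intro C _ _ φ x hx
    subst hx
    simp only [c]
    rw [← Category.assoc, cmp_natural, Category.assoc, whisker_exchange_assoc, MonoidalCategory.whiskerLeft_comp]
  have hker : ∀ (n : ℕ) (s : B ⊗[k] A), s ∈ I →
      Algebra.TensorProduct.map (AlgHom.id k B) (Ideal.Quotient.mkₐ k (RingHom.ker e ^ (n + 1))) s = 0 := by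
    intro n s hs
    refine (hI (CommRingCat.ofHom (Algebra.TensorProduct.map (AlgHom.id k B)
      (Ideal.Quotient.mkₐ k (RingHom.ker e ^ (n + 1)))).toRingHom)).1 ?_ hs
    have e1 := hmap (Ideal.Quotient.mkₐ k (RingHom.ker e ^ (n + 1))) (nbhIncl e j n) rfl
    have e2 : InfSub.spMap (Algebra.TensorProduct.map (AlgHom.id k B) (Ideal.Quotient.mkₐ k (RingHom.ker e ^ (n + 1)))) ≫ c ≫ f =
        InfSub.spMap (Algebra.TensorProduct.map (AlgHom.id k B) (Ideal.Quotient.mkₐ k (RingHom.ker e ^ (n + 1)))) ≫ c ≫ g := by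
      rw [reassoc_of% e1, reassoc_of% e1, h n]
    exact congrArg Over.Hom.left e2
  have hIL : I ≤ RingHom.ker (Algebra.TensorProduct.map (AlgHom.id k B) loc).toRingHom := by
    intro s hs
    let b := Module.Free.chooseBasis k B
    have nat : ∀ {C : Type u} [CommRing C] [Algebra k C] (φ : A →ₐ[k] C) (z : B ⊗[k] A) i,
        TensorProduct.equivFinsuppOfBasisLeft b (Algebra.TensorProduct.map (AlgHom.id k B) φ z) i =
          φ (TensorProduct.equivFinsuppOfBasisLeft b z i) := by
      intro C _ _ φ z i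
      induction z using TensorProduct.induction_on with
      | zero => simp
      | add p q hp hq => simp only [map_add, Finsupp.add_apply, hp, hq]
      | tmul p q =>
        simp [TensorProduct.equivFinsuppOfBasisLeft_apply_tmul_apply]
    rw [RingHom.mem_ker]
    apply (TensorProduct.equivFinsuppOfBasisLeft b).injective
    rw [map_zero]
    refine Finsupp.ext fun i => (nat loc s i).trans ?_
    have hx : ∀ n, TensorProduct.equivFinsuppOfBasisLeft b s i ∈ RingHom.ker e ^ (n + 1) := fun n => by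
      refine Ideal.Quotient.eq_zero_iff_mem.1 ?_
      have h1 := (nat (Ideal.Quotient.mkₐ k (RingHom.ker e ^ (n + 1))) s i).symm
      rw [hker n s hs, map_zero] at h1
      simpa using h1
    have h2 := congrArg loc (hkill _ hx)
    rw [map_mul, map_zero] at h2
    exact ((IsLocalization.Away.algebraMap_isUnit (S := L) (1 - r)).mul_right_eq_zero).1 h2
  have h3 := (hI (CommRingCat.ofHom (Algebra.TensorProduct.map (AlgHom.id k B) loc).toRingHom)).2 hIL
  have h4 : InfSub.spMap (Algebra.TensorProduct.map (AlgHom.id k B) loc) ≫ c ≫ f =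
      InfSub.spMap (Algebra.TensorProduct.map (AlgHom.id k B) loc) ≫ c ≫ g := by
    ext1; exact h3
  rw [reassoc_of% (hmap loc _ rfl), reassoc_of% (hmap loc _ rfl)] at h4
  have := isIso_cmp (k := k) (B := B) (A := L)
  have : IsIso ((Over.forget _).map (cmp k B L)) := this
  have : IsIso (cmp k B L) := isIso_of_reflects_iso _ (Over.forget _)
  exact (cancel_epi (cmp k B L)).1 h4

/-- On an integral scheme, agreement near a point is agreement everywhere. -/
theorem eq_of_agree_open [IsIntegral Y.left] [IsLocallyNoetherian Y.left] [IsSeparated Z.hom]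
    {W : Over (Spec (CommRingCat.of k))} [Nonempty W.left] (v : W ⟶ Y) [IsOpenImmersion v.left]
    {f g : P ⊗ Y ⟶ Z} (h : (P ◁ v) ≫ f = (P ◁ v) ≫ g) : f = g := by
  have : IsDominant v.left := ⟨IsOpen.dense v.left.isOpenEmbedding.isOpen_range (Set.range_nonempty _)⟩
  have : IsSchemeTheoreticallyDominant v.left := .of_isDominant _
  have : Flat (snd P Y).left :=
    GrpSch.snd_left_of (P := @Flat) _ (GrpSch.flat_of_isField (Field.toIsField k) P.hom)
  have : IsSchemeTheoreticallyDominant (P ◁ v).left :=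
    .of_isPullback (GrpSch.isPullback_whiskerLeft P v).flip
  exact eq_of_std (P ◁ v) h

/-- On an integral scheme, agreement on the infinitesimal neighbourhoods is agreement everywhere. -/
theorem eq_of_agreeInf [IsNoetherianRing A] [IsOpenImmersion j.left] [IsSeparated Z.hom] [IsIntegral Y.left]
    [IsLocallyNoetherian Y.left] {f g : P ⊗ Y ⟶ Z} (h : AgreeInf e j f g) : f = g := by
  obtain ⟨L, _, _, _, v, eL, hv, -, hfg⟩ := exists_agree_nhd e j f g h
  have : Nonempty (InfSub.sp k L).left := ⟨(InfSub.ptOf eL).left (IsLocalRing.closedPoint k)⟩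
  exact eq_of_agree_open v hfg

/-- A morphism from a neighbourhood which is constant on the central fibre factors through an affine scheme. -/
theorem exists_affine_factor {n : ℕ} (f : P ⊗ InfSub.sp k (nbhRing e n) ⟶ Z)
    (z₀ : 𝟙_ (Over (Spec (CommRingCat.of k))) ⟶ Z)
    (hf : (P ◁ InfSub.ptOf (nbhPt e n)) ≫ f = toUnit _ ≫ z₀) :
    ∃ (W : Over (Spec (CommRingCat.of k))) (_ : IsAffine W.left) (w : W ⟶ Z)
      (f' : P ⊗ InfSub.sp k (nbhRing e n) ⟶ W), f' ≫ w = f := by
  let s : ↥(𝟙_ (Over (Spec (CommRingCat.of k)))).left := IsLocalRing.closedPoint k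
  obtain ⟨U, hU, hzU, -⟩ := exists_isAffineOpen_mem_and_subset (x := z₀.left s) (U := ⊤) trivial
  have hsub := subsingleton_nbh e n
  have hsurj : Surjective (P ◁ InfSub.ptOf (nbhPt e n)).left :=
    GrpSch.whiskerLeft_left_of (P := @Surjective) _ _
      ⟨fun x => ⟨s, @Subsingleton.elim (PrimeSpectrum (nbhRing e n)) hsub _ x⟩⟩
  have hrange : Set.range f.left ⊆ Set.range U.ι := by
    rintro _ ⟨z, rfl⟩
    obtain ⟨p, rfl⟩ := (P ◁ InfSub.ptOf (nbhPt e n)).left.surjective z
    rw [← Scheme.Hom.comp_apply, ← Over.comp_left, hf, Over.comp_left, Scheme.Hom.comp_apply, U.range_ι,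
      Subsingleton.elim (α := Spec (CommRingCat.of k)) ((toUnit (P ⊗ 𝟙_ _)).left p) s]
    exact hzU
  let W : Over (Spec (CommRingCat.of k)) := Over.mk (U.ι ≫ Z.hom)
  let w : W ⟶ Z := Over.homMk U.ι rfl
  have hW : IsAffine W.left := hU
  refine ⟨W, hW, w, Over.homMk (IsOpenImmersion.lift U.ι f.left hrange) ?_, ?_⟩
  · change IsOpenImmersion.lift U.ι f.left hrange ≫ U.ι ≫ Z.hom = _
    rw [IsOpenImmersion.lift_fac_assoc, Over.w]
  · ext1
    exact IsOpenImmersion.lift_fac _ _ _

/-- The rigidity lemma, infinitesimally. -/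
theorem agreeInf_of_constant {X : Over (Spec (CommRingCat.of k))} [QuasiCompact X.hom] [QuasiSeparated X.hom]
    [IsIso X.hom.appTop] (x₀ : 𝟙_ (Over (Spec (CommRingCat.of k))) ⟶ X)
    (f : X ⊗ Y ⟶ Z) (z₀ : 𝟙_ (Over (Spec (CommRingCat.of k))) ⟶ Z)
    (hf : (X ◁ (InfSub.ptOf e ≫ j)) ≫ f = toUnit _ ≫ z₀) :
    AgreeInf e j f (snd X Y ≫ lift (toUnit Y ≫ x₀) (𝟙 Y) ≫ f) := by
  intro n
  obtain ⟨W, _, w, f', hf'⟩ := exists_affine_factor e ((X ◁ nbhIncl e j n) ≫ f) z₀ (by
    rw [← MonoidalCategory.whiskerLeft_comp_assoc, ptOf_nbhIncl, hf])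
  have : IsAffine (InfSub.sp k (nbhRing e n)).left :=
    inferInstanceAs (IsAffine (Spec (CommRingCat.of (nbhRing e n))))
  have := Affinization.qc_of_isAffine (InfSub.sp k (nbhRing e n))
  have := Affinization.qs_of_isAffine (InfSub.sp k (nbhRing e n))
  have : IsIso (snd X (InfSub.sp k (nbhRing e n))).left.appTop :=
    (GlobalFn.isPushout_tensor (X := X) (Y := InfSub.sp k (nbhRing e n))).isIso_inr_of_isIso
  obtain ⟨h', hh'⟩ := Affinization.exists_fac (snd X (InfSub.sp k (nbhRing e n))) f'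
  have e1 : h' ≫ w = lift (toUnit (InfSub.sp k (nbhRing e n)) ≫ x₀) (𝟙 _) ≫ (X ◁ nbhIncl e j n) ≫ f := by
    rw [← hf', ← hh']
    simp
  rw [← hf', ← hh', Category.assoc, e1, whiskerLeft_snd_assoc]
  congr 1
  rw [← Category.assoc, lift_whiskerLeft, comp_lift_assoc]
  congr 1
  congr 1
  simp

end Chart

end

end Groth.Agent.Lib.GrpQ.InfAgree
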