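import Groth.Agent.Lib.GrpQ.InfSub
import Groth.Agent.Lib.GrpQ.InfAgree
import Groth.Agent.H75.RedSub
import Groth.Agent.H1.Classical.Smooth
import Mathlib.RingTheory.Jacobson.Ring

/-!
Over an algebraically closed field products of reduced schemes are reduced, and the reduced
subscheme of an algebraic group is a subgroup.
-/

set_option autoImplicit false

universe u

open CategoryTheory Limits MonoidalCategory CartesianMonoidalCategory MonObj AlgebraicGeometry
open TensorProduct

namespace Groth.Agent.Lib.GrpQ.RedSubgroup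

noncomputable section

variable {k : Type u} [Field k] [IsAlgClosed k]

theorem isReduced_tensor (A B : Type u) [CommRing A] [Algebra k A] [Algebra.FiniteType k A] [_root_.IsReduced A]
    [CommRing B] [Algebra k B] [_root_.IsReduced B] : _root_.IsReduced (B ⊗[k] A) := by
  classical
  have : IsJacobsonRing A := isJacobsonRing_of_finiteType (A := k) (B := A)
  refine ⟨fun s ⟨n, hn⟩ => ?_⟩
  let b := Module.Free.chooseBasis k B
  apply (TensorProduct.equivFinsuppOfBasisLeft b).injective
  rw [map_zero]
  refine Finsupp.ext fun i => ?_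
  have hrad : (⊥ : Ideal A).jacobson = ⊥ :=
    IsJacobsonRing.out' _ ((Ideal.isRadical_bot_iff).2 inferInstance)
  rw [Finsupp.zero_apply, ← Ideal.mem_bot, ← hrad, Ideal.jacobson, Ideal.mem_sInf]
  rintro M ⟨-, hM⟩
  let φ : B ⊗[k] A →ₐ[k] B ⊗[k] (A ⧸ M) := Algebra.TensorProduct.map (AlgHom.id k B) (Ideal.Quotient.mkₐ k M)
  let _ : Field (A ⧸ M) := Ideal.Quotient.field M
  have : Module.Finite k (A ⧸ M) := finite_of_finite_type_of_isJacobsonRing k (A ⧸ M)
  have hsurj : Function.Surjective (algebraMap k (A ⧸ M)) :=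
    (IsAlgClosed.algebraMap_bijective_of_isIntegral (k := k) (K := A ⧸ M)).2
  let eM : k ≃ₐ[k] A ⧸ M := AlgEquiv.ofBijective (Algebra.ofId k (A ⧸ M)) ⟨(algebraMap k (A ⧸ M)).injective, hsurj⟩
  let ψ : B ⊗[k] (A ⧸ M) ≃ₐ[k] B :=
    (Algebra.TensorProduct.congr AlgEquiv.refl eM.symm).trans (Algebra.TensorProduct.rid k k B)
  have h0 : φ s = 0 := by
    apply ψ.injective
    rw [map_zero]
    exact IsReduced.eq_zero _ ⟨n, by rw [← map_pow, ← map_pow, hn, map_zero, map_zero]⟩
  have nat : ∀ z : B ⊗[k] A, TensorProduct.equivFinsuppOfBasisLeft b (φ z) i =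
      Ideal.Quotient.mk M (TensorProduct.equivFinsuppOfBasisLeft b z i) := by
    intro z
    induction z using TensorProduct.induction_on with
    | zero => simp
    | add p q hp hq => simp only [map_add, Finsupp.add_apply, hp, hq]
    | tmul p q =>
      simp [φ]
      rfl
  have h1 := nat s
  rw [h0, map_zero] at h1
  exact Ideal.Quotient.eq_zero_iff_mem.1 h1.symm

theorem isReduced_prod (X Y : Over (Spec (CommRingCat.of k))) [IsReduced X.left] [IsReduced Y.left]
    [LocallyOfFiniteType Y.hom] : IsReduced (X ⊗ Y).left := by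
  let CX := X.left.affineOpenCover
  let CY := Y.left.affineOpenCover
  let 𝒰 := Scheme.Pullback.openCoverOfLeftRight CX.openCover CY.openCover X.hom Y.hom
  have : ∀ i, IsReduced (𝒰.X i) := fun ⟨i, j⟩ => by
    obtain ⟨_, u, hu⟩ := InfAgree.exists_algebra (X := X) (CX.f i)
    obtain ⟨_, v, hv⟩ := InfAgree.exists_algebra (X := Y) (CY.f j)
    have hio : IsOpenImmersion u.left := hu ▸ CX.map_prop i
    have hjo : IsOpenImmersion v.left := hv ▸ CY.map_prop j
    have : LocallyOfFiniteType (InfSub.sp k (CY.X j)).hom := by rw [← Over.w v]; infer_instance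
    have hft := DomFlat.finiteType_of_locallyOfFiniteType (A := CY.X j) this
    have hXr : IsReduced (Spec (CX.X i)) := @isReduced_of_isOpenImmersion _ _ u.left hio inferInstance
    have hYr : IsReduced (Spec (CY.X j)) := @isReduced_of_isOpenImmersion _ _ v.left hjo inferInstance
    rw [affine_isReduced_iff] at hXr hYr
    have := isReduced_tensor (k := k) (CY.X j) (CX.X i)
    change IsReduced (pullback (CX.f i ≫ X.hom) (CY.f j ≫ Y.hom))
    rw [← hu, ← hv]
    have e1 := Over.w u
    have e2 := Over.w v
    exact isReduced_of_isOpenImmersion ((pullback.congrHom e1 e2).hom ≫ (pullbackSpecIso k _ _).hom)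
  exact AlgebraicGeometry.IsReduced.of_openCover _ 𝒰

/-- The reduced subgroup. -/
theorem exists_reduced_subgroup (G : Over (Spec (CommRingCat.of k))) [GrpObj G] [LocallyOfFiniteType G.hom]
    [QuasiCompact G.hom] :
    ∃ (R : Over (Spec (CommRingCat.of k))) (_ : GrpObj R) (i : R ⟶ G), IsMonHom i ∧ IsClosedImmersion i.left ∧
      Surjective i.left ∧ IsReduced R.left := by
  let I := Scheme.IdealSheafData.vanishingIdeal (⊤ : TopologicalSpace.Closeds G.left)
  let R : Over (Spec (CommRingCat.of k)) := Over.mk (I.subschemeι ≫ G.hom)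
  let i : R ⟶ G := Over.homMk I.subschemeι rfl
  have hi : IsClosedImmersion i.left := inferInstanceAs (IsClosedImmersion I.subschemeι)
  have hR : IsReduced R.left := H75.RedSub.isReduced_vanishingIdeal _
  have hs : Surjective i.left := ⟨fun x => by
    have := (Scheme.IdealSheafData.range_subschemeι I).ge (show x ∈ (I.support : Set G.left) by
      rw [Scheme.IdealSheafData.coe_support_vanishingIdeal]; trivial)
    exact this⟩
  have := mono_of_left i
  have : LocallyOfFiniteType R.hom := inferInstanceAs (LocallyOfFiniteType (I.subschemeι ≫ G.hom))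
  have hfac : ∀ {T : Over (Spec (CommRingCat.of k))} (x : T ⟶ G), IsReduced T.left → ∃ y, y ≫ i = x := by
    intro T x hT
    have H : i.left.ker ≤ x.left.ker := by
      rw [show i.left.ker = I from I.ker_subschemeι]
      refine Scheme.IdealSheafData.le_ofIdeals_iff.2 fun U a ha => ?_
      have ha' : IsNilpotent a := by
        rw [Scheme.IdealSheafData.vanishingIdeal_ideal] at ha
        exact nilpotent_iff_mem_prime.2 fun J hJ => (PrimeSpectrum.mem_vanishingIdeal _ _).1 ha ⟨J, hJ⟩ trivial
      exact RingHom.mem_ker.2 (IsReduced.eq_zero _ (ha'.map (x.left.app U).hom))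
    refine ⟨Over.homMk (IsClosedImmersion.lift i.left x.left H) ?_, Over.OverMorphism.ext ?_⟩
    · rw [← Over.w i, IsClosedImmersion.lift_fac_assoc, Over.w]
    · exact IsClosedImmersion.lift_fac _ _ _
  obtain ⟨_, hmon⟩ := InfSub.exists_grpObj_of_mono i
    (hfac _ (inferInstanceAs (IsReduced (Spec (CommRingCat.of k)))))
    (hfac _ (isReduced_prod R R)) (hfac _ hR)
  exact ⟨R, inferInstance, i, hmon, hi, hs, hR⟩

end

end Groth.Agent.Lib.GrpQ.RedSubgroup
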