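import Groth.Agent.Lib.GrpQ.AffKer
import Groth.Agent.Lib.Tori.AffineDescent
import Groth.Agent.Lib.GrpQ.MonoClosed

/-!
Criteria for a group scheme to be affine: affine kernel of the affine hull, faithful action on an
affine scheme, affine open subgroup.
-/

set_option autoImplicit false

universe u

open CategoryTheory Limits MonoidalCategory CartesianMonoidalCategory MonObj AlgebraicGeometry

namespace Groth.Agent.Lib.GrpQ.AffKer

noncomputable section

variable {k : Type u} [Field k] {G : Over (Spec (CommRingCat.of k))} [GrpObj G]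

theorem isAffineHom_of_kernel {Q N : Over (Spec (CommRingCat.of k))} [GrpObj Q] [QuasiCompact G.hom] (i : N ⟶ G)
    (q : G ⟶ Q) [IsMonHom q] [Flat q.left] [Surjective q.left] (hK : AlgGrp.IsKernel i q) [IsAffine N.left] :
    IsAffineHom q.left := by
  have := Lib.Tori.AffineDescent.descendsAlong_isAffineHom.{u}
  have hN : IsAffineHom N.hom := inferInstance
  have := quasiCompact_left q
  exact MorphismProperty.of_isPullback_of_descendsAlong (P := @IsAffineHom)
    (Q := @Surjective ⊓ @Flat ⊓ @QuasiCompact) (H4.KernelSquare.isPullback_left q i hK)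
    ⟨⟨‹_›, ‹_›⟩, ‹_›⟩ (GrpSch.fst_left_of (P := @IsAffineHom) G hN)

/-- The kernel of the affine hull. -/
theorem exists_killed_kernel [LocallyOfFiniteType G.hom] [QuasiCompact G.hom] :
    ∃ (N : Over (Spec (CommRingCat.of k))) (_ : GrpObj N) (i : N ⟶ G), IsMonHom i ∧ IsClosedImmersion i.left ∧
      (∀ (T : Over (Spec (CommRingCat.of k))) (g : T ⟶ G), Killed g ↔ ∃ n, n ≫ i = g) ∧
      (IsAffine N.left → IsAffine G.left) := by
  obtain ⟨_, _⟩ := Affinization.exists_grp G
  obtain ⟨hs, hf, -⟩ := Affinization.rho_faithfullyFlat G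
  have := GrpSch.isSeparated_of_field (Affinization.aff G)
  obtain ⟨N, _, i, hi, hcl, hK, -⟩ := exists_kernel (Affinization.rho G)
  refine ⟨N, inferInstance, i, hi, hcl, fun T g => ?_, fun hN => ?_⟩
  · rw [mem_kernel hK g, Killed, IsMonHom.one_hom (f := Affinization.rho G), Hom.one_def]
  · have := isAffineHom_of_kernel i (Affinization.rho G) hK
    exact isAffine_of_isAffineHom (Affinization.rho G).left

/-- An algebraic group with no non-trivial killed point is affine. -/
theorem isAffine_of_killed_eq_one [LocallyOfFiniteType G.hom] [QuasiCompact G.hom]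
    (h : ∀ (T : Over (Spec (CommRingCat.of k))) (g : T ⟶ G), Killed g → g = 1) : IsAffine G.left := by
  obtain ⟨N, _, i, _, _, hmem, haff⟩ := exists_killed_kernel (G := G)
  have : Mono i := mono_of_left i
  have hid : 𝟙 N = toUnit N ≫ η[N] := by
    rw [← cancel_mono i, Category.id_comp, Category.assoc, IsMonHom.one_hom, ← Hom.one_def]
    exact h N i ((hmem N i).2 ⟨𝟙 N, Category.id_comp i⟩)
  let e : N ≅ 𝟙_ (Over (Spec (CommRingCat.of k))) :=
    { hom := toUnit N, inv := η[N], hom_inv_id := hid.symm, inv_hom_id := toUnit_unique _ _ }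
  have : IsAffine (𝟙_ (Over (Spec (CommRingCat.of k)))).left := inferInstanceAs (IsAffine (Spec (CommRingCat.of k)))
  have : IsIso e.hom.left := ((Over.forget _).mapIso e).isIso_hom
  exact haff (IsAffine.of_isIso e.hom.left)

/-- Killed points act trivially on affine schemes. -/
theorem act_eq_of_killed [QuasiCompact G.hom] {X : Over (Spec (CommRingCat.of k))} [IsAffine X.left]
    (a : AlgGrp.Action G X) {P : Over (Spec (CommRingCat.of k))} (g : P ⟶ G) (hg : Killed g) :
    (g ▷ X) ≫ a.act = snd P X := by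
  have := GrpSch.isSeparated_of_field G
  have := Affinization.qc_of_isAffine X
  have := Affinization.qs_of_isAffine X
  have : IsIso (Over.Hom.left (𝟙 X)).appTop := by
    rw [Over.id_left, Scheme.Hom.id_appTop]; infer_instance
  have := Affinization.qc_of_isAffine (Affinization.aff G)
  have := Affinization.qs_of_isAffine (Affinization.aff G)
  have := Affinization.isIso_tensor_appTop (Affinization.rho G) (𝟙 X)
  obtain ⟨h', hh'⟩ := Affinization.exists_fac (Affinization.rho G ⊗ₘ 𝟙 X) a.act
  have key : (g ▷ X) ≫ (Affinization.rho G ⊗ₘ 𝟙 X) = ((toUnit P ≫ η[G]) ▷ X) ≫ (Affinization.rho G ⊗ₘ 𝟙 X) := by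
    rw [tensorHom_id, ← comp_whiskerRight, ← comp_whiskerRight, hg, Category.assoc]
  rw [← hh', reassoc_of% key, hh',
    show (toUnit P ≫ η[G]) ▷ X = lift (toUnit (P ⊗ X) ≫ η[G]) (snd P X) by ext1 <;> simp, GrpSch.act_η]

/-- A scheme covered by finitely many disjoint affine opens is affine. -/
theorem isAffine_of_disjoint {X : Scheme.{u}} {σ : Type u} [Finite σ] (U : σ → X.Opens)
    (hU : ∀ i, IsAffineOpen (U i)) (hcov : ⨆ i, U i = ⊤) (hd : Pairwise fun i j => Disjoint (U i) (U j)) :
    IsAffine X := by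
  have h1 : ⨆ i, (U i).ι.opensRange = ⊤ := by simpa using hcov
  obtain ⟨hc⟩ := nonempty_isColimit_cofanMk_of (fun i => (U i).ι) h1
    (fun i j hij => by simpa [Function.onFun] using hd hij)
  have : ∀ i, IsAffine ((U i : X.Opens) : Scheme.{u}) := hU
  let e : X ≅ ∐ fun i => ((U i : X.Opens) : Scheme.{u}) := hc.coconePointUniqueUpToIso (colimit.isColimit _)
  exact IsAffine.of_isIso e.hom

/-- An algebraic group with an affine open subgroup is affine. -/
theorem isAffine_of_open_subgroup [LocallyOfFiniteType G.hom] [QuasiCompact G.hom]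
    {G₀ : Over (Spec (CommRingCat.of k))} [GrpObj G₀] (i₀ : G₀ ⟶ G) [IsMonHom i₀] [IsOpenImmersion i₀.left]
    [IsAffine G₀.left] : IsAffine G.left := by
  classical
  let K := AlgebraicClosure k
  let b := GrpSch.extBase k K
  have := Lib.Tori.AffineDescent.descendsAlong_isAffineHom.{u}
  suffices h : IsAffine (Red.bc b G).left by
    have : IsAffineHom (Red.bc b G).hom := inferInstance
    have : IsAffineHom G.hom := GrpSch.of_bc_hom k K (P := @IsAffineHom) G this
    exact isAffine_of_isAffineHom G.hom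
  let G' := Red.bc b G
  let i' : Red.bc b G₀ ⟶ G' := (Over.pullback b).map i₀
  have : IsMonHom i' := inferInstanceAs (IsMonHom ((Over.pullback b).map i₀))
  have : IsOpenImmersion i'.left := GrpSch.bc_map_left_of (P := @IsOpenImmersion) b i₀ ‹_›
  have : IsAffineHom (Red.bc b G₀).hom := GrpSch.bc_hom_of (P := @IsAffineHom) b G₀ inferInstance
  have : IsAffine (Red.bc b G₀).left := isAffine_of_isAffineHom (Red.bc b G₀).hom
  have : LocallyOfFiniteType G'.hom := GrpSch.bc_hom_of (P := @LocallyOfFiniteType) b G ‹_›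
  have : QuasiCompact G'.hom := GrpSch.bc_hom_of (P := @QuasiCompact) b G ‹_›
  have : CompactSpace G'.left := QuasiCompact.compactSpace_of_compactSpace G'.hom
  have : JacobsonSpace G'.left := LocallyOfFiniteType.jacobsonSpace G'.hom
  let s : ↥(𝟙_ (Over (Spec (CommRingCat.of K)))).left := IsLocalRing.closedPoint K
  let t : (𝟙_ (Over (Spec (CommRingCat.of K))) ⟶ G') → (G' ≅ G') := fun g =>
    GrpSch.translate (GrpSch.regularAction G') g
  let V : (𝟙_ (Over (Spec (CommRingCat.of K))) ⟶ G') → G'.left.Opens := fun g =>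
    (t g).hom.left ⁻¹ᵁ i'.left.opensRange
  have hiso : ∀ g, IsIso (t g).hom.left := fun g => ((Over.forget _).mapIso (t g)).isIso_hom
  have hVaff : ∀ g, IsAffineOpen (V g) := fun g => by
    have := hiso g
    exact (isAffineOpen_opensRange i'.left).preimage_of_isIso (t g).hom.left
  have hmem : ∀ g p, p.left s ∈ V g ↔ ∃ n, n ≫ i' = g * p := fun g p => by
    change (t g).hom.left (p.left s) ∈ i'.left.opensRange ↔ _
    rw [← Scheme.Hom.comp_apply, ← Over.comp_left, GrpSch.translate_regular_apply]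
    constructor
    · intro h
      refine ⟨Over.homMk (IsOpenImmersion.lift i'.left (g * p).left ?_) ?_, ?_⟩
      · rintro _ ⟨z, rfl⟩
        rw [Subsingleton.elim (α := Spec (CommRingCat.of K)) z s]
        exact h
      · rw [← Over.w i', IsOpenImmersion.lift_fac_assoc, Over.w]
      · ext1; exact IsOpenImmersion.lift_fac _ _ _
    · rintro ⟨n, hn⟩
      rw [← hn]
      exact ⟨n.left s, rfl⟩
  have hpt : ∀ c : G'.left, IsClosed ({c} : Set G'.left) → ∃ p : 𝟙_ (Over (Spec (CommRingCat.of K))) ⟶ G', p.left s = c :=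
    fun c hc => ⟨Over.homMk (pointOfClosedPoint G'.hom c hc) (pointOfClosedPoint_comp G'.hom c hc),
      pointOfClosedPoint_apply G'.hom c hc s⟩
  have heq : ∀ g g', (↑(V g) ∩ ↑(V g') : Set G'.left).Nonempty → V g = V g' := by
    intro g g' hne
    obtain ⟨c, hc, hcc⟩ := nonempty_inter_closedPoints hne ((V g).2.inter (V g').2).isLocallyClosed
    obtain ⟨p, rfl⟩ := hpt c hcc
    obtain ⟨n, hn⟩ := (hmem g p).1 hc.1
    obtain ⟨n', hn'⟩ := (hmem g' p).1 hc.2
    have key : ∀ h : 𝟙_ (Over (Spec (CommRingCat.of K))) ⟶ G', h.left s ∈ V g ↔ h.left s ∈ V g' := fun h => by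
      rw [hmem, hmem]
      constructor
      · rintro ⟨m, hm⟩
        exact ⟨n' * n⁻¹ * m, by rw [MonObj.mul_comp, MonObj.mul_comp, GrpObj.inv_comp, hn, hn', hm]; group⟩
      · rintro ⟨m, hm⟩
        exact ⟨n * n'⁻¹ * m, by rw [MonObj.mul_comp, MonObj.mul_comp, GrpObj.inv_comp, hn, hn', hm]; group⟩
    have hsub : ∀ W W' : G'.left.Opens, IsClosed ((W' : Set G'.left)) →
        (∀ h : 𝟙_ (Over (Spec (CommRingCat.of K))) ⟶ G', h.left s ∈ W → h.left s ∈ W') →
        (W : Set G'.left) ⊆ W' := by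
      intro W W' hW' hh
      by_contra hns
      obtain ⟨x, hxW, hxW'⟩ := Set.not_subset.1 hns
      obtain ⟨d, hd, hdc⟩ := nonempty_inter_closedPoints (Z := (W : Set G'.left) \ W') ⟨x, hxW, hxW'⟩
        (W.2.inter hW'.isOpen_compl).isLocallyClosed
      obtain ⟨q, rfl⟩ := hpt d hdc
      exact hd.2 (hh q hd.1)
    have hcl : ∀ g'', IsClosed (V g'' : Set G'.left) := fun g'' => by
      have : QuasiCompact (Red.bc b G₀).hom := inferInstance
      have : LocallyOfFiniteType (Red.bc b G₀).hom := by rw [← Over.w i']; infer_instance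
      have := quasiCompact_left i'
      exact (MonoClosed.isClosed_range i').preimage (t g'').hom.left.continuous
    exact TopologicalSpace.Opens.ext (le_antisymm (hsub _ _ (hcl g') fun h => (key h).1)
      (hsub _ _ (hcl g) fun h => (key h).2))
  have hcov : ⨆ g, V g = ⊤ := by
    refine top_le_iff.1 fun x _ => ?_
    obtain ⟨c, hc, hcc⟩ := nonempty_inter_closedPoints (X := G'.left) (Z := closure {x})
      ⟨x, subset_closure rfl⟩ isClosed_closure.isLocallyClosed
    obtain ⟨p, rfl⟩ := hpt c hcc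
    have h1 : p.left s ∈ V p⁻¹ := (hmem _ p).2 ⟨1, by rw [MonObj.one_comp, inv_mul_cancel]⟩
    exact TopologicalSpace.Opens.mem_iSup.2 ⟨p⁻¹, (specializes_iff_mem_closure.2 hc).mem_open (V p⁻¹).2 h1⟩
  obtain ⟨F, hF⟩ := (isCompact_univ (X := G'.left)).elim_finite_subcover (fun g => (V g : Set G'.left))
    (fun g => (V g).2) fun x _ => by
      obtain ⟨g, hg⟩ := TopologicalSpace.Opens.mem_iSup.1 (hcov.symm ▸ trivial : x ∈ ⨆ g, V g)
      exact Set.mem_iUnion.2 ⟨g, hg⟩
  let W : Finset G'.left.Opens := F.image V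
  refine isAffine_of_disjoint (fun w : W => w.1) (fun w => ?_) ?_ ?_
  · obtain ⟨g, -, hg⟩ := Finset.mem_image.1 w.2
    exact hg ▸ hVaff g
  · refine top_le_iff.1 fun x _ => ?_
    obtain ⟨g, hg, hx⟩ := Set.mem_iUnion₂.1 (hF (Set.mem_univ x))
    exact TopologicalSpace.Opens.mem_iSup.2 ⟨⟨V g, Finset.mem_image.2 ⟨g, hg, rfl⟩⟩, hx⟩
  · rintro ⟨w, hw⟩ ⟨w', hw'⟩ hne
    obtain ⟨g, -, rfl⟩ := Finset.mem_image.1 hw
    obtain ⟨g', -, rfl⟩ := Finset.mem_image.1 hw'
    rw [← TopologicalSpace.Opens.coe_disjoint]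
    refine Set.disjoint_iff_inter_eq_empty.2 (Set.not_nonempty_iff_eq_empty.1 fun h => hne ?_)
    exact Subtype.ext (heq g g' h)

end

end Groth.Agent.Lib.GrpQ.AffKer
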