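import Groth.Agent.Lib.GrpQ.SmoothPt
import Groth.Agent.Lib.GrpQ.Desc
import Groth.Agent.Lib.GrpSch.BaseChange
import Groth.Agent.Lib.GrpSch.SepPoints
import Groth.Agent.Lib.GrpSch.SmoothReduced
import Mathlib.AlgebraicGeometry.Geometrically.Reduced
import Mathlib.AlgebraicGeometry.Morphisms.Smooth

/-!
# Rational points of geometrically reduced schemes over separably closed fields

* `exists_section`: a nonempty one has a section.
* `isIso_of_sections`, `isIso_of_points`: a closed subscheme containing all points is everything.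
* `ext_of_points`, `exists_factor_of_points`.
-/

set_option autoImplicit false

universe u

open CategoryTheory Limits MonoidalCategory CartesianMonoidalCategory MonObj AlgebraicGeometry TensorProduct

namespace Groth.Agent.Lib.GrpQ

theorem geometricallyReduced_comp {U X S : Scheme.{u}} (u : U ⟶ X) [IsOpenImmersion u] (f : X ⟶ S)
    [GeometricallyReduced f] : GeometricallyReduced (u ≫ f) := by
  refine ⟨fun K _ y Z a b h => ?_⟩
  let m := (IsPullback.of_hasPullback f y).lift (a ≫ u) b (by rw [Category.assoc, h.w])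
  have hm : IsPullback a m u (pullback.fst f y) := by
    refine IsPullback.of_bot ?_ ((IsPullback.of_hasPullback f y).lift_fst _ _ _).symm
      (IsPullback.of_hasPullback f y)
    rw [(IsPullback.of_hasPullback f y).lift_snd]
    exact h
  have : IsOpenImmersion m := MorphismProperty.of_isPullback hm inferInstance
  have : IsReduced (pullback f y) :=
    GeometricallyReduced.geometrically_isReduced y _ _ (IsPullback.of_hasPullback f y)
  exact isReduced_of_isOpenImmersion m

theorem isGeometricallyReduced_of_spec {K A : Type u} [Field K] [CommRing A] [Algebra K A]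
    [GeometricallyReduced (Spec.map (CommRingCat.ofHom (algebraMap K A)))] :
    Algebra.IsGeometricallyReduced K A := by
  rw [Algebra.isGeometricallyReduced_field_iff]
  have := GeometricallyReduced.geometrically_isReduced
    (f := Spec.map (CommRingCat.ofHom (algebraMap K A))) _ _ _
    (isPullback_SpecMap_of_isPushout _ _ _ _
      (CommRingCat.isPushout_tensorProduct K (AlgebraicClosure K) A).flip)
  exact (affine_isReduced_iff _).mp this

/-- A nonempty geometrically reduced scheme locally of finite type over a separably closed field has a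
rational point. -/
theorem exists_section {X : Scheme.{u}} {K : Type u} [Field K] [IsSepClosed K] [Nonempty X]
    (f : X ⟶ Spec (CommRingCat.of K)) [GeometricallyReduced f] [LocallyOfFiniteType f] :
    ∃ s, s ≫ f = 𝟙 _ := by
  obtain ⟨V, ⟨V, hV, rfl⟩, hxV, -⟩ :=
    X.isBasis_affineOpens.exists_subset_of_mem_open (Set.mem_univ (Classical.arbitrary X)) isOpen_univ
  let φ := (Spec.map_surjective (hV.fromSpec ≫ f)).choose
  have hφ : Spec.map φ = hV.fromSpec ≫ f := (Spec.map_surjective (hV.fromSpec ≫ f)).choose_spec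
  algebraize [φ.hom]
  have e : Spec.map (CommRingCat.ofHom (algebraMap K Γ(X, V))) = hV.fromSpec ≫ f := hφ
  have : IsOpenImmersion hV.fromSpec := hV.isOpenImmersion_fromSpec
  have : GeometricallyReduced (Spec.map (CommRingCat.ofHom (algebraMap K Γ(X, V)))) := by
    rw [e]; exact geometricallyReduced_comp _ _
  have := isGeometricallyReduced_of_spec (K := K) (A := Γ(X, V))
  have : LocallyOfFiniteType (Spec.map (CommRingCat.ofHom (algebraMap K Γ(X, V)))) := by
    rw [e]; infer_instance
  have : Algebra.FiniteType K Γ(X, V) :=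
    RingHom.finiteType_algebraMap.1 ((HasRingHomProperty.Spec_iff (P := @LocallyOfFiniteType)).1 this)
  have : Nontrivial Γ(X, V) := by
    have : Nonempty (Spec Γ(X, V)) := ⟨hV.primeIdealOf ⟨_, hxV⟩⟩
    exact (PrimeSpectrum.nonempty_iff_nontrivial).1 this
  obtain ⟨a, hne, hs⟩ := SmoothPt.exists_smooth_away K Γ(X, V)
  let j := Spec.map (CommRingCat.ofHom (algebraMap K (Localization.Away a)))
  have : Smooth j := by
    rw [HasRingHomProperty.Spec_iff (P := @Smooth)]
    exact RingHom.smooth_algebraMap.2 hs
  have : Nonempty ↥(Spec (CommRingCat.of (Localization.Away a))) :=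
    inferInstanceAs (Nonempty (PrimeSpectrum (Localization.Away a)))
  obtain ⟨s, hs⟩ := GrpSch.exists_section_of_smooth j
  refine ⟨s ≫ Spec.map (CommRingCat.ofHom (algebraMap Γ(X, V) (Localization.Away a))) ≫ hV.fromSpec, ?_⟩
  rw [Category.assoc, Category.assoc, ← e, ← Spec.map_comp, ← CommRingCat.ofHom_comp,
    ← IsScalarTower.algebraMap_eq]
  exact hs

/-- A closed subscheme containing all rational points is everything. -/
theorem isIso_of_sections {X Z : Scheme.{u}} {K : Type u} [Field K] [IsSepClosed K]
    (f : X ⟶ Spec (CommRingCat.of K)) [GeometricallyReduced f] [LocallyOfFiniteType f]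
    (c : Z ⟶ X) [IsClosedImmersion c]
    (h : ∀ s : Spec (CommRingCat.of K) ⟶ X, s ≫ f = 𝟙 _ → ∃ z, z ≫ c = s) : IsIso c := by
  have : IsReduced X := GeometricallyReduced.isReduced_of_flat_of_isLocallyNoetherian f
  have : Surjective c := by
    refine ⟨fun x => ?_⟩
    by_contra hx
    let U : X.Opens := ⟨(Set.range c)ᶜ, c.isClosedEmbedding.isClosed_range.isOpen_compl⟩
    have : Nonempty (U : Scheme.{u}) := ⟨⟨x, hx⟩⟩
    have : GeometricallyReduced (U.ι ≫ f) := geometricallyReduced_comp _ _
    obtain ⟨s, hs⟩ := exists_section (U.ι ≫ f)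
    obtain ⟨z, hz⟩ := h (s ≫ U.ι) (by rw [Category.assoc, hs])
    let p : ↥(Spec (CommRingCat.of K)) := IsLocalRing.closedPoint K
    have h2 : (s ≫ U.ι) p ∈ Set.range c := by
      rw [← hz, Scheme.Hom.comp_apply]
      exact ⟨_, rfl⟩
    rw [Scheme.Hom.comp_apply] at h2
    exact (s p).2 h2
  exact isIso_of_isClosedImmersion_of_surjective c

variable {k K : Type u} [Field k] [Field K] [Algebra k K]

/-- `Spec K` over `Spec k`. -/
noncomputable abbrev pt (k K : Type u) [Field k] [Field K] [Algebra k K] :
    Over (Spec (CommRingCat.of k)) :=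
  Over.mk (Spec.map (CommRingCat.ofHom (algebraMap k K)))

variable [IsSepClosed K]

/-- A closed subscheme containing all `K`-points is everything. -/
theorem isIso_of_points {Z X : Over (Spec (CommRingCat.of k))} [GeometricallyReduced X.hom]
    [LocallyOfFiniteType X.hom] (c : Z ⟶ X) [IsClosedImmersion c.left]
    (h : ∀ x : pt k K ⟶ X, ∃ z : pt k K ⟶ Z, z ≫ c = x) : IsIso c := by
  let b := GrpSch.extBase k K
  have : IsClosedImmersion ((Over.pullback b).map c).left :=
    GrpSch.bc_map_left_of (P := @IsClosedImmersion) b c ‹_›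
  have : GeometricallyReduced (Red.bc b X).hom :=
    GrpSch.bc_hom_of (P := @GeometricallyReduced) b X ‹_›
  have : LocallyOfFiniteType (Red.bc b X).hom :=
    GrpSch.bc_hom_of (P := @LocallyOfFiniteType) b X ‹_›
  have hi : IsIso ((Over.pullback b).map c).left := by
    refine isIso_of_sections (Red.bc b X).hom _ fun s hs => ?_
    obtain ⟨z, hz⟩ := h (Over.homMk (U := pt k K) (s ≫ GrpSch.bcProj b X) (by
      show (s ≫ GrpSch.bcProj b X) ≫ X.hom = b
      rw [Category.assoc, (GrpSch.isPullback_bc b X).w, reassoc_of% hs]))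
    refine ⟨(GrpSch.isPullback_bc_map b c).lift s z.left ?_,
      (GrpSch.isPullback_bc_map b c).lift_fst _ _ _⟩
    exact (congr($(hz).left)).symm
  have : IsIso ((Over.pullback b).map c) := by
    have : IsIso ((Over.forget _).map ((Over.pullback b).map c)) := hi
    exact isIso_of_reflects_iso _ (Over.forget _)
  exact GrpSch.isIso_of_isIso_bc_map k K c

omit [IsSepClosed K] in
/-- If the `K`-points are schematically dense, morphisms to a separated scheme are detected on them. -/
theorem ext_of_dense {X Y : Over (Spec (CommRingCat.of k))} [IsSeparated Y.hom]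
    (hd : ∀ (Z : Over (Spec (CommRingCat.of k))) (c : Z ⟶ X), IsClosedImmersion c.left →
      (∀ x : pt k K ⟶ X, ∃ z : pt k K ⟶ Z, z ≫ c = x) → IsIso c)
    (a b : X ⟶ Y) (h : ∀ x : pt k K ⟶ X, x ≫ a = x ≫ b) : a = b := by
  have := hd (equalizer a b) (equalizer.ι a b) inferInstance
    fun x => ⟨equalizer.lift x (h x), equalizer.lift_ι _ _⟩
  rw [← cancel_epi (equalizer.ι a b)]
  exact equalizer.condition a b

omit [IsSepClosed K] in
/-- If the `K`-points are schematically dense, factoring through a closed subscheme is detected on them. -/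
theorem exists_factor_of_dense {X Y N : Over (Spec (CommRingCat.of k))}
    (hd : ∀ (Z : Over (Spec (CommRingCat.of k))) (c : Z ⟶ X), IsClosedImmersion c.left →
      (∀ x : pt k K ⟶ X, ∃ z : pt k K ⟶ Z, z ≫ c = x) → IsIso c)
    (i : N ⟶ Y) [IsClosedImmersion i.left] (φ : X ⟶ Y)
    (h : ∀ x : pt k K ⟶ X, ∃ n : pt k K ⟶ N, n ≫ i = x ≫ φ) : ∃ ψ : X ⟶ N, ψ ≫ i = φ := by
  have hc : IsClosedImmersion (pullback.fst φ i).left :=
    MorphismProperty.of_isPullback (P := @IsClosedImmersion)
      ((IsPullback.of_hasPullback φ i).map (Over.forget _)).flip ‹_›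
  have := hd (pullback φ i) (pullback.fst φ i) hc fun x => by
    obtain ⟨n, hn⟩ := h x
    exact ⟨pullback.lift x n hn.symm, pullback.lift_fst _ _ _⟩
  exact ⟨inv (pullback.fst φ i) ≫ pullback.snd φ i, by simp [← pullback.condition]⟩

theorem ext_of_points {X Y : Over (Spec (CommRingCat.of k))} [GeometricallyReduced X.hom]
    [LocallyOfFiniteType X.hom] [IsSeparated Y.hom] (a b : X ⟶ Y)
    (h : ∀ x : pt k K ⟶ X, x ≫ a = x ≫ b) : a = b :=
  ext_of_dense (fun _ c _ hz => isIso_of_points c hz) a b h

theorem exists_factor_of_points {X Y N : Over (Spec (CommRingCat.of k))} [GeometricallyReduced X.hom]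
    [LocallyOfFiniteType X.hom] (i : N ⟶ Y) [IsClosedImmersion i.left] (φ : X ⟶ Y)
    (h : ∀ x : pt k K ⟶ X, ∃ n : pt k K ⟶ N, n ≫ i = x ≫ φ) : ∃ ψ : X ⟶ N, ψ ≫ i = φ :=
  exists_factor_of_dense (fun _ c _ hz => isIso_of_points c hz) i φ h

end Groth.Agent.Lib.GrpQ
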