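import Mathlib.RingTheory.Nilpotent.GeometricallyReduced
import Mathlib.RingTheory.Smooth.Locus
import Mathlib.RingTheory.Localization.BaseChange
import Mathlib.RingTheory.LocalProperties.Reduced
import Groth.Agent.Lib.PBasis.FieldSmooth

/-!
# A geometrically reduced algebra of finite type over a field is smooth somewhere
-/

set_option autoImplicit false

universe u

open TensorProduct

namespace Groth.Agent.Lib.GrpQ.SmoothPt

variable (K A : Type u) [Field K] [CommRing A] [Algebra K A]

theorem isField_atPrime_minimal [IsReduced A] {P : Ideal A} [P.IsPrime] (hP : P ∈ minimalPrimes A) :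
    IsField (Localization.AtPrime P) := by
  have : IsReduced (Localization.AtPrime P) := isReduced_localizationPreserves P.primeCompl _ inferInstance
  rw [IsLocalRing.isField_iff_maximalIdeal_eq, eq_bot_iff]
  intro x hx
  rw [Submodule.mem_bot]
  refine IsNilpotent.eq_zero ?_
  rw [nilpotent_iff_mem_prime]
  intro Q hQ
  have hle : Q.under A ≤ P :=
    (Ideal.comap_mono (IsLocalRing.le_maximalIdeal hQ.ne_top)).trans
      (Localization.AtPrime.under_maximalIdeal (I := P)).le
  have heq : Q.under A = P := le_antisymm hle (hP.2 ⟨Ideal.comap_isPrime _ _, bot_le⟩ hle)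
  have e : IsLocalRing.maximalIdeal (Localization.AtPrime P) = Q :=
    calc IsLocalRing.maximalIdeal (Localization.AtPrime P)
        = ((IsLocalRing.maximalIdeal (Localization.AtPrime P)).under A).map
            (algebraMap A (Localization.AtPrime P)) :=
          (IsLocalization.map_under P.primeCompl (Localization.AtPrime P) _).symm
      _ = (Q.under A).map (algebraMap A (Localization.AtPrime P)) :=
          congrArg _ ((Localization.AtPrime.under_maximalIdeal (I := P)).trans heq.symm)
      _ = Q := IsLocalization.map_under P.primeCompl (Localization.AtPrime P) Q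
  exact e ▸ hx

theorem isGeometricallyReduced_localization [Algebra.IsGeometricallyReduced K A] (M : Submonoid A) :
    Algebra.IsGeometricallyReduced K (Localization M) := by
  rw [Algebra.isGeometricallyReduced_field_iff]
  let C := Localization (M.map (Algebra.TensorProduct.includeRight (R := K) (A := AlgebraicClosure K) (B := A)))
  let e : AlgebraicClosure K ⊗[K] Localization M ≃ₐ[AlgebraicClosure K] C :=
    IsLocalization.tensorProductEquivOfMapIncludeRight K (AlgebraicClosure K) M (Localization M) C
  have : IsReduced C := isReduced_localizationPreserves (M.map (Algebra.TensorProduct.includeRight (R := K) (A := AlgebraicClosure K) (B := A))) C inferInstance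
  exact isReduced_of_injective e.toRingHom e.injective

theorem exists_smooth_away [Algebra.FiniteType K A] [Nontrivial A] [Algebra.IsGeometricallyReduced K A] :
    ∃ f : A, Nontrivial (Localization.Away f) ∧ Algebra.Smooth K (Localization.Away f) := by
  have := Algebra.isReduced_of_isGeometricallyReduced K (A := A)
  obtain ⟨P, hP⟩ := Ideal.nonempty_minimalPrimes (I := (⊥ : Ideal A)) bot_ne_top
  have := hP.1.1
  let L := Localization.AtPrime P
  let _ : Field L := (isField_atPrime_minimal A hP).toField
  have : Algebra.IsGeometricallyReduced K L := isGeometricallyReduced_localization K A P.primeCompl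
  have : Algebra.IsSmoothAt K P := PBasis.FieldSmooth.formallySmooth_iff_isGeometricallyReduced.2 this
  have : Algebra.FinitePresentation K A := Algebra.FinitePresentation.of_finiteType.1 inferInstance
  obtain ⟨f, hf, hs⟩ := Algebra.IsSmoothAt.exists_notMem_smooth K P
  refine ⟨f, (IsLocalization.Away.lift (S := Localization.Away f) f
    (g := algebraMap A L) ?_).domain_nontrivial, hs⟩
  exact IsLocalization.map_units L (⟨f, hf⟩ : P.primeCompl)

end Groth.Agent.Lib.GrpQ.SmoothPt
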