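import Groth.Agent.Lib.GrpQ.Points
import Groth.Agent.Lib.GrpSch.SmoothReduced

/-!
# Closed subschemes with the same points; products of smooth schemes
-/

set_option autoImplicit false

universe u

open CategoryTheory Limits MonoidalCategory CartesianMonoidalCategory MonObj AlgebraicGeometry

namespace Groth.Agent.Lib.GrpQ

variable {k K : Type u} [Field k] [Field K] [Algebra k K] [IsSepClosed K]

theorem exists_iso_of_points {X Z Z' : Over (Spec (CommRingCat.of k))} [LocallyOfFiniteType X.hom]
    (c : Z ⟶ X) [IsClosedImmersion c.left] [GeometricallyReduced Z.hom]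
    (c' : Z' ⟶ X) [IsClosedImmersion c'.left] [GeometricallyReduced Z'.hom]
    (h : ∀ x : pt k K ⟶ X, (∃ z : pt k K ⟶ Z, z ≫ c = x) ↔ (∃ z' : pt k K ⟶ Z', z' ≫ c' = x)) :
    ∃ e : Z ≅ Z', e.hom ≫ c' = c := by
  have : LocallyOfFiniteType Z.hom := by rw [← Over.w c]; infer_instance
  have : LocallyOfFiniteType Z'.hom := by rw [← Over.w c']; infer_instance
  have hP := (IsPullback.of_hasPullback c c').map (Over.forget (Spec (CommRingCat.of k)))
  have : IsClosedImmersion (pullback.fst c c').left :=
    MorphismProperty.of_isPullback (P := @IsClosedImmersion) hP.flip ‹_›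
  have : IsClosedImmersion (pullback.snd c c').left :=
    MorphismProperty.of_isPullback (P := @IsClosedImmersion) hP ‹_›
  have : IsIso (pullback.fst c c') := isIso_of_points (K := K) _ fun x => by
    obtain ⟨z', hz'⟩ := (h (x ≫ c)).1 ⟨x, rfl⟩
    exact ⟨pullback.lift x z' hz'.symm, pullback.lift_fst _ _ _⟩
  have : IsIso (pullback.snd c c') := isIso_of_points (K := K) _ fun x => by
    obtain ⟨z, hz⟩ := (h (x ≫ c')).2 ⟨x, rfl⟩
    exact ⟨pullback.lift z x hz, pullback.lift_snd _ _ _⟩
  exact ⟨(asIso (pullback.fst c c')).symm ≪≫ asIso (pullback.snd c c'),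
    by simp [← pullback.condition]⟩

omit [Field K] [Algebra k K] [IsSepClosed K] in
theorem smooth_tensor {G H : Over (Spec (CommRingCat.of k))} [Smooth G.hom] [Smooth H.hom] :
    Smooth (G ⊗ H).hom := by
  rw [← Over.w (fst G H)]
  have : Smooth (fst G H).left := GrpSch.fst_left_of G (P := @Smooth) ‹_›
  infer_instance

omit [Field K] [Algebra k K] [IsSepClosed K] in
theorem locallyOfFiniteType_tensor {G H : Over (Spec (CommRingCat.of k))} [LocallyOfFiniteType G.hom]
    [LocallyOfFiniteType H.hom] : LocallyOfFiniteType (G ⊗ H).hom := by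
  rw [← Over.w (fst G H)]
  have : LocallyOfFiniteType (fst G H).left := GrpSch.fst_left_of G (P := @LocallyOfFiniteType) ‹_›
  infer_instance

end Groth.Agent.Lib.GrpQ
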