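import Groth.Agent.Lib.GrpQ.AffKer
import Groth.Agent.H81.CycCover.Conn
import Groth.Agent.H75.RedSub

/-!
Anti-affine groups and the rigidity lemma for connected schemes.
-/

set_option autoImplicit false

universe u

open CategoryTheory Limits MonoidalCategory CartesianMonoidalCategory MonObj AlgebraicGeometry

namespace Groth.Agent.Lib.GrpQ.AntiAff

noncomputable section

variable {k : Type u} [Field k]

theorem nonempty_of_bijective {X : Over (Spec (CommRingCat.of k))}
    (h : Function.Bijective ((Scheme.ΓSpecIso (CommRingCat.of k)).inv ≫ X.hom.appTop).hom) : Nonempty X.left := by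
  by_contra hne
  rw [not_nonempty_iff] at hne
  have : Subsingleton Γ(X.left, ⊤) :=
    CommRingCat.subsingleton_of_isTerminal (X.left.sheaf.isTerminalOfEqEmpty (by ext x; exact isEmptyElim x))
  exact zero_ne_one (α := k) (h.1 (Subsingleton.elim _ _))

theorem isIso_of_bijective {X : Over (Spec (CommRingCat.of k))}
    (h : Function.Bijective ((Scheme.ΓSpecIso (CommRingCat.of k)).inv ≫ X.hom.appTop).hom) :
    IsIso X.hom.appTop := by
  have := nonempty_of_bijective h
  exact GlobalFn.isIso_appTop (GlobalFn.bijective_iff.1 h)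

theorem connectedSpace {X : Over (Spec (CommRingCat.of k))}
    (h : Function.Bijective ((Scheme.ΓSpecIso (CommRingCat.of k)).inv ≫ X.hom.appTop).hom) :
    ConnectedSpace X.left := by
  have := nonempty_of_bijective h
  refine H81.CycCover.Conn.connectedSpace_of_idempotent fun e he => ?_
  obtain ⟨c, rfl⟩ := h.2 e
  rw [← map_mul] at he
  have hc := h.1 he
  rcases eq_or_ne c 0 with rfl | hc0
  · exact Or.inl (map_zero _)
  · exact Or.inr (by rw [(mul_eq_left₀ hc0).1 hc, map_one])

variable {G H : Over (Spec (CommRingCat.of k))} [GrpObj G] [GrpObj H]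

/-- Homomorphisms from an anti-affine group to a connected one are central. -/
theorem commute [QuasiCompact G.hom] [IsIso G.hom.appTop] [LocallyOfFiniteType H.hom] [QuasiCompact H.hom]
    [ConnectedSpace H.left] (φ : G ⟶ H) [IsMonHom φ] {T : Over (Spec (CommRingCat.of k))} (g : T ⟶ G)
    (y : T ⟶ H) : (g ≫ φ) * y = y * (g ≫ φ) :=
  AffKer.commute_of_killed φ g (by simpa using AffKer.killed_comp (AffKer.killed_id (G := G)) g) y

/-- Pointed morphisms out of an anti-affine group are homomorphisms. -/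
theorem isMonHom_of_pointed [LocallyOfFiniteType G.hom] [QuasiCompact G.hom]
    (hG : Function.Bijective ((Scheme.ΓSpecIso (CommRingCat.of k)).inv ≫ G.hom.appTop).hom)
    [IsSeparated H.hom] (f : G ⟶ H) (hf : η[G] ≫ f = η[H]) : IsMonHom f := by
  have := isIso_of_bijective hG
  have := connectedSpace hG
  have := GrpSch.isSeparated_of_field G
  have : IsLocallyNoetherian G.left := LocallyOfFiniteType.isLocallyNoetherian G.hom
  obtain ⟨A, _, _, _, j, e, hj, he⟩ := InfAgree.exists_chart G η[G]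
  let Φ : G ⊗ G ⟶ H := ((fst G G ≫ f) * (snd G G ≫ f))⁻¹ * (μ[G] ≫ f)
  have hmul : ∀ {T : Over (Spec (CommRingCat.of k))} (a b : T ⟶ G),
      lift a b ≫ Φ = ((a ≫ f) * (b ≫ f))⁻¹ * ((a * b) ≫ f) := fun a b => by
    simp only [Φ, MonObj.comp_mul, GrpObj.comp_inv, lift_fst_assoc, lift_snd_assoc, Hom.mul_def a b,
      Category.assoc]
  have h1f : ∀ {T : Over (Spec (CommRingCat.of k))}, (1 : T ⟶ G) ≫ f = 1 := fun {T} => by
    rw [Hom.one_def, Category.assoc, hf, Hom.one_def]
  have hy0 : (G ◁ (InfSub.ptOf e ≫ j)) ≫ Φ = toUnit _ ≫ η[H] := by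
    rw [he, show G ◁ η[G] = lift (fst G (𝟙_ _)) (1 : G ⊗ 𝟙_ _ ⟶ G) by
      rw [Hom.one_def, toUnit_unique (toUnit (G ⊗ 𝟙_ _)) (snd G (𝟙_ _))]; ext1 <;> simp, hmul, h1f,
      _root_.mul_one, _root_.mul_one, inv_mul_cancel, Hom.one_def]
  obtain ⟨L, _, _, _, v, eL, hv, hev, hfg⟩ := InfAgree.exists_agree_nhd e j _ _
    (InfAgree.agreeInf_of_constant e j η[G] Φ η[H] hy0)
  have hW : ∀ {T : Over (Spec (CommRingCat.of k))} (x : T ⟶ G) (a : T ⟶ InfSub.sp k L),
      (x * (a ≫ v)) ≫ f = (x ≫ f) * ((a ≫ v) ≫ f) := by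
    intro T x a
    have h := congrArg (lift x a ≫ ·) hfg
    simp only [← Category.assoc, lift_whiskerLeft, lift_snd] at h
    rw [comp_lift, ← Category.assoc (a ≫ v) (toUnit G), toUnit_unique ((a ≫ v) ≫ toUnit G) (toUnit T),
      ← Hom.one_def, Category.comp_id, hmul, hmul, h1f, _root_.one_mul, _root_.one_mul, inv_mul_cancel] at h
    exact (inv_mul_eq_one.1 h).symm
  have hcov := GenCover.isCover_mW v (InfSub.ptOf eL) (hev.trans he)
  have key : μ[G] ≫ f = (fst G G ≫ f) * (snd G G ≫ f) := by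
    refine cancel_cover (GenCover.isCover_whiskerLeft G hcov) ?_
    have hsnd : (G ◁ GenCover.mW v) ≫ snd G G =
        (snd G (InfSub.sp k L ⊗ InfSub.sp k L) ≫ fst _ _ ≫ v) *
          (snd G (InfSub.sp k L ⊗ InfSub.sp k L) ≫ snd _ _ ≫ v) := by
      rw [whiskerLeft_snd, ← MonObj.comp_mul, GenCover.mW, Hom.mul_def, lift_fst_comp_snd_comp]
    rw [show μ[G] = fst G G * snd G G by rw [Hom.mul_def, lift_fst_snd, Category.id_comp],
      ← Category.assoc, MonObj.comp_mul, MonObj.comp_mul, ← Category.assoc _ (fst G G),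
      ← Category.assoc _ (snd G G)]
    simp only [whiskerLeft_fst, hsnd]
    generalize fst G (InfSub.sp k L ⊗ InfSub.sp k L) = x
    rw [← Category.assoc (snd G (InfSub.sp k L ⊗ InfSub.sp k L)) (fst _ _),
      ← Category.assoc (snd G (InfSub.sp k L ⊗ InfSub.sp k L)) (snd (InfSub.sp k L) (InfSub.sp k L)),
      ← _root_.mul_assoc x, hW, hW x, hW, _root_.mul_assoc]
  refine ⟨hf, ?_⟩
  rw [key, Hom.mul_def, lift_fst_comp_snd_comp]

end

end Groth.Agent.Lib.GrpQ.AntiAff
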