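import Groth.Agent.Lib.GrpQ.FrobQ
import Groth.Agent.Lib.GrpQ.RedSubgroup
import Groth.Agent.Lib.GrpQ.AffKer2
import Groth.Agent.Lib.GrpQ.AntiAff
import Groth.Agent.S0353
import Groth.Agent.H1.Classical.Smooth

/-!
Anti-affine groups are smooth.
-/

set_option autoImplicit false

universe u

open CategoryTheory Limits MonoidalCategory CartesianMonoidalCategory MonObj AlgebraicGeometry

namespace Groth.Agent.Lib.GrpQ.AntiAffSmooth

noncomputable section

/-- An anti-affine group over an algebraically closed field of characteristic `p` is reduced. -/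
theorem isReduced (p : ℕ) [Fact p.Prime] {k : Type u} [Field k] [IsAlgClosed k] [CharP k p]
    (G : Over (Spec (CommRingCat.of k))) [GrpObj G] [LocallyOfFiniteType G.hom] [QuasiCompact G.hom]
    (hG : Function.Bijective ((Scheme.ΓSpecIso (CommRingCat.of k)).inv ≫ G.hom.appTop).hom) :
    IsReduced G.left := by
  have := AntiAff.isIso_of_bijective hG
  have := AntiAff.connectedSpace hG
  have := GrpSch.isSeparated_of_field G
  have hcomm : ∀ {T : Over (Spec (CommRingCat.of k))} (x y : T ⟶ G), x * y = y * x := fun x y => by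
    simpa using AntiAff.commute (𝟙 G) x y
  have hη : ∀ {H : Over (Spec (CommRingCat.of k))} [GrpObj H],
      η[H] = (1 : 𝟙_ (Over (Spec (CommRingCat.of k))) ⟶ H) := fun {H} _ => by
    rw [Hom.one_def, toUnit_unique (toUnit _) (𝟙 _), Category.id_comp]
  -- the reduced quotient and its kernel
  obtain ⟨C, _, π, hπ, hClft, hCqc, hCred, hπf, hπs, hπinj⟩ := FrobQ.exists_reduced_quotient p G
  have hπc : IsCover π := isCover_hom π
  have := GrpSch.isSeparated_of_field C
  obtain ⟨K, _, iK, hiKm, hiK, hK, -⟩ := exists_kernel π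
  have : Mono iK := mono_of_left iK
  have : LocallyOfFiniteType K.hom := by rw [← Over.w iK]; infer_instance
  have : QuasiCompact K.hom := by rw [← Over.w iK]; infer_instance
  have hKsub : Subsingleton K.left := ⟨fun a b => by
    refine iK.left.isClosedEmbedding.injective (hπinj ?_)
    have h := kernel_comp hK
    have ha := congrArg (fun f : K ⟶ C => f.left a) h
    have hb := congrArg (fun f : K ⟶ C => f.left b) h
    rw [Hom.one_def] at ha hb
    simp only [Over.comp_left, Scheme.Hom.comp_apply] at ha hb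
    rw [ha, hb]
    congr 1
    exact Subsingleton.elim (α := Spec (CommRingCat.of k)) _ _⟩
  have hKaff : IsAffine K.left := by
    let z := η[K].left (IsLocalRing.closedPoint k)
    obtain ⟨V, hV, hz, -⟩ := exists_isAffineOpen_mem_and_subset (X := K.left) (x := z) (U := ⊤) trivial
    have hVtop : V = ⊤ := eq_top_iff.2 fun a _ => Subsingleton.elim z a ▸ hz
    subst hVtop
    have : IsAffine (⊤ : K.left.Opens).toScheme := hV
    exact .of_isIso K.left.topIso.inv
  -- the reduced subgroup
  obtain ⟨R, _, iR, hiRm, hiR, hiRs, hRred⟩ := RedSubgroup.exists_reduced_subgroup G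
  have : Mono iR := mono_of_left iR
  have : LocallyOfFiniteType R.hom := by rw [← Over.w iR]; infer_instance
  have : QuasiCompact R.hom := by rw [← Over.w iR]; infer_instance
  let ρ : R ⟶ C := iR ≫ π
  have hρs : Surjective ρ.left := by simp only [ρ, Over.comp_left]; infer_instance
  have hρf : Flat ρ.left := flat_of_surjective_of_isReduced ρ
  have hρc : IsCover ρ := isCover_hom ρ
  obtain ⟨M, _, iM, hiMm, hiM, hM, -⟩ := exists_kernel ρ
  obtain ⟨jM, hjM⟩ := (mem_kernel hK (iM ≫ iR)).2 (by rw [Category.assoc]; exact kernel_comp hM)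
  have : IsMonHom jM := DomFlat.isMonHom_of_comp_mono jM iK (by rw [hjM]; infer_instance)
  have : IsClosedImmersion jM.left := by
    have : IsClosedImmersion (jM.left ≫ iK.left) := by
      rw [← Over.comp_left, hjM, Over.comp_left]; infer_instance
    exact IsClosedImmersion.of_comp jM.left iK.left
  have hn : AlgGrp.IsNormalHom jM := fun T g m => by
    refine ⟨m, ?_⟩
    rw [← cancel_mono iK, MonObj.mul_comp, MonObj.mul_comp, GrpObj.inv_comp, hcomm (g ≫ iK),
      mul_inv_cancel_right]
  have hk : ∀ (T : Over (Spec (CommRingCat.of k))) (g : T ⟶ K), AffKer.Killed g → ∃ z : T ⟶ M, z ≫ jM = g := by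
    intro T g hg
    have : IsIso (Affinization.rho K).left := inferInstanceAs (IsIso K.left.toSpecΓ)
    have : Mono (Affinization.rho K) := mono_of_left _
    refine ⟨1, ?_⟩
    rw [← cancel_mono (Affinization.rho K), hg, ← Category.assoc (toUnit T), ← Hom.one_def, MonObj.one_comp]
  obtain ⟨Q, _, q, hqm, hQaff, -, -, -, hq⟩ := AffKer.exists_quotient jM hn hk
  -- `G` is covered by `R ⊗ K`
  let m : R ⊗ K ⟶ G := (fst R K ≫ iR) * (snd R K ≫ iK)
  have hlift : ∀ {T : Over (Spec (CommRingCat.of k))} (a : T ⟶ R) (b : T ⟶ K),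
      lift a b ≫ m = (a ≫ iR) * (b ≫ iK) := fun a b => by
    simp only [m, MonObj.comp_mul, lift_fst_assoc, lift_snd_assoc]
  have hmeq : ∀ {T : Over (Spec (CommRingCat.of k))} (l : T ⟶ R ⊗ K),
      l ≫ m = ((l ≫ fst R K) ≫ iR) * ((l ≫ snd R K) ≫ iK) := fun l => by
    simp only [m, MonObj.comp_mul, Category.assoc]
  have hsq : IsPullback (fst R K).left m.left ρ.left π.left := by
    refine DomFlat.isPullback_of_forall ?_ ?_ ?_
    · simp only [m, ρ, MonObj.mul_comp, Category.assoc, kernel_comp hK, MonObj.comp_one, _root_.mul_one]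
    · intro T x y hxy
      obtain ⟨z, hz⟩ := (mem_kernel hK ((x ≫ iR)⁻¹ * y)).2 (by
        rw [MonObj.mul_comp, GrpObj.inv_comp, Category.assoc, hxy, inv_mul_cancel])
      refine ⟨lift x z, lift_fst _ _, ?_⟩
      rw [hlift, hz, mul_inv_cancel_left]
    · intro T l l' h1 h2
      rw [hmeq, hmeq, h1, mul_right_inj, cancel_mono] at h2
      exact CartesianMonoidalCategory.hom_ext _ _ h1 h2
  have hmc : IsCover m := by
    obtain ⟨h1, h2, h3⟩ := hρc
    exact ⟨MorphismProperty.of_isPullback (P := @Flat) hsq h1,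
      MorphismProperty.of_isPullback (P := @Surjective) hsq h2,
      MorphismProperty.of_isPullback (P := @QuasiCompact) hsq h3⟩
  -- the composite to `Q` descends to `G`, hence is constant
  obtain ⟨φ, hφ⟩ := exists_desc hmc (snd R K ≫ q) fun Z x y hxy => by
    rw [← Category.assoc, ← Category.assoc]
    rw [hmeq, hmeq] at hxy
    generalize x ≫ snd R K = b at hxy ⊢
    generalize y ≫ snd R K = b' at hxy ⊢
    generalize x ≫ fst R K = a at hxy
    generalize y ≫ fst R K = a' at hxy
    have he : (a⁻¹ * a') ≫ iR = (b * b'⁻¹) ≫ iK := by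
      rw [MonObj.mul_comp, MonObj.mul_comp, GrpObj.inv_comp, GrpObj.inv_comp]
      rw [eq_mul_inv_iff_mul_eq, _root_.mul_assoc, ← hxy, inv_mul_cancel_left]
    obtain ⟨n, hn⟩ := (mem_kernel hM (a⁻¹ * a')).2 (by
      rw [← Category.assoc, he, Category.assoc, kernel_comp hK, MonObj.comp_one])
    have hnb : n ≫ jM = b * b'⁻¹ := by
      rw [← cancel_mono iK, Category.assoc, hjM, ← Category.assoc, hn, he]
    have hb : (b * b'⁻¹) ≫ q = 1 := by rw [← hnb, Category.assoc, kernel_comp hq, MonObj.comp_one]
    rw [MonObj.mul_comp, GrpObj.inv_comp, mul_inv_eq_one] at hb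
    exact hb
  have : IsIso (toUnit G).left.appTop := ‹IsIso G.hom.appTop›
  obtain ⟨c, hc⟩ := Affinization.exists_fac (toUnit G) φ
  have hKq : ∀ {T : Over (Spec (CommRingCat.of k))} (z : T ⟶ K), z ≫ q = toUnit T ≫ c := by
    intro T z
    have h := congrArg (lift (1 : T ⟶ R) z ≫ ·) hφ
    simp only [← Category.assoc, hlift, lift_snd] at h
    rw [← h, MonObj.one_comp, _root_.one_mul, ← hc, ← Category.assoc, toUnit_unique ((z ≫ iK) ≫ toUnit G) (toUnit T)]
  obtain ⟨n, hn'⟩ := (mem_kernel hq (𝟙 K)).2 (by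
    rw [hKq, ← hKq (1 : K ⟶ K), MonObj.one_comp])
  have hKR : (n ≫ iM) ≫ iR = iK := by
    rw [Category.assoc, ← hjM, reassoc_of% hn']
  obtain ⟨s, hs⟩ := exists_factor iR (𝟙 G) hmc (fst R K * (snd R K ≫ n ≫ iM)) (by
    rw [MonObj.mul_comp, Category.comp_id, Category.assoc (snd R K), hKR])
  have : IsIso iR := ⟨s, by rw [← cancel_mono iR, Category.assoc, hs, Category.comp_id, Category.id_comp], hs⟩
  have : IsIso iR.left := ((Over.forget _).mapIso (asIso iR)).isIso_hom
  exact isReduced_of_isOpenImmersion (inv iR.left)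

/-- An anti-affine group over an algebraically closed field is smooth. -/
theorem smooth_of_isAlgClosed {k : Type u} [Field k] [IsAlgClosed k]
    (G : Over (Spec (CommRingCat.of k))) [GrpObj G] [LocallyOfFiniteType G.hom] [QuasiCompact G.hom]
    (hG : Function.Bijective ((Scheme.ΓSpecIso (CommRingCat.of k)).inv ≫ G.hom.appTop).hom) :
    Smooth G.hom := by
  rcases CharP.exists' k with h | ⟨p, hp, hpc⟩
  · exact Groth.Agent.S0353.result k G
  · have := isReduced p G hG
    letI : GrpObj (Over.mk G.hom) := ‹GrpObj G›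
    exact H1.Classical.Smooth.smooth_of_isReduced G.hom

/-- An anti-affine group is smooth. -/
theorem smooth {k : Type u} [Field k]
    (G : Over (Spec (CommRingCat.of k))) [GrpObj G] [LocallyOfFiniteType G.hom] [QuasiCompact G.hom]
    (hG : Function.Bijective ((Scheme.ΓSpecIso (CommRingCat.of k)).inv ≫ G.hom.appTop).hom) :
    Smooth G.hom := by
  let K := AlgebraicClosure k
  let b := GrpSch.extBase k K
  let G' := Red.bc b G
  have : LocallyOfFiniteType G'.hom := GrpSch.bc_hom_of (P := @LocallyOfFiniteType) b G ‹_›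
  have : QuasiCompact G'.hom := GrpSch.bc_hom_of (P := @QuasiCompact) b G ‹_›
  have : Nonempty G.left := ⟨η[G].left (IsLocalRing.closedPoint k)⟩
  have : Nonempty G'.left := ⟨η[G'].left (IsLocalRing.closedPoint K)⟩
  have := GrpSch.isSeparated_of_field G
  have hG' : Function.Bijective ((Scheme.ΓSpecIso (CommRingCat.of K)).inv ≫ G'.hom.appTop).hom := by
    rw [GlobalFn.bijective_iff] at hG ⊢
    exact H2.Rigid.surjective_baseChange G.hom (IsPullback.of_hasPullback G.hom b) hG
  exact GrpSch.of_bc_hom k K (P := @Smooth) G (smooth_of_isAlgClosed G' hG')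

end

end Groth.Agent.Lib.GrpQ.AntiAffSmooth
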