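import Groth.Agent.Lib.GrpQ.AffKer
import Groth.Agent.Lib.GrpQ.AntiAff

/-!
The kernel of the affine hull is anti-affine.
-/

set_option autoImplicit false

universe u

open CategoryTheory Limits MonoidalCategory CartesianMonoidalCategory MonObj AlgebraicGeometry

namespace Groth.Agent.Lib.GrpQ.KerRho

noncomputable section

variable {k : Type u} [Field k] {G N : Over (Spec (CommRingCat.of k))} [GrpObj G] [GrpObj N]

/-- Functions on the base change of a morphism with constant functions along a flat affine morphism. -/
theorem isIso_appTop_of_isPullback {X T P : Scheme.{u}} {S : Scheme.{u}} [IsAffine S] [IsAffine T] [CompactSpace X]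
    [QuasiSeparatedSpace X] {iX : X ⟶ S} {f : T ⟶ S} [Flat f] [IsIso iX.appTop] {p₁ : P ⟶ X} {p₂ : P ⟶ T}
    (h : IsPullback p₁ p₂ iX f) : IsIso p₂.appTop := by
  have := isIso_pushoutSection_of_isCompact_of_flat_right_of_ringHomFlat h
    (US := ⊤) (UT := ⊤) (UX := ⊤) (UY := ⊤) le_top le_top (by simp)
    (isAffineOpen_top _) (by simpa using (CompactSpace.isCompact_univ (X := T)))
    (by simpa using isQuasiSeparated_univ_iff.2 (inferInstance : QuasiSeparatedSpace T))
    (by simpa using (CompactSpace.isCompact_univ (X := X))) (by simpa using isQuasiSeparated_univ_iff.2 ‹_›)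
    (cast (by simp [Scheme.Hom.appTop, Scheme.Hom.app_eq_appLE])
      (RingHom.Flat.of_bijective (ConcreteCategory.bijective_of_isIso iX.appTop) : iX.appTop.hom.Flat))
  have hp : IsPushout iX.appTop f.appTop p₁.appTop p₂.appTop :=
    cast (by simp [Scheme.Hom.appTop, Scheme.Hom.app_eq_appLE]) ((isIso_pushoutSection_iff _ _ _ _).1 this)
  exact hp.isIso_inr_of_isIso

/-- The kernel of the affine hull has only the constants as functions. -/
theorem isIso_appTop_kernel [LocallyOfFiniteType G.hom] [QuasiCompact G.hom] [GrpObj (Affinization.aff G)]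
    [IsMonHom (Affinization.rho G)] (i : N ⟶ G) [IsClosedImmersion i.left]
    (hK : AlgGrp.IsKernel i (Affinization.rho G)) : IsIso N.hom.appTop := by
  have := GrpSch.isSeparated_of_field G
  have : CompactSpace G.left := QuasiCompact.compactSpace_of_compactSpace G.hom
  have : QuasiSeparatedSpace G.left := quasiSeparatedSpace_of_quasiSeparated G.hom
  have : QuasiCompact N.hom := by rw [← Over.w i]; infer_instance
  have := GrpSch.isSeparated_of_field N
  obtain ⟨hs, hf, -⟩ := Affinization.rho_faithfullyFlat G
  let s : ↥(𝟙_ (Over (Spec (CommRingCat.of k)))).left := IsLocalRing.closedPoint k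
  obtain ⟨V, hV, hmem, -⟩ := exists_isAffineOpen_mem_and_subset (X := G.left) (x := η[G].left s) (U := ⊤) trivial
  let U : Over (Spec (CommRingCat.of k)) := Over.mk (V.ι ≫ G.hom)
  let j : U ⟶ G := Over.homMk V.ι rfl
  have : IsAffine U.left := hV
  have hUne : Surjective U.hom :=
    ⟨fun y => ⟨⟨η[G].left s, hmem⟩, Subsingleton.elim (α := Spec (CommRingCat.of k)) _ _⟩⟩
  have hj : IsOpenImmersion j.left := inferInstanceAs (IsOpenImmersion V.ι)
  have : Flat (Affinization.rho G).left := hf
  have : Flat (j.left ≫ (Affinization.rho G).left) := inferInstance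
  have sq := (GrpSch.isPullback_whiskerRight j N).paste_horiz (H4.KernelSquare.isPullback_left _ i hK).flip
  have : IsIso (Affinization.rho G).left.appTop := Affinization.isIso_rho_appTop G
  have hfst : IsIso (fst U N).left.appTop := isIso_appTop_of_isPullback sq
  -- descend from `U`
  have := Affinization.qc_of_isAffine U
  have := Affinization.qs_of_isAffine U
  have : IsIso (Over.Hom.left (𝟙 U)).appTop := by
    rw [Over.id_left, Scheme.Hom.id_appTop]; infer_instance
  have := Affinization.qc_of_isAffine (Affinization.aff N)
  have := Affinization.qs_of_isAffine (Affinization.aff N)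
  have hten := Affinization.isIso_tensor_appTop (𝟙 U) (Affinization.rho N)
  have : IsIso (fst U (Affinization.aff N)).left.appTop := by
    have e : (fst U (Affinization.aff N)).left.appTop ≫ ((𝟙 U) ⊗ₘ Affinization.rho N).left.appTop =
        (fst U N).left.appTop := by
      rw [← Scheme.Hom.comp_appTop, ← Over.comp_left, tensorHom_fst, Category.comp_id]
    exact IsIso.of_isIso_fac_right e
  have : IsAffine (U ⊗ Affinization.aff N).left := Affinization.isAffine_tensor _ _
  have : IsIso (fst U (Affinization.aff N)).left := by
    rw [show (fst U (Affinization.aff N)).left = (U ⊗ Affinization.aff N).left.isoSpec.hom ≫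
      Spec.map (fst U (Affinization.aff N)).left.appTop ≫ U.left.isoSpec.inv by
        rw [Scheme.isoSpec_hom, ← Scheme.toSpecΓ_naturality_assoc, ← Scheme.isoSpec_hom, Iso.hom_inv_id,
          Category.comp_id]]
    infer_instance
  have hqc : QuasiCompact U.hom := inferInstance
  have hiso : IsIso (Affinization.aff N).hom := by
    have h := MorphismProperty.of_isPullback_of_descendsAlong (P := MorphismProperty.isomorphisms Scheme.{u})
      (Q := @Surjective ⊓ @Flat ⊓ @QuasiCompact) (GrpSch.isPullback_left U (Affinization.aff N))
      ⟨⟨hUne, GrpSch.flat_of_isField (Field.toIsField k) U.hom⟩, hqc⟩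
      ((MorphismProperty.isomorphisms.iff _).2 ‹_›)
    exact (MorphismProperty.isomorphisms.iff _).1 h
  rw [← Over.w (Affinization.rho N), Scheme.Hom.comp_appTop]
  have h1 : IsIso (Affinization.rho N).left.appTop := Affinization.isIso_rho_appTop N
  have h2 : IsIso (Affinization.aff N).hom.appTop := by
    have := hiso
    exact inferInstanceAs (IsIso ((Affinization.aff N).hom.app ⊤))
  exact IsIso.comp_isIso' h2 h1

end

end Groth.Agent.Lib.GrpQ.KerRho
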