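import Groth.Agent.Lib.Bootstrap.Quot
import Groth.Agent.Lib.Bootstrap.SpQuot
import Groth.Agent.Lib.AlgSpMor.RepBySp
import Groth.Agent.H14.FppfDesc.Scheme
import Mathlib.AlgebraicGeometry.Sites.Fpqc

/-!
# Factoring a morphism as a faithfully flat lfp morphism followed by a monomorphism

* `exists_ffMono`: if `pullback.fst f f` is flat and `f` is lfp, then `f` is an fppf cover followed by
  a monomorphism.
* `exists_desc_ffMono`, `flat_fst_of_ffMono`, `iso_of_ffMono`: converse and uniqueness.
-/

set_option autoImplicit false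
set_option linter.style.haveILetI false

universe u

open CategoryTheory CategoryTheory.Limits AlgebraicGeometry Opposite

namespace Groth.Agent.Lib.GrpQ.FfMono

open Groth.Agent.Lib.AlgSpace
open AlgSp (Sp yon Representable RepWith IsAlgSpace IsEqvRel LocP)

section Construction

variable {X Y : Scheme.{u}} (f : X ⟶ Y)

/-- The source over the target. -/
noncomputable abbrev U : Over Y := Over.mk f

/-- The kernel pair. -/
noncomputable abbrev R : Over Y := Over.mk (pullback.fst f f ≫ f)

/-- First projection. -/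
noncomputable abbrev src : R f ⟶ U f := Over.homMk (pullback.fst f f) rfl

/-- Second projection. -/
noncomputable abbrev tgt : R f ⟶ U f := Over.homMk (pullback.snd f f) pullback.condition.symm

theorem exists_rel {T : Over Y} (a b : T ⟶ U f) : ∃ r : T ⟶ R f, r ≫ tgt f = a ∧ r ≫ src f = b := by
  have ha : a.left ≫ f = T.hom := Over.w a
  have hb : b.left ≫ f = T.hom := Over.w b
  refine ⟨Over.homMk (pullback.lift b.left a.left (hb.trans ha.symm)) ?_,
    Over.OverMorphism.ext (pullback.lift_snd _ _ _), Over.OverMorphism.ext (pullback.lift_fst _ _ _)⟩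
  show pullback.lift b.left a.left _ ≫ pullback.fst f f ≫ f = T.hom
  rw [pullback.lift_fst_assoc, hb]

theorem isEqvRel : IsEqvRel (src f) (tgt f) where
  injective T r r' h1 h2 := Over.OverMorphism.ext
    (pullback.hom_ext congr($(h2).left) congr($(h1).left))
  equivalence T := ⟨fun a ↦ exists_rel f a a, fun {a b} _ ↦ exists_rel f b a,
    fun {a _ c} _ _ ↦ exists_rel f a c⟩

theorem flat_snd (h : Flat (pullback.fst f f)) : Flat (pullback.snd f f) := by
  rw [← pullbackSymmetry_hom_comp_fst f f]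
  infer_instance

theorem lfp_snd (h : LocallyOfFinitePresentation (pullback.fst f f)) :
    LocallyOfFinitePresentation (pullback.snd f f) := by
  rw [← pullbackSymmetry_hom_comp_fst f f]
  infer_instance

/-- If the kernel pair is flat and lfp, `f` is an fppf cover followed by a monomorphism. -/
theorem exists_ffMono [LocallyOfFiniteType f] (h : Flat (pullback.fst f f))
    (h' : LocallyOfFinitePresentation (pullback.fst f f)) :
    ∃ (X' : Scheme.{u}) (f' : X ⟶ X') (f'' : X' ⟶ Y),
      Surjective f' ∧ Flat f' ∧ LocallyOfFinitePresentation f' ∧ Mono f'' ∧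
        LocallyOfFiniteType f'' ∧ f' ≫ f'' = f := by
  haveI : Flat (src f).left := h
  haveI : Flat (tgt f).left := flat_snd f h
  haveI : LocallyOfFinitePresentation (src f).left :=
    h'
  haveI : LocallyOfFinitePresentation (tgt f).left := lfp_snd f h'
  have hR := isEqvRel f
  have hF := Bootstrap.isAlgSpace_quot hR
  have hk := isPullback_quot hR
  haveI := isLocallySurjective_quotMap (src f) (tgt f)
  let π := quotMap (src f) (tgt f)
  have hπ := representable_from_yon hF.diag π
  haveI := Bootstrap.isLocalAtTarget_fppf_flat.{u}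
  haveI := Bootstrap.isLocalAtTarget_fppf_lfp.{u}
  haveI := isLocalAtTarget_fppf_surjective.{u}
  have hπf : RepWith @Flat π :=
    repWith_of_isLocallySurjective hπ _ hk @Flat ((AlgSp.repWith_yon_map_iff _ _).2 ‹_›)
  have hπp : RepWith @LocallyOfFinitePresentation π :=
    repWith_of_isLocallySurjective hπ _ hk @LocallyOfFinitePresentation
      ((AlgSp.repWith_yon_map_iff _ _).2 ‹_›)
  have hπs : RepWith @Surjective π := repWith_of_isLocallySurjective hπ _ hk @Surjective
    ((AlgSp.repWith_yon_map_iff _ _).2 (surjective_left_of_eqvRel hR).2)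
  -- the map to the base
  let O : Over Y := Over.mk (𝟙 Y)
  have hO : ∀ {T : Over Y} (a b : T ⟶ O), a = b := fun a b ↦
    Over.OverMorphism.ext ((Category.comp_id _).symm.trans
      ((Over.w a).trans ((Over.w b).symm.trans (Category.comp_id _))))
  let u₀ : U f ⟶ O := Over.homMk f (Category.comp_id f)
  obtain ⟨ψ, hψ⟩ := exists_desc π hk ((yon Y).map u₀) (by
    rw [← Functor.map_comp, ← Functor.map_comp, hO (tgt f ≫ u₀) (src f ≫ u₀)])
  haveI : Mono ψ := by
    refine mono_of_yon ψ fun T a b _ ↦ ?_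
    obtain ⟨T', p, a', hp, ha'⟩ := exists_lift_of_isLocallySurjective π a
    obtain ⟨T'', p', b', hp', hb'⟩ := exists_lift_of_isLocallySurjective π ((yon Y).map p ≫ b)
    haveI := epi_yon_map p hp
    haveI := epi_yon_map p' hp'
    rw [← cancel_epi ((yon Y).map p), ← cancel_epi ((yon Y).map p'), ← ha', ← hb', ← Category.assoc]
    obtain ⟨x, hx⟩ := (yon Y).map_surjective ((yon Y).map p' ≫ a')
    obtain ⟨y, rfl⟩ := (yon Y).map_surjective b'
    obtain ⟨r, hr₁, hr₂⟩ := exists_rel f x y
    rw [← hx, ← hr₁, ← hr₂, Functor.map_comp, Functor.map_comp, Category.assoc, Category.assoc,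
      hk.w]
  have hlft : LocP @LocallyOfFiniteType ψ := by
    intro V W a b k ha _ _
    obtain ⟨P, p, v, sq⟩ := exists_isPullback_yon hF.diag π a
    haveI : Flat v.left := repWith_property hπf sq
    haveI : LocallyOfFinitePresentation v.left := repWith_property hπp sq
    haveI : Surjective v.left := repWith_property hπs sq
    haveI : Etale p.left := repWith_property ha sq.flip
    haveI : LocallyOfFiniteType (U f).hom := inferInstanceAs (LocallyOfFiniteType f)
    have : LocallyOfFiniteType (v.left ≫ V.hom) := by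
      rw [Over.w, ← Over.w p]
      infer_instance
    haveI := H14.FppfDesc.Scheme.locallyOfFiniteType_of_comp v.left V.hom this
    haveI : LocallyOfFiniteType (k.left ≫ W.hom) := by rw [Over.w]; infer_instance
    exact locallyOfFiniteType_of_comp k.left W.hom
  have hψr := AlgSpMor.RepBySp.repWith_sepLqf_of_mono hF (IsAlgSpace.yon_obj O) hlft
  obtain ⟨W, w, e, sqW, -⟩ := repWith_exists hψr (𝟙 _)
  haveI : IsIso e := sqW.isIso_fst_of_isIso
  obtain ⟨q, hq⟩ := (yon Y).map_surjective (π ≫ inv e)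
  have sqq : IsPullback (𝟙 ((yon Y).obj (U f))) ((yon Y).map q) π e :=
    IsPullback.of_horiz_isIso ⟨by rw [hq, Category.assoc, IsIso.inv_hom_id, Category.comp_id, Category.id_comp]⟩
  rw [← (yon Y).map_id] at sqq
  haveI : Flat q.left := repWith_property hπf sqq
  haveI : LocallyOfFinitePresentation q.left := repWith_property hπp sqq
  haveI : Surjective q.left := repWith_property hπs sqq
  have hlfp : LocallyOfFiniteType W.hom :=
    H14.FppfDesc.Scheme.locallyOfFiniteType_of_comp q.left W.hom (by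
      rw [Over.w]
      exact ‹LocallyOfFiniteType f›)
  refine ⟨W.left, q.left, W.hom, ‹_›, ‹_›, ‹_›, ?_, hlfp, Over.w q⟩
  haveI : Mono ((yon Y).map w) := sqW.mono_snd_of_mono inferInstance
  haveI : Mono w := (yon Y).mono_of_mono_map inferInstance
  haveI : Mono w.left := inferInstance
  have hw : w.left = W.hom := (Category.comp_id _).symm.trans (Over.w w)
  exact hw ▸ (inferInstance : Mono w.left)

end Construction

section Unique

variable {X Y Z : Scheme.{u}} {f : X ⟶ Y}

/-- The kernel pair of `f` is that of the cover. -/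
theorem isPullback_of_ffMono {X' : Scheme.{u}} (g : X ⟶ X') (m : X' ⟶ Y) [Mono m] (w : g ≫ m = f) :
    IsPullback (pullback.fst f f) (pullback.snd f f) g g := by
  have hc : pullback.fst f f ≫ g = pullback.snd f f ≫ g := by
    rw [← cancel_mono m, Category.assoc, Category.assoc, w, pullback.condition]
  refine ⟨⟨hc⟩, ⟨PullbackCone.IsLimit.mk _ (fun s ↦ pullback.lift s.fst s.snd ?_)
    (fun s ↦ pullback.lift_fst _ _ _) (fun s ↦ pullback.lift_snd _ _ _)
    (fun s l h1 h2 ↦ pullback.hom_ext (h1.trans (pullback.lift_fst _ _ _).symm)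
      (h2.trans (pullback.lift_snd _ _ _).symm))⟩⟩
  rw [← w, reassoc_of% s.condition]

theorem flat_fst_of_ffMono {X' : Scheme.{u}} (g : X ⟶ X') (m : X' ⟶ Y) [Flat g] [Mono m]
    (w : g ≫ m = f) : Flat (pullback.fst f f) :=
  MorphismProperty.of_isPullback (P := @Flat) (isPullback_of_ffMono g m w).flip ‹Flat g›

/-- A morphism constant on the kernel pair of `f` factors through the cover. -/
theorem exists_desc_ffMono {X' : Scheme.{u}} (g : X ⟶ X') (m : X' ⟶ Y) [Surjective g] [Flat g]
    [LocallyOfFinitePresentation g] [Mono m] (w : g ≫ m = f) (φ : X ⟶ Z)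
    (h : pullback.fst f f ≫ φ = pullback.snd f f ≫ φ) : ∃ ψ : X' ⟶ Z, g ≫ ψ = φ := by
  have sq := isPullback_of_ffMono g m w
  refine ⟨EffectiveEpi.desc g φ fun {W} g₁ g₂ hg ↦ ?_, EffectiveEpi.fac g φ _⟩
  rw [← sq.lift_fst g₁ g₂ hg, Category.assoc, h, sq.lift_snd_assoc]

theorem iso_of_ffMono {X₁ X₂ : Scheme.{u}} (g₁ : X ⟶ X₁) (h₁ : X₁ ⟶ Y) (g₂ : X ⟶ X₂) (h₂ : X₂ ⟶ Y)
    [Surjective g₁] [Flat g₁] [LocallyOfFinitePresentation g₁] [Mono h₁] (w₁ : g₁ ≫ h₁ = f)
    [Surjective g₂] [Flat g₂] [LocallyOfFinitePresentation g₂] [Mono h₂] (w₂ : g₂ ≫ h₂ = f) :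
    ∃ φ : X₁ ≅ X₂, g₁ ≫ φ.hom = g₂ ∧ φ.hom ≫ h₂ = h₁ := by
  obtain ⟨a, ha⟩ := exists_desc_ffMono g₁ h₁ w₁ g₂ (isPullback_of_ffMono g₂ h₂ w₂).w
  obtain ⟨b, hb⟩ := exists_desc_ffMono g₂ h₂ w₂ g₁ (isPullback_of_ffMono g₁ h₁ w₁).w
  refine ⟨⟨a, b, ?_, ?_⟩, ha, ?_⟩
  · rw [← cancel_epi g₁, reassoc_of% ha, hb, Category.comp_id]
  · rw [← cancel_epi g₂, reassoc_of% hb, ha, Category.comp_id]
  · rw [← cancel_epi g₁, reassoc_of% ha, w₂, w₁]

end Unique

end Groth.Agent.Lib.GrpQ.FfMono
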