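import Groth.Prelude.Def_RedSub
import Groth.Agent.Lib.GrpQ.FfMono
import Groth.Agent.Lib.GrpQ.InfSub
import Groth.Agent.Lib.Homog.Basic
import Groth.Agent.Lib.AlgSpMor.Cancel
import Mathlib.AlgebraicGeometry.Noetherian

/-!
# Quotients by flat stabilisers and flat kernels

Orbit maps with flat stabiliser and homomorphisms with flat kernel factor as an fppf cover with the
expected kernel pair followed by a monomorphism.
-/

set_option autoImplicit false
set_option linter.style.haveILetI false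

universe u

open CategoryTheory CategoryTheory.Limits MonoidalCategory CartesianMonoidalCategory MonObj GrpObj AlgebraicGeometry

namespace Groth.Agent.Lib.GrpQ.FfMono

variable {S : Scheme.{u}} {G H Q T X : Over S}

theorem exists_desc_over (p : G ⟶ Q) [Flat p.left] [Surjective p.left] [LocallyOfFinitePresentation p.left]
    (φ : G ⟶ H) (h : ∀ (Z : Over S) (x y : Z ⟶ G), x ≫ p = y ≫ p → x ≫ φ = y ≫ φ) :
    ∃ φ' : Q ⟶ H, p ≫ φ' = φ := by
  have key : ∀ {Z : Scheme.{u}} (g₁ g₂ : Z ⟶ G.left), g₁ ≫ p.left = g₂ ≫ p.left →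
      g₁ ≫ φ.left = g₂ ≫ φ.left := by
    intro Z g₁ g₂ hg
    have hw : g₂ ≫ G.hom = g₁ ≫ G.hom := by rw [← Over.w p, reassoc_of% hg]
    exact congr($(h (Over.mk (g₁ ≫ G.hom)) (Over.homMk g₁ rfl) (Over.homMk g₂ hw)
      (Over.OverMorphism.ext hg)).left)
  refine ⟨Over.homMk (EffectiveEpi.desc p.left φ.left key) ?_, Over.OverMorphism.ext
    (EffectiveEpi.fac p.left φ.left key)⟩
  rw [← cancel_epi p.left, EffectiveEpi.fac_assoc p.left φ.left key, Over.w, Over.w]

theorem cancel_over (p : G ⟶ Q) [Flat p.left] [Surjective p.left] [LocallyOfFinitePresentation p.left]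
    {a b : Q ⟶ H} (h : p ≫ a = p ≫ b) : a = b :=
  Over.OverMorphism.ext ((cancel_epi p.left).1 congr($(h).left))

/-- Factoring through a monomorphism is local for fppf covers. -/
theorem exists_factor_over (c : G ⟶ Q) [Flat c.left] [Surjective c.left] [LocallyOfFinitePresentation c.left]
    (i : H ⟶ X) [Mono i] (z : G ⟶ H) (x : Q ⟶ X) (hz : z ≫ i = c ≫ x) : ∃ w : Q ⟶ H, w ≫ i = x := by
  obtain ⟨w, hw⟩ := exists_desc_over c z fun _ a b hab => by
    rw [← cancel_mono i, Category.assoc, Category.assoc, hz, reassoc_of% hab]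
  exact ⟨w, cancel_over c (by rw [reassoc_of% hw, hz])⟩

theorem isPullback_of_comp_mono {A B C : Over S} {P : Over S} {a : P ⟶ A} {b : P ⟶ A} (q : A ⟶ B) (m : B ⟶ C) [Mono m]
    (h : IsPullback a b (q ≫ m) (q ≫ m)) : IsPullback a b q q := by
  refine ⟨⟨by rw [← cancel_mono m, Category.assoc, Category.assoc, h.w]⟩,
    ⟨PullbackCone.IsLimit.mk _ (fun s => h.lift s.fst s.snd (by rw [reassoc_of% s.condition]))
      (fun s => h.lift_fst _ _ _) (fun s => h.lift_snd _ _ _)
      (fun s l h1 h2 => h.hom_ext (by rw [h.lift_fst]; exact h1) (by rw [h.lift_snd]; exact h2))⟩⟩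

/-- An `S`-morphism with flat lfp kernel pair is an fppf cover followed by a monomorphism. -/
theorem exists_ffMono_over {R : Over S} (o : G ⟶ X) [LocallyOfFinitePresentation G.hom]
    {a b : R ⟶ G} (hR : IsPullback a b o o)
    (ha : Flat a.left) (ha' : LocallyOfFinitePresentation a.left) :
    ∃ (Q : Over S) (p : G ⟶ Q) (i : Q ⟶ X), p ≫ i = o ∧
      Surjective p.left ∧ Flat p.left ∧ LocallyOfFinitePresentation p.left ∧ Mono i ∧
      LocallyOfFinitePresentation Q.hom ∧ IsPullback a b p p := by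
  have : LocallyOfFiniteType (o.left ≫ X.hom) := by rw [Over.w]; infer_instance
  have : LocallyOfFiniteType o.left := locallyOfFiniteType_of_comp o.left X.hom
  have sq : IsPullback a.left b.left o.left o.left := hR.map (Over.forget S)
  have h1 : Flat (pullback.fst o.left o.left) := by
    rw [← sq.isoPullback_inv_fst]
    exact inferInstanceAs (Flat (sq.isoPullback.inv ≫ a.left))
  have h2 : LocallyOfFinitePresentation (pullback.fst o.left o.left) := by
    rw [← sq.isoPullback_inv_fst]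
    exact inferInstanceAs (LocallyOfFinitePresentation (sq.isoPullback.inv ≫ a.left))
  obtain ⟨X', f', f'', hs, hf, hp, hm, hft, hfac⟩ := exists_ffMono o.left h1 h2
  let Q : Over S := Over.mk (f'' ≫ X.hom)
  let p : G ⟶ Q := Over.homMk f' (by
    show f' ≫ f'' ≫ X.hom = G.hom
    rw [← Category.assoc, hfac, Over.w])
  let i : Q ⟶ X := Over.homMk f'' rfl
  have hpi : p ≫ i = o := Over.OverMorphism.ext hfac
  haveI : Mono i.left := hm
  haveI : Mono i := mono_of_left i
  have hQ : LocallyOfFinitePresentation Q.hom :=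
    H14.FppfDesc.Scheme.locallyOfFinitePresentation_of_comp f' Q.hom (by
      show LocallyOfFinitePresentation (f' ≫ f'' ≫ X.hom)
      rw [← Category.assoc, hfac, Over.w]
      infer_instance)
  exact ⟨Q, p, i, hpi, hs, hf, hp, ‹_›, hQ, isPullback_of_comp_mono p i (hpi.symm ▸ hR)⟩

/-- The fibre of an `S`-morphism over a section is lfp. -/
theorem lfp_hom_of_fibre {K : Over S} {o : G ⟶ X} {ξ : 𝟙_ (Over S) ⟶ X} {k : K ⟶ G}
    [LocallyOfFinitePresentation G.hom] (hX : LocallyOfFiniteType X.hom ∨ IsLocallyNoetherian S)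
    (hK : IsPullback k (toUnit K) o ξ) : LocallyOfFinitePresentation K.hom := by
  have sq := hK.map (Over.forget S)
  rcases hX with hX | hS
  · have : LocallyOfFinitePresentation o.left :=
      AlgSpMor.Cancel.locallyOfFinitePresentation_of_comp (g := X.hom) (by rw [Over.w]; infer_instance) hX
    exact MorphismProperty.of_isPullback (P := @LocallyOfFinitePresentation) sq this
  · haveI : IsLocallyNoetherian G.left := LocallyOfFiniteType.isLocallyNoetherian G.hom
    have hξ : IsImmersion ξ.left := by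
      have : IsImmersion (ξ.left ≫ X.hom) := by
        rw [Over.w]
        exact inferInstanceAs (IsImmersion (𝟙 S))
      exact IsImmersion.of_comp ξ.left X.hom
    have hk : IsImmersion k.left := MorphismProperty.of_isPullback (P := @IsImmersion) sq.flip hξ
    have : LocallyOfFinitePresentation k.left :=
      LocallyOfFinitePresentation.iff_locallyOfFiniteType.2 inferInstance
    rw [← Over.w k]
    infer_instance

/-- The quotient by a flat stabiliser. -/
theorem exists_quot_stab [GrpObj G] [LocallyOfFinitePresentation G.hom] (a : AlgGrp.Action G X)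
    (ξ : 𝟙_ (Over S) ⟶ X) (h : H ⟶ G) (hH : IsPullback h (toUnit H) (a.orbitMap ξ) ξ) (hflat : Flat H.hom)
    (hX : LocallyOfFiniteType X.hom ∨ IsLocallyNoetherian S) :
    ∃ (Q : Over S) (p : G ⟶ Q) (i : Q ⟶ X), p ≫ i = a.orbitMap ξ ∧
      Surjective p.left ∧ Flat p.left ∧ LocallyOfFinitePresentation p.left ∧ Mono i ∧
      LocallyOfFinitePresentation Q.hom ∧ IsPullback (fst G H) ((G ◁ h) ≫ μ[G]) p p :=
  exists_ffMono_over _ (Homog.isPullback_pair hH) (GrpSch.fst_left_of (P := @Flat) G hflat)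
    (GrpSch.fst_left_of (P := @LocallyOfFinitePresentation) G (lfp_hom_of_fibre hX hH))

theorem isPullback_pair_kernel [GrpObj G] [GrpObj H] (u : G ⟶ H) [IsMonHom u] {K : Over S} {k : K ⟶ G}
    (hK : AlgGrp.IsKernel k u) : IsPullback (fst G K) ((G ◁ k) ≫ μ[G]) u u := by
  have hk := kernel_comp hK
  have hw : fst G K ≫ u = ((G ◁ k) ≫ μ[G]) ≫ u := by
    have h : (G ◁ k) ≫ μ[G] = fst G K * (snd G K ≫ k) := by
      rw [Hom.mul_def]
      congr 1
    rw [h, MonObj.mul_comp, Category.assoc, hk, MonObj.comp_one, _root_.mul_one]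
  have hrel : ∀ {T : Over S} (g g' : T ⟶ G), g ≫ u = g' ≫ u → (g⁻¹ * g') ≫ u = 1 := fun g g' e => by
    rw [MonObj.mul_comp, GrpObj.inv_comp, e, inv_mul_cancel]
  refine ⟨⟨hw⟩, ⟨PullbackCone.IsLimit.mk _
    (fun s => lift s.fst (((mem_kernel hK _).2 (hrel s.fst s.snd s.condition)).choose))
    (fun s => lift_fst _ _) (fun s => ?_) (fun s m h1 h2 => ?_)⟩⟩
  · rw [Homog.comp_mulPair, ((mem_kernel hK _).2 (hrel s.fst s.snd s.condition)).choose_spec,
      mul_inv_cancel_left]
  · apply CartesianMonoidalCategory.hom_ext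
    · rw [lift_fst]; exact h1
    · rw [lift_snd]
      haveI := kernel_mono hK
      rw [← cancel_mono k, ((mem_kernel hK _).2 (hrel s.fst s.snd s.condition)).choose_spec]
      have h3 : m = lift (m ≫ fst G K) (m ≫ snd G K) := by rw [← comp_lift, lift_fst_snd, Category.comp_id]
      rw [h3, Homog.comp_mulPair] at h2
      rw [← h1, ← h2, inv_mul_cancel_left]

/-- The quotient by a flat kernel. -/
theorem exists_quot_kernel [GrpObj G] [GrpObj H] [LocallyOfFinitePresentation G.hom] (u : G ⟶ H) [IsMonHom u]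
    {K : Over S} (k : K ⟶ G) (hK : AlgGrp.IsKernel k u) (hflat : Flat K.hom)
    (hH : LocallyOfFiniteType H.hom ∨ IsLocallyNoetherian S) :
    ∃ (Q : Over S) (_ : GrpObj Q) (p : G ⟶ Q) (i : Q ⟶ H), IsMonHom p ∧ IsMonHom i ∧ p ≫ i = u ∧
      Surjective p.left ∧ Flat p.left ∧ LocallyOfFinitePresentation p.left ∧ Mono i ∧
      LocallyOfFinitePresentation Q.hom ∧ IsPullback (fst G K) ((G ◁ k) ≫ μ[G]) p p ∧
      AlgGrp.IsKernel k p := by
  obtain ⟨Q, p, i, hpi, hs, hf, hp, hm, hQ, hpb⟩ :=
    exists_ffMono_over u (isPullback_pair_kernel u hK) (GrpSch.fst_left_of (P := @Flat) G hflat)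
      (GrpSch.fst_left_of (P := @LocallyOfFinitePresentation) G (lfp_hom_of_fibre hH hK))
  haveI := hm
  haveI := hs; haveI := hf; haveI := hp
  haveI hcf : Flat (p ⊗ₘ p).left := GrpSch.tensorHom_left_of (P := @Flat) p p hf hf
  haveI hcs : Surjective (p ⊗ₘ p).left := GrpSch.tensorHom_left_of (P := @Surjective) p p hs hs
  haveI hcp : LocallyOfFinitePresentation (p ⊗ₘ p).left :=
    GrpSch.tensorHom_left_of (P := @LocallyOfFinitePresentation) p p hp hp
  have h1 : ∃ e, e ≫ i = η[H] := ⟨η[G] ≫ p, by rw [Category.assoc, hpi, IsMonHom.one_hom]⟩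
  have h2 : ∃ m, m ≫ i = (fst Q Q ≫ i) * (snd Q Q ≫ i) :=
    exists_factor_over (p ⊗ₘ p) i (μ[G] ≫ p) _ (by
      rw [Category.assoc, hpi, MonObj.comp_mul, ← Category.assoc, ← Category.assoc (p ⊗ₘ p) (snd Q Q),
        tensorHom_fst, tensorHom_snd, Category.assoc, Category.assoc, hpi, ← MonObj.mul_comp, Hom.mul_def,
        lift_fst_snd, Category.id_comp])
  have h3 : ∃ v, v ≫ i = i⁻¹ := exists_factor_over p i ((𝟙 G)⁻¹ ≫ p) _ (by
    rw [Category.assoc, hpi, GrpObj.inv_comp, Category.id_comp, GrpObj.comp_inv, hpi])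
  obtain ⟨gQ, hi⟩ := InfSub.exists_grpObj_of_mono i h1 h2 h3
  have hpm : IsMonHom p := by
    refine ⟨?_, ?_⟩
    · rw [← cancel_mono i, Category.assoc, hpi, IsMonHom.one_hom, IsMonHom.one_hom]
    · rw [← cancel_mono i, Category.assoc, hpi, IsMonHom.mul_hom, Category.assoc,
        IsMonHom.mul_hom, ← Category.assoc, tensorHom_comp_tensorHom, hpi]
  refine ⟨Q, gQ, p, i, hpm, hi, hpi, hs, hf, hp, hm, hQ, hpb, ?_⟩
  haveI := kernel_mono hK
  refine isKernel_of k ?_ fun T x hx => (mem_kernel hK x).2 ?_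
  · rw [← cancel_mono i, Category.assoc, hpi, kernel_comp hK, MonObj.one_comp]
  · rw [← hpi, ← Category.assoc, hx, MonObj.one_comp]

end Groth.Agent.Lib.GrpQ.FfMono
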