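import Groth.Agent.Lib.GrpQ.Image
import Groth.Agent.Lib.GrpQ.FlatHom
import Groth.Agent.Lib.GrpSch.BaseChange
import Groth.Prelude.Def_Frob

/-!
Iterated Frobenius: an algebraic group in characteristic `p` over an algebraically closed field has a
faithfully flat homomorphism onto a reduced group which is injective on points.
-/

set_option autoImplicit false

universe u

open CategoryTheory Limits MonoidalCategory CartesianMonoidalCategory MonObj AlgebraicGeometry

namespace Groth.Agent.Lib.GrpQ.FrobQ

noncomputable section

variable (p : ℕ) [Fact p.Prime]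

/-- The iterated absolute Frobenius. -/
def frobN (X : Scheme.{u}) [FrobSch.IsCharP X p] : ℕ → (X ⟶ X)
  | 0 => 𝟙 X
  | n + 1 => frobN X n ≫ FrobSch.frob X p

theorem frobN_comp {X Y : Scheme.{u}} [FrobSch.IsCharP X p] [FrobSch.IsCharP Y p] (f : X ⟶ Y) (n : ℕ) :
    frobN p X n ≫ f = f ≫ frobN p Y n := by
  induction n with
  | zero => simp [frobN]
  | succ n ih => rw [frobN, frobN, Category.assoc, FrobSch.frob_comp p f, reassoc_of% ih]

theorem frobN_apply (X : Scheme.{u}) [FrobSch.IsCharP X p] (n : ℕ) (x : X) : frobN p X n x = x := by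
  induction n with
  | zero => rfl
  | succ n ih => exact ih

theorem frobN_appLE (X : Scheme.{u}) [FrobSch.IsCharP X p] (n : ℕ) (U : X.Opens)
    (e : U ≤ frobN p X n ⁻¹ᵁ U) (s : Γ(X, U)) : (frobN p X n).appLE U U e s = s ^ p ^ n := by
  induction n generalizing s with
  | zero =>
    change (X.presheaf.map (𝟙 _)) s = _
    rw [X.presheaf.map_id]
    simp
  | succ n ih =>
    have e' : U ≤ frobN p X n ⁻¹ᵁ U := fun x hx => by
      change frobN p X n x ∈ U
      rwa [frobN_apply]
    have h := Scheme.Hom.appLE_comp_appLE (frobN p X n) (FrobSch.frob X p) U U U le_rfl e'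
    have h' := ConcreteCategory.congr_hom h s
    refine h'.symm.trans ?_
    refine Eq.trans (ih e' _) ?_
    have hf : (FrobSch.frob X p).appLE U U le_rfl s = s ^ p := by
      change (X.presheaf.map (𝟙 _)) ((FrobSch.frob X p).app U s) = _
      rw [X.presheaf.map_id]
      rfl
    change ((FrobSch.frob X p).appLE U U le_rfl s) ^ p ^ n = _
    rw [hf, ← pow_mul, ← pow_succ']

theorem isIso_frobN {k : Type u} [Field k] [IsAlgClosed k] [CharP k p] (n : ℕ) :
    IsIso (frobN p (Spec (CommRingCat.of k)) n) := by
  have : PerfectRing k p := PerfectField.toPerfectRing p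
  have h1 : IsIso (FrobSch.frob (Spec (CommRingCat.of k)) p) := by
    have he : FrobSch.frob (Spec (CommRingCat.of k)) p = Spec.map (CommRingCat.ofHom (frobenius k p)) := by
      refine ext_of_isAffine ?_
      ext s
      change s ^ p = _
      apply (Scheme.ΓSpecIso (CommRingCat.of k)).commRingCatIsoToRingEquiv.injective
      have h := ConcreteCategory.congr_hom (Scheme.ΓSpecIso_naturality (CommRingCat.ofHom (frobenius k p))) s
      refine Eq.trans (map_pow _ _ _) ?_
      exact h.symm
    rw [he, isIso_SpecMap_iff]
    exact bijective_frobenius k p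
  induction n with
  | zero => exact inferInstanceAs (IsIso (𝟙 _))
  | succ n ih => exact inferInstanceAs (IsIso (frobN p _ n ≫ FrobSch.frob _ p))

theorem exists_bound (X : Scheme.{u}) [FrobSch.IsCharP X p] [IsLocallyNoetherian X] [CompactSpace X] :
    ∃ (n : ℕ) (ι' : Type u) (U : ι' → X.Opens), (∀ i, IsAffineOpen (U i)) ∧ iSup U = ⊤ ∧
      ∀ i (s : Γ(X, U i)), IsNilpotent s → s ^ p ^ n = 0 := by
  classical
  let 𝒰 := X.affineCover.finiteSubcover
  let _ : Fintype 𝒰.I₀ := Fintype.ofFinite _
  let U : 𝒰.I₀ → X.Opens := fun i => (𝒰.f i).opensRange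
  have hU : ∀ i, IsAffineOpen (U i) := fun i => by
    have : IsAffine (𝒰.X i) := inferInstanceAs (IsAffine (X.affineCover.X _))
    exact isAffineOpen_opensRange _
  have hN : ∀ i, ∃ N, ∀ s : Γ(X, U i), IsNilpotent s → s ^ N = 0 := fun i => by
    have : IsNoetherianRing Γ(X, U i) := IsLocallyNoetherian.component_noetherian ⟨U i, hU i⟩
    obtain ⟨N, hN⟩ := IsNoetherianRing.isNilpotent_nilradical Γ(X, U i)
    refine ⟨N, fun s hs => ?_⟩
    have := Ideal.pow_mem_pow (mem_nilradical.2 hs) N
    rw [hN] at this
    exact this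
  choose N hN using hN
  refine ⟨Finset.univ.sup N, _, U, hU, 𝒰.iSup_opensRange, fun i s hs => pow_eq_zero_of_le ?_ (hN i s hs)⟩
  exact le_trans (Finset.le_sup (Finset.mem_univ i)) (Nat.lt_pow_self (Fact.out : p.Prime).one_lt).le


/-- A faithfully flat homomorphism onto a reduced group, injective on points. -/
theorem exists_reduced_quotient (p : ℕ) [Fact p.Prime] {k : Type u} [Field k] [IsAlgClosed k] [CharP k p] (G : Over (Spec (CommRingCat.of k))) [GrpObj G] [LocallyOfFiniteType G.hom]
    [QuasiCompact G.hom] :
    ∃ (C : Over (Spec (CommRingCat.of k))) (_ : GrpObj C) (q : G ⟶ C), IsMonHom q ∧ LocallyOfFiniteType C.hom ∧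
      QuasiCompact C.hom ∧ IsReduced C.left ∧ Flat q.left ∧ Surjective q.left ∧ Function.Injective q.left := by
  classical
  have hchar : ∀ T : Over (Spec (CommRingCat.of k)), FrobSch.IsCharP T.left p := fun T =>
    FrobSch.IsCharP.of_hom T.hom p
  have : IsLocallyNoetherian G.left := LocallyOfFiniteType.isLocallyNoetherian G.hom
  have : CompactSpace G.left := QuasiCompact.compactSpace_of_compactSpace G.hom
  obtain ⟨n, ι', U, hUaff, hUtop, hUn⟩ := exists_bound p G.left
  let σ := frobN p (Spec (CommRingCat.of k)) n
  have : IsIso σ := isIso_frobN p n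
  let F : ∀ T : Over (Spec (CommRingCat.of k)), T ⟶ (Over.pullback σ).obj T := fun T =>
    Over.homMk (pullback.lift (frobN p T.left n) T.hom (frobN_comp p T.hom n)) (pullback.lift_snd _ _ _)
  have hnat : ∀ {A B : Over (Spec (CommRingCat.of k))} (f : A ⟶ B),
      f ≫ F B = F A ≫ (Over.pullback σ).map f := by
    intro A B f
    refine Over.OverMorphism.ext (pullback.hom_ext ?_ ?_)
    · simp [F]
      erw [pullback.lift_fst, pullback.lift_fst, pullback.lift_fst_assoc]
      exact (frobN_comp p f.left n).symm
    · simp [F]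
      erw [pullback.lift_snd, pullback.lift_snd, pullback.lift_snd]
      exact Over.w f
  let G' := Red.bc σ G
  have hmul : ∀ {T : Over (Spec (CommRingCat.of k))} (x y : T ⟶ G),
      (x * y) ≫ F G = (x ≫ F G) * (y ≫ F G) := by
    intro T x y
    rw [hnat, hnat x, hnat y, Functor.map_mul, MonObj.comp_mul]
  have hone : (1 : 𝟙_ (Over (Spec (CommRingCat.of k))) ⟶ G) ≫ F G = 1 := by
    rw [hnat, Functor.map_one, MonObj.comp_one]
  have : IsMonHom (F G) := by
    refine ⟨?_, ?_⟩
    · have h := hone
      rw [Hom.one_def, Hom.one_def, toUnit_unique (toUnit _) (𝟙 _), Category.id_comp, Category.id_comp] at h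
      exact h
    · have h := hmul (fst G G) (snd G G)
      rw [Hom.mul_def, lift_fst_snd, Category.id_comp] at h
      rw [h, Hom.mul_def, ← lift_fst_comp_snd_comp]
  obtain ⟨C, _, q, i, hq, hi, hqi, hstd, hcl⟩ := Image.exists_image (F G)
  let j : C.left ⟶ G.left := i.left ≫ pullback.fst G.hom σ
  have hj : IsClosedImmersion j := inferInstanceAs (IsClosedImmersion (i.left ≫ pullback.fst G.hom σ))
  have hqj : q.left ≫ j = frobN p G.left n := by
    simp only [j]
    rw [← Category.assoc, ← Over.comp_left, hqi]
    exact pullback.lift_fst _ _ _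
  have hid : ∀ x : G.left, j (q.left x) = x := fun x => by
    rw [← Scheme.Hom.comp_apply, hqj, frobN_apply]
  have hinj : Function.Injective q.left := fun x y h => by rw [← hid x, h, hid]
  have hsurj : Surjective q.left := ⟨fun c => ⟨j c, j.isClosedEmbedding.injective (hid (j c))⟩⟩
  have : LocallyOfFiniteType G'.hom := GrpSch.bc_hom_of (P := @LocallyOfFiniteType) σ G ‹_›
  have : QuasiCompact G'.hom := GrpSch.bc_hom_of (P := @QuasiCompact) σ G ‹_›
  have hlft : LocallyOfFiniteType C.hom := by rw [← Over.w i]; infer_instance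
  have hqc : QuasiCompact C.hom := by rw [← Over.w i]; infer_instance
  have hred : IsReduced C.left := by
    let V : ι' → C.left.Opens := fun a => j ⁻¹ᵁ U a
    have hV : iSup V = ⊤ := by
      simp only [V, ← Scheme.Hom.preimage_iSup, hUtop]
      rfl
    have : QuasiCompact q.left := quasiCompact_left q
    have hr : ∀ a, AlgebraicGeometry.IsReduced ((C.left.openCoverOfIsOpenCover V hV).X a) := fun a => by
      have hVa : IsAffineOpen (V a) := (hUaff a).preimage j
      have : _root_.IsReduced Γ(C.left, V a) := by
        refine ⟨fun c ⟨m, hm⟩ => ?_⟩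
        obtain ⟨b, rfl⟩ := j.app_surjective (U a) (hUaff a) c
        apply q.left.app_injective (V a)
        rw [map_zero]
        have e : U a ≤ frobN p G.left n ⁻¹ᵁ U a := fun x hx => by
          change frobN p G.left n x ∈ U a
          rwa [frobN_apply]
        have e' : U a ≤ q.left ⁻¹ᵁ V a := fun x hx => by
          change j (q.left x) ∈ U a
          rwa [hid]
        have hbij : Function.Injective (G.left.presheaf.map (homOfLE e').op) := by
          have he : q.left ⁻¹ᵁ V a = U a := le_antisymm (fun x hx => by
            have : j (q.left x) ∈ U a := hx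
            rwa [hid] at this) e'
          have : IsIso (homOfLE e').op := by
            have : IsIso (homOfLE e') := ⟨homOfLE he.le, rfl, rfl⟩
            infer_instance
          exact (ConcreteCategory.bijective_of_isIso _).1
        apply hbij
        rw [map_zero]
        have key : G.left.presheaf.map (homOfLE e').op (q.left.app (V a) (j.app (U a) b)) = b ^ p ^ n := by
          rw [← frobN_appLE p G.left n (U a) e b]
          have : (q.left ≫ j).appLE (U a) (U a) (by rw [hqj]; exact e) = (frobN p G.left n).appLE (U a) (U a) e := by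
            simp only [hqj]
          rw [← this, Scheme.Hom.comp_appLE]
          rfl
        rw [key]
        refine hUn a b (?_ : IsNilpotent b)
        have h2 : (b ^ p ^ n) ^ m = 0 := by
          rw [← key, ← map_pow, ← map_pow, hm, map_zero, map_zero]
        exact ⟨p ^ n * m, by rw [pow_mul, h2]⟩
      have : IsAffine (V a).toScheme := hVa
      have : _root_.IsReduced (Γ((V a).toScheme, ⊤)) :=
        isReduced_of_injective (V a).topIso.hom.hom (V a).topIso.commRingCatIsoToRingEquiv.injective
      have := (affine_isReduced_iff _).2 this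
      exact isReduced_of_isOpenImmersion (V a).toScheme.isoSpec.hom
    have := hr
    exact AlgebraicGeometry.IsReduced.of_openCover _ (C.left.openCoverOfIsOpenCover V hV)
  refine ⟨C, inferInstance, q, hq, hlft, hqc, hred, ?_, hsurj, hinj⟩
  have := hsurj
  exact flat_of_surjective_of_isReduced q

end

end Groth.Agent.Lib.GrpQ.FrobQ
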