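import Groth.Agent.Lib.GrpSch.Basic
import Groth.Agent.Lib.ActSep.GraphSep
import Mathlib.AlgebraicGeometry.Sites.Fpqc

/-!
Descent of morphisms along morphisms which cover for the fpqc topology.
-/

set_option autoImplicit false

universe u

open CategoryTheory Limits MonoidalCategory CartesianMonoidalCategory AlgebraicGeometry

namespace Groth.Agent.Lib.GrpQ

/-- A flat surjective morphism forming a quasi-compact cover. -/
def IsQcc {Z Y : Scheme.{u}} (q : Z ⟶ Y) : Prop :=
  Flat q ∧ Surjective q ∧ QuasiCompactCover (PreZeroHypercover.singleton.{u} q)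

theorem IsQcc.effectiveEpi {Z Y : Scheme.{u}} {q : Z ⟶ Y} (h : IsQcc q) : EffectiveEpi q := by
  obtain ⟨h1, h2, h3⟩ := h
  rw [← Sieve.effectiveEpimorphic_singleton, Presieve.EffectiveEpimorphic.iff_forall_isSheafFor_yoneda]
  intro W
  refine (GrothendieckTopology.Subcanonical.isSheaf_of_isRepresentable (J := Scheme.fpqcTopology) _).isSheafFor _
    (Precoverage.generate_mem_toGrothendieck ⟨?_, ?_⟩)
  · rw [← PreZeroHypercover.presieve₀_singleton.{u}, Scheme.presieve₀_mem_qcPrecoverage_iff]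
    exact h3
  · exact (Scheme.singleton_mem_precoverage_iff (P := @Flat) _).2 ⟨q.surjective, h1⟩

theorem IsQcc.snd {Z Y T : Scheme.{u}} {q : Z ⟶ Y} (h : IsQcc q) (g : T ⟶ Y) : IsQcc (pullback.snd q g) := by
  obtain ⟨h1, h2, h3⟩ := h
  refine ⟨inferInstance, inferInstance, ?_⟩
  have : QuasiCompactCover ((PreZeroHypercover.singleton.{u} q).pullback₂ g) := inferInstance
  exact QuasiCompactCover.of_hom (𝒱 := (PreZeroHypercover.singleton.{u} q).pullback₂ g)
    { s₀ := id, h₀ := fun _ => 𝟙 _, w₀ := fun _ => Category.id_comp _ }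

variable {S : Scheme.{u}}

/-- A morphism through which an fpqc covering factors. -/
def IsCovering {X Y : Over S} (p : X ⟶ Y) : Prop :=
  ∃ (Z : Scheme.{u}) (q : Z ⟶ Y.left) (r : Z ⟶ X.left), r ≫ p.left = q ∧ IsQcc q

theorem isCovering_of_hcov {X Y : Over S} (p : X ⟶ Y)
    (hcov : ∃ (Z : Scheme.{u}) (q : Z ⟶ Y.left) (r : Z ⟶ X.left), r ≫ p.left = q ∧ Surjective q ∧ Flat q ∧
      ∀ V : Y.left.Opens, IsAffineOpen V → ∃ W : Z.Opens, IsCompact (W : Set Z) ∧ q.base '' (W : Set Z) = (V : Set Y.left)) :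
    IsCovering p := by
  obtain ⟨Z, q, r, hr, h1, h2, hq⟩ := hcov
  exact ⟨Z, q, r, hr, h2, h1, ActSep.quasiCompactCover_singleton q hq⟩

/-- Base change of a covering. -/
theorem IsCovering.of_isPullback {X Y X' Y' : Over S} {p : X ⟶ Y} (hp : IsCovering p) {p' : X' ⟶ Y'}
    {a : X' ⟶ X} {b : Y' ⟶ Y} (h : IsPullback a.left p'.left p.left b.left) : IsCovering p' := by
  obtain ⟨Z, q, r, hr, hq⟩ := hp
  refine ⟨pullback q b.left, pullback.snd _ _,
    h.lift (pullback.fst q b.left ≫ r) (pullback.snd _ _) (by rw [Category.assoc, hr]; exact pullback.condition),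
    h.lift_snd _ _ _, hq.snd b.left⟩

theorem IsCovering.whiskerRight {X Y : Over S} {p : X ⟶ Y} (hp : IsCovering p) (W : Over S) : IsCovering (p ▷ W) :=
  hp.of_isPullback (GrpSch.isPullback_whiskerRight p W).flip

theorem IsCovering.whiskerLeft {X Y : Over S} {p : X ⟶ Y} (hp : IsCovering p) (W : Over S) : IsCovering (W ◁ p) :=
  hp.of_isPullback (GrpSch.isPullback_whiskerLeft W p).flip

/-- Morphisms out of the target of a covering are determined on the source. -/
theorem IsCovering.cancel {X Y : Over S} {p : X ⟶ Y} (hp : IsCovering p) {W : Over S} {a b : Y ⟶ W}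
    (h : p ≫ a = p ≫ b) : a = b := by
  obtain ⟨Z, q, r, hr, hq⟩ := hp
  have := hq.effectiveEpi
  refine Over.OverMorphism.ext ((cancel_epi q).1 ?_)
  rw [← hr, Category.assoc, Category.assoc, ← Over.comp_left, ← Over.comp_left, h]

/-- Morphisms constant on the kernel pair of a covering descend. -/
theorem IsCovering.exists_desc {X Y : Over S} {p : X ⟶ Y} (hp : IsCovering p) {W : Over S} (φ : X ⟶ W)
    (h : ∀ (T : Over S) (x y : T ⟶ X), x ≫ p = y ≫ p → x ≫ φ = y ≫ φ) : ∃ ψ : Y ⟶ W, p ≫ ψ = φ := by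
  obtain ⟨Z, q, r, hr, hq⟩ := hp
  have := hq.effectiveEpi
  have key : ∀ {T : Scheme.{u}} (g₁ g₂ : T ⟶ X.left), g₁ ≫ p.left = g₂ ≫ p.left →
      g₁ ≫ φ.left = g₂ ≫ φ.left := by
    intro T g₁ g₂ hg
    have hw : g₂ ≫ X.hom = g₁ ≫ X.hom := by rw [← Over.w p, reassoc_of% hg]
    exact congr($(h (Over.mk (g₁ ≫ X.hom)) (Over.homMk g₁ rfl) (Over.homMk g₂ hw)
      (Over.OverMorphism.ext hg)).left)
  have key' : ∀ {T : Scheme.{u}} (g₁ g₂ : T ⟶ Z), g₁ ≫ q = g₂ ≫ q → g₁ ≫ r ≫ φ.left = g₂ ≫ r ≫ φ.left :=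
    fun g₁ g₂ hg => by
      rw [← Category.assoc, ← Category.assoc]
      exact key _ _ (by rw [Category.assoc, Category.assoc, hr, hg])
  let ψ₀ := EffectiveEpi.desc q (r ≫ φ.left) key'
  have hψ : q ≫ ψ₀ = r ≫ φ.left := EffectiveEpi.fac q _ key'
  have hover : ψ₀ ≫ W.hom = Y.hom := by
    rw [← cancel_epi q, ← Category.assoc, hψ, Category.assoc, Over.w φ, ← hr, Category.assoc, Over.w p]
  refine ⟨Over.homMk ψ₀ hover, Over.OverMorphism.ext ?_⟩
  show p.left ≫ ψ₀ = φ.left
  have := (hq.snd p.left).effectiveEpi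
  rw [← cancel_epi (pullback.snd q p.left), ← Category.assoc, ← pullback.condition, Category.assoc, hψ,
    ← Category.assoc]
  exact key _ _ (by rw [Category.assoc, hr]; exact pullback.condition)

end Groth.Agent.Lib.GrpQ
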