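import Groth.Agent.Lib.ActSep.GraphSep
import Groth.Agent.Lib.GrpSch.Basic
import Groth.Agent.Lib.Flat55.FlatDescend
import Groth.Agent.Lib.AlgSpFpqc.SourceEtale
import Groth.Agent.Lib.AlgSpMor.Cancel
import Groth.Agent.Lib.EtSite.FppfSourceSmooth
import Groth.Agent.Lib.DescAlg.Descends
import Groth.Agent.H14.FppfDesc.Scheme
import Mathlib.AlgebraicGeometry.Morphisms.QuasiFinite
import Mathlib.AlgebraicGeometry.Morphisms.UniversallyOpen

/-!
Transfer of properties between a group scheme, a subgroup and the quotient.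
-/

set_option autoImplicit false
set_option backward.isDefEq.respectTransparency false
set_option backward.isDefEq.respectTransparency.types false

universe u

open CategoryTheory Limits MonoidalCategory CartesianMonoidalCategory MonObj GrpObj AlgebraicGeometry

namespace Groth.Agent.Lib.GrpQ.Transfer

theorem quasiCompact_of_comp_surjective {X Y Z : Scheme.{u}} (f : X ⟶ Y) (g : Y ⟶ Z) [Surjective f]
    [QuasiCompact (f ≫ g)] : QuasiCompact g := by
  refine ⟨fun U hU hUc => ?_⟩
  have h : IsCompact ((f ≫ g) ⁻¹' U) := QuasiCompact.isCompact_preimage _ hU hUc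
  have e : g ⁻¹' U = f '' ((f ≫ g) ⁻¹' U) := by
    ext y
    constructor
    · intro hy
      obtain ⟨x, rfl⟩ := f.surjective y
      exact ⟨x, by simpa using hy, rfl⟩
    · rintro ⟨x, hx, rfl⟩
      simpa using hx
  rw [e]
  exact h.image f.continuous

theorem quasiSeparated_of_comp_surjective {X Y Z : Scheme.{u}} (f : X ⟶ Y) (g : Y ⟶ Z) [Surjective f]
    [QuasiCompact f] [QuasiSeparated (f ≫ g)] : QuasiSeparated g := by
  have heq : f ≫ pullback.diagonal g = pullback.diagonal (f ≫ g) ≫
      pullback.map (f ≫ g) (f ≫ g) g g f f (𝟙 Z) (by simp) (by simp) := by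
    apply pullback.hom_ext <;> simp
  have hmap : QuasiCompact (pullback.map (f ≫ g) (f ≫ g) g g f f (𝟙 Z) (by simp) (by simp)) :=
    MorphismProperty.pullback_map (P := @QuasiCompact) ‹_› ‹_› (by simp) (by simp)
  have : QuasiCompact (f ≫ pullback.diagonal g) := by
    rw [heq]; exact inferInstance
  exact ⟨quasiCompact_of_comp_surjective f _⟩

theorem formallyUnramified_of_comp {X' X Y : Scheme.{u}} (e : X' ⟶ X) (k : X ⟶ Y) [Surjective e] [Flat e]
    [LocallyOfFinitePresentation e] [FormallyUnramified (e ≫ k)] [LocallyOfFinitePresentation (e ≫ k)] :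
    FormallyUnramified k := by
  have : LocallyOfFinitePresentation k :=
    H14.FppfDesc.Scheme.locallyOfFinitePresentation_of_comp e k inferInstance
  have heq : e ≫ pullback.diagonal k = pullback.diagonal (e ≫ k) ≫
      pullback.map (e ≫ k) (e ≫ k) k k e e (𝟙 Y) (by simp) (by simp) := by
    apply pullback.hom_ext <;> simp
  have hmap : Flat (pullback.map (e ≫ k) (e ≫ k) k k e e (𝟙 Y) (by simp) (by simp)) :=
    MorphismProperty.pullback_map (P := @Flat) ‹_› ‹_› (by simp) (by simp)
  have : IsOpenImmersion (pullback.diagonal (e ≫ k)) := inferInstance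
  have : Flat (e ≫ pullback.diagonal k) := by
    rw [heq]
    exact inferInstance
  have : Flat (pullback.diagonal k) := Flat55.FlatDescend.flat_of_comp e _
  have : LocallyOfFinitePresentation (pullback.diagonal k) :=
    Lib.AlgSpMor.Cancel.locallyOfFinitePresentation_of_comp (g := pullback.fst k k)
      (by rw [pullback.diagonal_fst]; infer_instance) inferInstance
  have : IsOpenImmersion (pullback.diagonal k) := IsOpenImmersion.of_flat_of_mono _
  infer_instance

theorem locallyQuasiFinite_of_comp {X' X Y : Scheme.{u}} (e : X' ⟶ X) (k : X ⟶ Y) [Surjective e]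
    [UniversallyOpen e] [LocallyOfFiniteType k] [LocallyQuasiFinite (e ≫ k)] : LocallyQuasiFinite k := by
  refine locallyQuasiFinite_iff_isDiscrete_preimage_singleton.2 fun s => ?_
  have hd := (e ≫ k).isDiscrete_preimage_singleton s
  rw [isDiscrete_iff_forall_exists_isOpen] at hd ⊢
  intro y hy
  obtain ⟨x, rfl⟩ := e.surjective y
  obtain ⟨U, hU, hUe⟩ := hd x (by simpa using hy)
  refine ⟨e '' U, e.isOpenMap U hU, ?_⟩
  ext y
  simp only [Set.mem_inter_iff, Set.mem_image, Set.mem_singleton_iff]
  constructor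
  · rintro ⟨⟨x', hx', rfl⟩, hy'⟩
    have : x' ∈ U ∩ (e ≫ k) ⁻¹' {s} := ⟨hx', by simpa using hy'⟩
    rw [hUe] at this
    rw [Set.mem_singleton_iff.1 this]
  · rintro rfl
    have : x ∈ U ∩ (e ≫ k) ⁻¹' {s} := by rw [hUe]; rfl
    exact ⟨⟨x, this.1, rfl⟩, hy⟩

variable {S : Scheme.{u}} {G G' G'' : Over S} [GrpObj G] [GrpObj G'] {u : G' ⟶ G} [IsMonHom u]
  {p : G ⟶ G''}

/-- The square of the subgroup over the unit of the quotient. -/
theorem isPullback_unit (hsq : IsPullback ((G ◁ u) ≫ μ[G]) (fst G G') p p) :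
    IsPullback u (toUnit G') p (η[G] ≫ p) := by
  let s : G' ⟶ G ⊗ G' := lift (toUnit G' ≫ η[G]) (𝟙 G')
  have hs : IsPullback s (toUnit G') (fst G G') η[G] := by
    refine ⟨⟨by simp [s]⟩, ⟨PullbackCone.IsLimit.mk _ (fun c => c.fst ≫ snd G G') ?_ ?_ ?_⟩⟩
    · intro c
      refine CartesianMonoidalCategory.hom_ext _ _ ?_ (by simp [s])
      simp only [s, Category.assoc, lift_fst]
      rw [← Category.assoc, ← Category.assoc, toUnit_unique ((c.fst ≫ snd G G') ≫ toUnit G') c.snd]
      exact c.condition.symm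
    · intro c; exact toUnit_unique _ _
    · intro c m h1 _
      rw [← h1]
      simp [s]
  have hu : s ≫ (G ◁ u) ≫ μ[G] = u := by
    rw [show s ≫ (G ◁ u) ≫ μ[G] = (toUnit G' ≫ η[G]) * u by
      simp [s, Hom.mul_def]]
    exact _root_.one_mul _
  have h' : IsPullback (s ≫ (G ◁ u) ≫ μ[G]) (toUnit G') p (η[G] ≫ p) := hs.paste_horiz hsq
  rwa [hu] at h'

/-- A property of the subgroup follows from the property of the projection to the quotient. -/
theorem of_proj (hsq : IsPullback ((G ◁ u) ≫ μ[G]) (fst G G') p p) (P : MorphismProperty Scheme.{u})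
    [P.IsStableUnderBaseChange] (h : P p.left) : P G'.hom := by
  have hsqL : IsPullback u.left G'.hom p.left (η[G] ≫ p).left :=
    (isPullback_unit hsq).map (Over.forget S)
  exact MorphismProperty.of_isPullback hsqL h

/-- A descending property of the subgroup is inherited by the projection to the quotient. -/
theorem to_proj (hsq : IsPullback ((G ◁ u) ≫ μ[G]) (fst G G') p p)
    (hcov : ∃ (Z : Scheme.{u}) (q : Z ⟶ G''.left) (r : Z ⟶ G.left), r ≫ p.left = q ∧ Surjective q ∧ Flat q ∧
      ∀ V : G''.left.Opens, IsAffineOpen V → ∃ W : Z.Opens, IsCompact (W : Set Z) ∧ q.base '' (W : Set Z) = (V : Set G''.left))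
    (P : MorphismProperty Scheme.{u}) [P.IsStableUnderBaseChange] [IsZariskiLocalAtTarget P]
    (hP : P.DescendsAlong (@Surjective ⊓ @Flat ⊓ @QuasiCompact : MorphismProperty Scheme.{u}))
    (h : P G'.hom) : P p.left := by
  obtain ⟨Z, q, r, hr, _, _, hq⟩ := hcov
  have := ActSep.quasiCompactCover_singleton q hq
  have h1 : P (fst G G').left := GrpSch.fst_left_of G h
  have hsqL : IsPullback ((G ◁ u) ≫ μ[G]).left (fst G G').left p.left p.left := hsq.map (Over.forget S)
  refine DescAlg.FpqcCover.of_fpqcCover P hP _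
    (PreZeroHypercover.singleton.{u} q) (fun _ => inferInstanceAs (Flat q)) fun _ => ?_
  show P (pullback.snd p.left q)
  rw [← hr, ← DescAlg.FpqcCover.snd_iff P]
  refine MorphismProperty.pullback_snd _ _ ?_
  rw [← hsqL.isoPullback_inv_snd]
  exact (MorphismProperty.cancel_left_of_respectsIso P _ _).2 h1

theorem surjective_proj {X Y : Over S} {p : X ⟶ Y}
    (hcov : ∃ (Z : Scheme.{u}) (q : Z ⟶ Y.left) (r : Z ⟶ X.left), r ≫ p.left = q ∧ Surjective q ∧ Flat q ∧
      ∀ V : Y.left.Opens, IsAffineOpen V → ∃ W : Z.Opens, IsCompact (W : Set Z) ∧ q.base '' (W : Set Z) = (V : Set Y.left)) :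
    Surjective p.left := by
  obtain ⟨Z, q, r, hr, hs, _, _⟩ := hcov
  have : Surjective (r ≫ p.left) := by rw [hr]; exact hs
  exact Surjective.of_comp r p.left

end Groth.Agent.Lib.GrpQ.Transfer
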