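import Groth.Prelude.Def_AlgGrp
import Groth.Agent.Lib.GrpQ.Desc
import Mathlib.AlgebraicGeometry.Morphisms.ClosedImmersion

/-!
Kernels of homomorphisms of group schemes as group schemes.
-/

set_option autoImplicit false

universe u

open CategoryTheory Limits MonoidalCategory CartesianMonoidalCategory MonObj AlgebraicGeometry

namespace Groth.Agent.Lib.GrpQ

variable {S : Scheme.{u}} {G Q : Over S} [GrpObj G] [GrpObj Q] (q : G ⟶ Q) [IsMonHom q]

/-- The kernel of a homomorphism into a separated group. -/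
theorem exists_kernel [IsSeparated Q.hom] :
    ∃ (N : Over S) (_ : GrpObj N) (i : N ⟶ G), IsMonHom i ∧ IsClosedImmersion i.left ∧
      AlgGrp.IsKernel i q ∧ AlgGrp.IsNormalHom i := by
  let p : pullback q.left η[Q].left ⟶ G.left := pullback.fst _ _
  let N : Over S := Over.mk (p ≫ G.hom)
  let i : N ⟶ G := Over.homMk p rfl
  have hsec : η[Q].left ≫ Q.hom = 𝟙 S := Over.w η[Q]
  have hη : IsClosedImmersion η[Q].left := by
    have : IsClosedImmersion (η[Q].left ≫ Q.hom) := by rw [hsec]; exact IsClosedImmersion.of_isPreimmersion (𝟙 S) (by simp)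
    exact IsClosedImmersion.of_comp η[Q].left Q.hom
  have hi : IsClosedImmersion i.left := inferInstanceAs (IsClosedImmersion p)
  have : Mono i := mono_of_left i
  have hiq : i ≫ q = 1 := by
    rw [Hom.one_def]
    ext1
    change p ≫ q.left = (toUnit N).left ≫ η[Q].left
    rw [pullback.condition]
    congr 1
    change pullback.snd _ _ = p ≫ G.hom
    have := congrArg (fun z => z ≫ Q.hom) (pullback.condition (f := q.left) (g := η[Q].left))
    simp only [Category.assoc, Over.w, hsec] at this
    exact ((Category.comp_id _).symm.trans this.symm)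
  have hfac : ∀ (T : Over S) (x : T ⟶ G), x ≫ q = 1 → ∃ n : T ⟶ N, n ≫ i = x := by
    intro T x hx
    refine ⟨Over.homMk (pullback.lift x.left (toUnit T).left ?_) ?_, ?_⟩
    · rw [← Over.comp_left, ← Over.comp_left, hx, Hom.one_def]
    · change pullback.lift _ _ _ ≫ p ≫ G.hom = T.hom
      rw [pullback.lift_fst_assoc]
      exact Over.w x
    · ext1
      exact pullback.lift_fst _ _ _
  have hK : AlgGrp.IsKernel i q := isKernel_of i hiq hfac
  have hmem : ∀ {T : Over S} (n : T ⟶ N), (n ≫ i) ≫ q = 1 := fun n => by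
    rw [Category.assoc, hiq, MonObj.comp_one]
  obtain ⟨e₁, he₁⟩ := hfac _ η[G] (by rw [IsMonHom.one_hom, Hom.one_def, toUnit_unique (toUnit (𝟙_ (Over S))) (𝟙 _), Category.id_comp])
  obtain ⟨m, hm⟩ := hfac (N ⊗ N) ((fst N N ≫ i) * (snd N N ≫ i)) (by
    rw [MonObj.mul_comp, hmem, hmem, _root_.one_mul])
  obtain ⟨v, hv⟩ := hfac N i⁻¹ (by rw [GrpObj.inv_comp, hiq, inv_one])
  have hm' : ∀ {T : Over S} (f : T ⟶ N ⊗ N), f ≫ m ≫ i = (f ≫ fst N N ≫ i) * (f ≫ snd N N ≫ i) := fun f => by
    rw [hm, MonObj.comp_mul]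
  let instMon : MonObj N :=
    { one := e₁
      mul := m
      one_mul := by
        rw [← cancel_mono i, Category.assoc, hm', whiskerRight_fst_assoc, whiskerRight_snd_assoc, he₁,
          toUnit_unique (fst (𝟙_ (Over S)) N) (toUnit _), ← Hom.one_def, _root_.one_mul]
        simp [leftUnitor_hom]
      mul_one := by
        rw [← cancel_mono i, Category.assoc, hm', whiskerLeft_fst_assoc, whiskerLeft_snd_assoc, he₁,
          toUnit_unique (snd N (𝟙_ (Over S))) (toUnit _), ← Hom.one_def, _root_.mul_one]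
        simp [rightUnitor_hom]
      mul_assoc := by
        rw [← cancel_mono i]
        simp only [Category.assoc, hm, MonObj.comp_mul, whiskerRight_fst_assoc, whiskerRight_snd_assoc,
          whiskerLeft_fst_assoc, whiskerLeft_snd_assoc, associator_hom_fst_assoc,
          associator_hom_snd_fst_assoc, associator_hom_snd_snd_assoc, _root_.mul_assoc] }
  let instGrp : GrpObj N :=
    { inv := v
      left_inv := by
        rw [← cancel_mono i, Category.assoc]
        change lift v (𝟙 N) ≫ m ≫ i = (toUnit N ≫ e₁) ≫ i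
        rw [hm', lift_fst_assoc, lift_snd_assoc, hv, Category.id_comp, inv_mul_cancel, Category.assoc, he₁,
          Hom.one_def]
      right_inv := by
        rw [← cancel_mono i, Category.assoc]
        change lift (𝟙 N) v ≫ m ≫ i = (toUnit N ≫ e₁) ≫ i
        rw [hm', lift_fst_assoc, lift_snd_assoc, hv, Category.id_comp, mul_inv_cancel, Category.assoc, he₁,
          Hom.one_def] }
  refine ⟨N, instGrp, i, ⟨he₁, ?_⟩, hi, hK, fun T g n => ?_⟩
  · change m ≫ i = _
    rw [hm, Hom.mul_def]; congr 1
  · obtain ⟨n', hn'⟩ := hfac T (g * (n ≫ i) * g⁻¹) (by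
      rw [MonObj.mul_comp, MonObj.mul_comp, hmem, _root_.mul_one, GrpObj.inv_comp, mul_inv_cancel])
    exact ⟨n', hn'.symm⟩

end Groth.Agent.Lib.GrpQ
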