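import Groth.Agent.Lib.GrpQ.DomFlat

/-!
A scheme-theoretically dominant homomorphism from an algebraic group to an affine algebraic group
is faithfully flat.
-/

set_option autoImplicit false

universe u

open CategoryTheory Limits MonoidalCategory CartesianMonoidalCategory MonObj AlgebraicGeometry
open TensorProduct WithConv

namespace Groth.Agent.Lib.GrpQ.DomFlat

noncomputable section

variable {k : Type u} [Field k]

/-- Pullbacks in `Over S` from points. -/
theorem isPullback_of_forall {S : Scheme.{u}} {P X Y Z : Over S} {a : P ⟶ X} {b : P ⟶ Y} {f : X ⟶ Z}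
    {g : Y ⟶ Z} (w : a ≫ f = b ≫ g)
    (h : ∀ (T : Over S) (x : T ⟶ X) (y : T ⟶ Y), x ≫ f = y ≫ g → ∃ l : T ⟶ P, l ≫ a = x ∧ l ≫ b = y)
    (huniq : ∀ (T : Over S) (l l' : T ⟶ P), l ≫ a = l' ≫ a → l ≫ b = l' ≫ b → l = l') :
    IsPullback a.left b.left f.left g.left := by
  have hp : IsPullback a b f g := ⟨⟨w⟩, ⟨PullbackCone.IsLimit.mk w
    (fun s => (h _ s.fst s.snd s.condition).choose)
    (fun s => (h _ s.fst s.snd s.condition).choose_spec.1)
    (fun s => (h _ s.fst s.snd s.condition).choose_spec.2)
    (fun s m hm1 hm2 => huniq _ _ _ (hm1.trans (h _ s.fst s.snd s.condition).choose_spec.1.symm)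
      (hm2.trans (h _ s.fst s.snd s.condition).choose_spec.2.symm))⟩⟩
  exact hp.map (Over.forget S)

theorem isMonHom_of_comp_mono {S : Scheme.{u}} {X Y Z : Over S} [MonObj X] [MonObj Y] [MonObj Z]
    (f : X ⟶ Y) (j : Y ⟶ Z) [Mono j] [IsMonHom j] (h : IsMonHom (f ≫ j)) : IsMonHom f := by
  refine ⟨?_, ?_⟩ <;> rw [← cancel_mono j, Category.assoc]
  · rw [h.one_hom, IsMonHom.one_hom]
  · rw [h.mul_hom, Category.assoc, IsMonHom.mul_hom, ← Category.assoc (f ⊗ₘ f),
      MonoidalCategory.tensorHom_comp_tensorHom]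

/-- A scheme-theoretically dominant morphism stays so after a change of the source over it. -/
theorem std_of_comp {X Y Z : Scheme.{u}} (f : X ⟶ Y) (g : Y ⟶ Z) [IsSchemeTheoreticallyDominant (f ≫ g)] :
    IsSchemeTheoreticallyDominant g :=
  ⟨le_bot_iff.1 ((f.le_ker_comp g).trans (Scheme.Hom.ker_eq_bot (f ≫ g)).le)⟩

theorem finiteType_of_locallyOfFiniteType {A : Type u} [CommRing A] [Algebra k A]
    (h : LocallyOfFiniteType (AffQ.sp k A).hom) : Algebra.FiniteType k A := by
  have h' : LocallyOfFiniteType (Spec.map (CommRingCat.ofHom (algebraMap k A))) := h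
  rw [HasRingHomProperty.Spec_iff (P := @LocallyOfFiniteType)] at h'
  exact RingHom.finiteType_algebraMap.mp h'

theorem locallyOfFiniteType_of_finiteType (A : Type u) [CommRing A] [Algebra k A] [h : Algebra.FiniteType k A] :
    LocallyOfFiniteType (AffQ.sp k A).hom := by
  change LocallyOfFiniteType (Spec.map (CommRingCat.ofHom (algebraMap k A)))
  rw [HasRingHomProperty.Spec_iff (P := @LocallyOfFiniteType)]
  exact RingHom.finiteType_algebraMap.mpr h

theorem quasiCompact_sp (A : Type u) [CommRing A] [Algebra k A] : QuasiCompact (AffQ.sp k A).hom :=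
  inferInstanceAs (QuasiCompact (Spec.map (CommRingCat.ofHom (algebraMap k A))))

theorem surjective_of_isClosedImmersion {A C : CommRingCat.{u}} (f : A ⟶ C)
    [IsClosedImmersion (Spec.map f)] : Function.Surjective f := by
  obtain ⟨-, h⟩ := IsClosedImmersion.isAffine_surjective_of_isAffine (Spec.map f)
  intro c
  obtain ⟨y, hy⟩ := h ((Scheme.ΓSpecIso C).inv c)
  refine ⟨(Scheme.ΓSpecIso A).hom y, ?_⟩
  have h2 := ConcreteCategory.congr_hom (Scheme.ΓSpecIso_naturality f) y
  simp only [ConcreteCategory.comp_apply] at h2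
  rw [hy] at h2
  simpa using h2.symm

section Pow

variable [IsAlgClosed k] (B : Type u) [CommRing B] [Algebra k B] (p n : ℕ) [ExpChar k p] [ExpChar B p]

/-- The subalgebra of `p ^ n`-th powers. -/
def powSub : Subalgebra k B where
  carrier := {x | ∃ b, b ^ p ^ n = x}
  mul_mem' := by rintro _ _ ⟨a, rfl⟩ ⟨b, rfl⟩; exact ⟨a * b, mul_pow a b _⟩
  one_mem' := ⟨1, one_pow _⟩
  add_mem' := by rintro _ _ ⟨a, rfl⟩ ⟨b, rfl⟩; exact ⟨a + b, add_pow_expChar_pow a b p n⟩
  zero_mem' := ⟨0, zero_pow (pow_ne_zero _ (expChar_pos k p).ne')⟩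
  algebraMap_mem' c := by
    obtain ⟨z, hz⟩ := IsAlgClosed.exists_pow_nat_eq c (pow_pos (expChar_pos k p) n)
    exact ⟨algebraMap k B z, by rw [← map_pow, hz]⟩

theorem pow_mem_powSub (b : B) : b ^ p ^ n ∈ powSub (k := k) B p n := ⟨b, rfl⟩

theorem finiteType_powSub [Algebra.FiniteType k B] : Algebra.FiniteType k (powSub (k := k) B p n) := by
  classical
  obtain ⟨s, hs⟩ := (inferInstance : Algebra.FiniteType k B)
  refine (Subalgebra.fg_iff_finiteType _).1 ⟨s.image (· ^ p ^ n), le_antisymm ?_ ?_⟩
  · rw [Algebra.adjoin_le_iff]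
    intro x hx
    obtain ⟨b, -, rfl⟩ := Finset.mem_image.1 hx
    exact ⟨b, rfl⟩
  · rintro _ ⟨b, rfl⟩
    have hb : b ∈ Algebra.adjoin k (s : Set B) := hs ▸ Algebra.mem_top
    induction hb using Algebra.adjoin_induction with
    | mem x hx => exact Algebra.subset_adjoin (Finset.mem_image.2 ⟨x, hx, rfl⟩)
    | algebraMap c => rw [← map_pow]; exact Subalgebra.algebraMap_mem _ _
    | add x y _ _ hx hy => rw [add_pow_expChar_pow]; exact add_mem hx hy
    | mul x y _ _ hx hy => rw [mul_pow]; exact mul_mem hx hy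

end Pow

theorem isHopfSubalgebra_powSub [IsAlgClosed k] (B : Type u) [CommRing B] [HopfAlgebra k B] (p n : ℕ)
    [ExpChar k p] [ExpChar B p] : SGA3.IsHopfSubalgebra k B (powSub (k := k) B p n) := by
  classical
  have : Nontrivial (B ⊗[k] B) :=
    ((Algebra.TensorProduct.lift (Bialgebra.counitAlgHom k B) (Bialgebra.counitAlgHom k B)
      fun _ _ => Commute.all _ _)).toRingHom.domain_nontrivial
  have : ExpChar (B ⊗[k] B) p := expChar_of_injective_algebraMap (algebraMap k (B ⊗[k] B)).injective p
  refine ⟨?_, ?_⟩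
  · rintro _ ⟨b, rfl⟩
    obtain ⟨S, hS⟩ := TensorProduct.exists_finset (CoalgebraStruct.comul (R := k) b)
    have hΔ : CoalgebraStruct.comul (R := k) (b ^ p ^ n) = ∑ i ∈ S, (i.1 ^ p ^ n) ⊗ₜ[k] (i.2 ^ p ^ n) := by
      change Bialgebra.comulAlgHom k B (b ^ p ^ n) = _
      rw [map_pow, Bialgebra.comulAlgHom_apply, hS, sum_pow_char_pow]
      simp only [Algebra.TensorProduct.tmul_pow]
    refine ⟨∑ i ∈ S, (⟨_, pow_mem_powSub B p n i.1⟩ : powSub (k := k) B p n) ⊗ₜ[k]
      (⟨_, pow_mem_powSub B p n i.2⟩ : powSub (k := k) B p n), ?_⟩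
    rw [hΔ, map_sum]
    rfl
  · rintro _ ⟨b, rfl⟩
    exact ⟨HopfAlgebraStruct.antipode (R := k) b, (map_pow (HopfAlgebra.antipodeAlgHom k B) b (p ^ n)).symm⟩

/-- Over an algebraically closed field. -/
theorem flat_surjective_of_algClosed [IsAlgClosed k] {B : Type u} [CommRing B] [HopfAlgebra k B]
    [Algebra.FiniteType k B] {G : Over (Spec (CommRingCat.of k))} [GrpObj G] [LocallyOfFiniteType G.hom]
    [QuasiCompact G.hom] (p : G ⟶ AffQ.sp k B) [IsMonHom p] [IsSchemeTheoreticallyDominant p.left] :
    Flat p.left ∧ Surjective p.left := by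
  obtain ⟨c, n, _, hn⟩ := SemiInv.exists_exponent k B
  have : Nontrivial B := (Bialgebra.counitAlgHom k B).toRingHom.domain_nontrivial
  have : ExpChar B c := expChar_of_injective_algebraMap (algebraMap k B).injective c
  let B' := powSub (k := k) B c n
  have hB' : SGA3.IsHopfSubalgebra k B B' := isHopfSubalgebra_powSub B c n
  have : Algebra.FiniteType k B' := finiteType_powSub B c n
  have : _root_.IsReduced B' := ⟨fun x ⟨m, hm⟩ => by
    obtain ⟨b, hb⟩ := x.2
    have hb0 : b ^ c ^ n = 0 := hn b ⟨c ^ n * m, by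
      rw [pow_mul, show b ^ c ^ n = (x : B) from hb, ← SubmonoidClass.coe_pow, hm]; rfl⟩
    exact Subtype.ext (hb.symm.trans hb0)⟩
  let _ : HopfAlgebra k B' := Lib.Hopf.SubStruct.subHopf hB'
  let v : B' →ₐc[k] B := BialgHom.ofAlgHom B'.val (AlgHom.ext fun _ => rfl)
    (AlgHom.ext fun b => Lib.Hopf.SubStruct.map_subComul hB' b)
  let π : AffQ.sp k B ⟶ AffQ.sp k B' := AffQ.homOfBialgHom v
  obtain ⟨hπf, hπs⟩ := flat_surjective_of_injective v Subtype.val_injective
  have : Flat π.left := hπf
  have : Surjective π.left := hπs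
  have := locallyOfFiniteType_of_finiteType (k := k) B
  have := locallyOfFiniteType_of_finiteType (k := k) B'
  have := quasiCompact_sp (k := k) B
  have := quasiCompact_sp (k := k) B'
  have : IsReduced (AffQ.sp k B').left := inferInstanceAs (IsReduced (Spec (CommRingCat.of B')))
  have : QuasiCompact p.left := quasiCompact_left p
  let p' : G ⟶ AffQ.sp k B' := p ≫ π
  have hd : DenseRange p'.left := by
    have h1 := π.left.surjective.denseRange.comp p.left.denseRange π.left.continuous
    exact h1
  have : Surjective p'.left := surjective_of_denseRange p' hd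
  have : Flat p'.left := flat_of_surjective_of_isReduced p'
  have := GrpSch.isSeparated_of_field (AffQ.sp k B')
  obtain ⟨K, _, jK, _, _, hK, -⟩ := exists_kernel π
  obtain ⟨N, _, iN, _, _, hN, -⟩ := exists_kernel p'
  have := kernel_mono hK
  have := kernel_mono hN
  have : IsAffine K.left := isAffine_of_isAffineHom jK.left
  have : LocallyOfFiniteType K.hom := by rw [← Over.w jK]; infer_instance
  have : LocallyOfFiniteType N.hom := by rw [← Over.w iN]; infer_instance
  have : QuasiCompact N.hom := by rw [← Over.w iN]; infer_instance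
  obtain ⟨R, _, _, e, he⟩ := H1.Hopf.exists_iso K
  have hie : IsIso e.inv.left := ((Over.forget _).mapIso e.symm).isIso_hom
  have hie' : IsIso e.hom.left := ((Over.forget _).mapIso e).isIso_hom
  have : Algebra.FiniteType k R := finiteType_of_locallyOfFiniteType (by
    rw [← Over.w e.inv]; infer_instance)
  have : IsMonHom e.inv := isMonHom_of_comp_mono e.inv e.hom (by rw [e.inv_hom_id]; infer_instance)
  obtain ⟨φ, hφ⟩ := exists_bialgHom (e.inv ≫ jK)
  have hsurj : Function.Surjective φ := by
    have : IsClosedImmersion (AffQ.homOfBialgHom φ).left := by rw [hφ, Over.comp_left]; infer_instance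
    rw [AffQ.homOfBialgHom_left] at this
    exact @surjective_of_isClosedImmersion _ _ (CommRingCat.ofHom (φ : B →+* R)) this
  have hone : (φ : B →ₐ[k] R).comp B'.val = (Algebra.ofId k R).comp (Bialgebra.counitAlgHom k B') := by
    have h1 : Spec.mapMulEquiv (R := k) (toConv ((φ : B →ₐ[k] R).comp B'.val)) =
        AffQ.homOfBialgHom φ ≫ π := by
      ext1
      rw [Over.comp_left]
      exact Spec.map_comp (CommRingCat.ofHom (v : B' →+* B)) (CommRingCat.ofHom (φ : B →+* R))
    have h2 : AffQ.homOfBialgHom φ ≫ π = 1 := by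
      rw [hφ, Category.assoc, kernel_comp hK, MonObj.comp_one]
    have h3 : toConv ((φ : B →ₐ[k] R).comp B'.val) = 1 :=
      (Spec.mapMulEquiv (R := k) (S := B') (T := R)).injective ((h1.trans h2).trans (map_one _).symm)
    exact congrArg WithConv.ofConv h3
  have hqpt : InfSub.IsQPt (c ^ n) (Bialgebra.counitAlgHom k R) := fun a => by
    obtain ⟨b, rfl⟩ := hsurj a
    have h1 := AlgHom.congr_fun hone ⟨b ^ c ^ n, pow_mem_powSub B c n b⟩
    rw [← map_pow]
    refine h1.trans ?_
    change algebraMap k R (CoalgebraStruct.counit (R := k) (b ^ c ^ n)) = _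
    rw [Bialgebra.counit_pow]
    congr 2
    exact (CoalgHomClass.counit_comp_apply φ b).symm
  obtain ⟨f, hf⟩ := (mem_kernel hK (iN ≫ p)).2 (by rw [Category.assoc]; exact kernel_comp hN)
  have : IsMonHom f := isMonHom_of_comp_mono f jK (by rw [hf]; infer_instance)
  let Ψ : G ⊗ K ⟶ AffQ.sp k B := (fst G K ≫ p) * (snd G K ≫ jK)
  let mu : G ⊗ N ⟶ G := fst G N * (snd G N ≫ iN)
  have hKpt : ∀ {T : Over (Spec (CommRingCat.of k))} (x : T ⟶ K), x ≫ jK ≫ π = 1 := fun x => by
    rw [kernel_comp hK, MonObj.comp_one]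
  have sq1 : IsPullback (fst G K).left Ψ.left p'.left π.left := by
    refine isPullback_of_forall ?_ (fun T g x hgx => ?_) fun T l l' h1 h2 => ?_
    · simp only [Ψ, p', MonObj.mul_comp, Category.assoc, kernel_comp hK, MonObj.comp_one, _root_.mul_one]
    · obtain ⟨κ, hκ⟩ := (mem_kernel hK ((g ≫ p)⁻¹ * x)).2 (by
        rw [MonObj.mul_comp, GrpObj.inv_comp, Category.assoc, ← hgx, inv_mul_cancel])
      exact ⟨lift g κ, lift_fst _ _, by simp [Ψ, MonObj.comp_mul, hκ]⟩
    · ext1
      · exact h1
      · rw [← cancel_mono jK]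
        simp only [Ψ, MonObj.comp_mul, ← Category.assoc, h1] at h2
        simpa using h2
  have sq2 : IsPullback (G ◁ f).left mu.left Ψ.left p.left := by
    refine isPullback_of_forall ?_ (fun T x h hxh => ?_) fun T l l' h1 h2 => ?_
    · simp only [Ψ, mu, MonObj.mul_comp, MonObj.comp_mul, whiskerLeft_fst_assoc, whiskerLeft_snd_assoc,
        Category.assoc, hf]
    · simp only [Ψ, MonObj.comp_mul] at hxh
      obtain ⟨m, hm⟩ := (mem_kernel hN ((x ≫ fst G K)⁻¹ * h)).2 (by
        rw [MonObj.mul_comp, GrpObj.inv_comp, show h ≫ p' = (h ≫ p) ≫ π from (Category.assoc _ _ _).symm,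
          ← hxh, MonObj.mul_comp, Category.assoc x, Category.assoc _ _ π, Category.assoc _ _ π]
        simp [p', hKpt])
      refine ⟨lift (x ≫ fst G K) m, ?_, by simp [mu, MonObj.comp_mul, hm]⟩
      ext1
      · simp
      · rw [← cancel_mono jK]
        simp only [Category.assoc, whiskerLeft_snd_assoc, hf, lift_snd_assoc, reassoc_of% hm]
        rw [MonObj.mul_comp, GrpObj.inv_comp, ← hxh]
        simp
    · have hfst : l ≫ fst G N = l' ≫ fst G N := by
        simpa using congrArg (· ≫ fst G K) h1
      ext1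
      · exact hfst
      · rw [← cancel_mono iN]
        simp only [mu, MonObj.comp_mul, hfst] at h2
        simpa using h2
  have : Flat Ψ.left := MorphismProperty.of_isPullback (P := @Flat) sq1 inferInstance
  have : Surjective Ψ.left := MorphismProperty.of_isPullback (P := @Surjective) sq1 inferInstance
  have hW : IsSchemeTheoreticallyDominant (G ◁ f).left := .of_isPullback sq2.flip
  have hsK : IsSchemeTheoreticallyDominant (snd G K).left := by
    have : IsSchemeTheoreticallyDominant ((lift (1 : K ⟶ G) (𝟙 K)).left ≫ (snd G K).left) := by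
      rw [← Over.comp_left, lift_snd, Over.id_left]; infer_instance
    exact std_of_comp (lift (1 : K ⟶ G) (𝟙 K)).left _
  have : IsSchemeTheoreticallyDominant f.left := by
    have : IsSchemeTheoreticallyDominant ((snd G N).left ≫ f.left) := by
      rw [← Over.comp_left, ← whiskerLeft_snd G f, Over.comp_left]; infer_instance
    exact std_of_comp (snd G N).left _
  let f' : N ⟶ AffQ.sp k R := f ≫ e.hom
  have : IsSchemeTheoreticallyDominant f'.left := by
    change IsSchemeTheoreticallyDominant (f.left ≫ e.hom.left); infer_instance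
  obtain ⟨h1, h2⟩ := flat_surjective_of_infinitesimal c n hqpt f'
  have hff : f.left = f'.left ≫ e.inv.left := by
    rw [← Over.comp_left]; simp [f']
  have : Flat f.left := by rw [hff]; infer_instance
  have : Surjective f.left := by rw [hff]; infer_instance
  have : Flat (G ◁ f).left := GrpSch.whiskerLeft_left_of (P := @Flat) _ _ inferInstance
  have : Surjective (G ◁ f).left := GrpSch.whiskerLeft_left_of (P := @Surjective) _ _ inferInstance
  have : Flat (mu.left ≫ p.left) := by rw [← sq2.w]; infer_instance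
  have : Surjective (mu.left ≫ p.left) := by rw [← sq2.w]; infer_instance
  let sh : G ⊗ N ≅ G ⊗ N :=
    { hom := lift mu (snd G N)
      inv := lift (fst G N * (snd G N ≫ iN)⁻¹) (snd G N)
      hom_inv_id := by
        ext1
        · simp [mu, MonObj.comp_mul, GrpObj.comp_inv, _root_.mul_assoc]
        · simp
      inv_hom_id := by
        ext1
        · simp [mu, MonObj.comp_mul, GrpObj.comp_inv, _root_.mul_assoc]
        · simp }
  have : IsIso sh.hom.left := ((Over.forget _).mapIso sh).isIso_hom
  have emu : mu = sh.hom ≫ fst G N := (lift_fst _ _).symm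
  have : Flat (fst G N).left :=
    GrpSch.fst_left_of (P := @Flat) _ (GrpSch.flat_of_isField (Field.toIsField k) N.hom)
  have : Surjective (fst G N).left :=
    GrpSch.fst_left_of (P := @Surjective) _ ⟨fun y => ⟨η[N].left y,
      Subsingleton.elim (α := Spec (CommRingCat.of k)) _ _⟩⟩
  have : Flat mu.left := by rw [emu, Over.comp_left]; infer_instance
  have : Surjective mu.left := by rw [emu, Over.comp_left]; infer_instance
  exact ⟨Flat55.FlatDescend.flat_of_comp mu.left p.left, Surjective.of_comp mu.left p.left⟩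

/-- A scheme-theoretically dominant homomorphism to an affine algebraic group is faithfully flat. -/
theorem flat_surjective {G C : Over (Spec (CommRingCat.of k))} [GrpObj G] [GrpObj C] [LocallyOfFiniteType G.hom]
    [QuasiCompact G.hom] [LocallyOfFiniteType C.hom] [IsAffine C.left] (p : G ⟶ C) [IsMonHom p]
    [IsSchemeTheoreticallyDominant p.left] : Flat p.left ∧ Surjective p.left := by
  let K := AlgebraicClosure k
  let b := GrpSch.extBase k K
  let G' := Red.bc b G
  let C' := Red.bc b C
  have : LocallyOfFiniteType G'.hom := GrpSch.bc_hom_of (P := @LocallyOfFiniteType) b G ‹_›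
  have : QuasiCompact G'.hom := GrpSch.bc_hom_of (P := @QuasiCompact) b G ‹_›
  have : LocallyOfFiniteType C'.hom := GrpSch.bc_hom_of (P := @LocallyOfFiniteType) b C ‹_›
  have : IsAffineHom C.hom := inferInstance
  have : IsAffineHom C'.hom := GrpSch.bc_hom_of (P := @IsAffineHom) b C ‹_›
  have : IsAffine C'.left := isAffine_of_isAffineHom C'.hom
  let p' : G' ⟶ C' := (Over.pullback b).map p
  have : IsMonHom p' := inferInstanceAs (IsMonHom ((Over.pullback b).map p))
  have : Flat (GrpSch.bcProj b C) :=
    GrpSch.bcProj_of (P := @Flat) b C (GrpSch.extBase_surjective_flat_qc k K).1.2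
  have : QuasiCompact p.left := quasiCompact_left p
  have : IsSchemeTheoreticallyDominant p'.left :=
    IsSchemeTheoreticallyDominant.of_isPullback (GrpSch.isPullback_bc_map b p).flip
  obtain ⟨B, _, _, e, he⟩ := H1.Hopf.exists_iso C'
  have hie : IsIso e.inv.left := ((Over.forget _).mapIso e.symm).isIso_hom
  have hie' : IsIso e.hom.left := ((Over.forget _).mapIso e).isIso_hom
  have : Algebra.FiniteType K B := finiteType_of_locallyOfFiniteType (by
    rw [← Over.w e.inv]; infer_instance)
  let q : G' ⟶ AffQ.sp K B := p' ≫ e.hom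
  have : IsSchemeTheoreticallyDominant q.left := by
    change IsSchemeTheoreticallyDominant (p'.left ≫ e.hom.left); infer_instance
  obtain ⟨h1, h2⟩ := flat_surjective_of_algClosed q
  have hq : p'.left = q.left ≫ e.inv.left := by rw [← Over.comp_left]; simp [q]
  have : IsZariskiLocalAtTarget (@Flat : MorphismProperty Scheme.{u}) :=
    HasRingHomProperty.instIsZariskiLocalAtTarget _
  have : MorphismProperty.RespectsIso (@Flat : MorphismProperty Scheme.{u}) :=
    MorphismProperty.IsStableUnderBaseChange.respectsIso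
  exact ⟨GrpSch.of_bc_map_left k K (P := @Flat) p (show Flat p'.left by rw [hq]; infer_instance),
    GrpSch.of_bc_map_left k K (P := @Surjective) p (show Surjective p'.left by rw [hq]; infer_instance)⟩

end

end Groth.Agent.Lib.GrpQ.DomFlat
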