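import Mathlib.AlgebraicGeometry.Morphisms.Flat
import Mathlib.RingTheory.Flat.FaithfullyFlat.Algebra

/-!
Functions pull back injectively along flat surjective morphisms.
-/

set_option autoImplicit false

universe u

open CategoryTheory AlgebraicGeometry TopologicalSpace

namespace Groth.Agent.Lib.GrpQ.FlatInj

theorem stalkMap_injective {X Y : Scheme.{u}} (f : X ⟶ Y) [Flat f] (x : X) :
    Function.Injective (f.stalkMap x) := by
  algebraize [(f.stalkMap x).hom]
  have : Module.Flat (Y.presheaf.stalk (f x)) (X.presheaf.stalk x) := Flat.stalkMap f x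
  have : IsLocalHom (algebraMap (Y.presheaf.stalk (f x)) (X.presheaf.stalk x)) := f.toLRSHom.prop x
  have := Module.FaithfullyFlat.of_flat_of_isLocalHom (A := Y.presheaf.stalk (f x)) (B := X.presheaf.stalk x)
  exact FaithfulSMul.algebraMap_injective (Y.presheaf.stalk (f x)) (X.presheaf.stalk x)

/-- Functions pull back injectively along flat surjective morphisms. -/
theorem app_injective {X Y : Scheme.{u}} (f : X ⟶ Y) [Flat f] [Surjective f] (U : Y.Opens) :
    Function.Injective (f.app U) := by
  intro s t hst
  refine TopCat.Presheaf.section_ext Y.sheaf U s t fun y hy => ?_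
  obtain ⟨x, rfl⟩ := f.surjective y
  apply stalkMap_injective f x
  have h1 := Scheme.Hom.germ_stalkMap_apply f U x hy
  exact (h1 s).trans ((congrArg _ hst).trans (h1 t).symm)

end Groth.Agent.Lib.GrpQ.FlatInj
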