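import Groth.Agent.Lib.GrpQ.NormalKer
import Groth.Agent.Lib.Hopf.SubStruct
import Groth.Agent.Lib.Hopf.SubHopf

/-!
The invariant functions of a normal Hopf ideal form a Hopf subalgebra cutting it out.
-/

set_option autoImplicit false

universe u

open TensorProduct CoalgebraStruct WithConv

namespace Groth.Agent.Lib.GrpQ.SemiInv

noncomputable section

variable {k A : Type u} [Field k] [CommRing A] [HopfAlgebra k A]

open Bialgebra Coalgebra in
local instance (priority := 50) convGroupCoinv {B : Type*} [CommRing B] [Algebra k B] :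
    Group (WithConv (A →ₐ[k] B)) where
  inv f := toConv <| f.ofConv.comp (HopfAlgebra.antipodeAlgHom k A)
  inv_mul_cancel f := by
    have H : (Algebra.TensorProduct.lmul' k).comp (Algebra.TensorProduct.map f.ofConv f.ofConv) =
        f.ofConv.comp (Algebra.TensorProduct.lmul' k) := by ext <;> simp
    trans toConv <| ((Algebra.TensorProduct.lmul' k).comp (Algebra.TensorProduct.map f.ofConv f.ofConv)).comp
      ((Algebra.TensorProduct.map (HopfAlgebra.antipodeAlgHom k A) (.id _ _)).comp (comulAlgHom k A))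
    · rw [AlgHom.comp_assoc, ← AlgHom.comp_assoc (Algebra.TensorProduct.map f.ofConv f.ofConv),
        ← Algebra.TensorProduct.map_comp]; rfl
    rw [H, AlgHom.comp_assoc, WithConv.ext_iff, ← AlgHom.toLinearMap_injective.eq_iff]
    change f.ofConv.toLinearMap.comp (toConv (HopfAlgebra.antipode k (A := A)) * toConv LinearMap.id).ofConv =
      ofConv (1 : WithConv <| A →ₗ[k] B)
    rw [LinearMap.antipode_mul_id]
    ext
    simp

theorem antipode_antipode' (x : A) :
    HopfAlgebra.antipodeAlgHom k A (HopfAlgebra.antipodeAlgHom k A x) = x := by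
  let S : A →ₐ[k] A := HopfAlgebra.antipodeAlgHom k A
  have h1 : toConv S * toConv (AlgHom.id k A) = (1 : WithConv (A →ₐ[k] A)) := AlgHom.antipode_id_cancel
  have h2 : toConv (S.comp S) * toConv S = (1 : WithConv (A →ₐ[k] A)) := by
    have h := AlgHom.comp_convMul_distrib S (toConv S) (toConv (AlgHom.id k A))
    rw [h1] at h
    simp only [AlgHom.comp_id] at h
    apply WithConv.ofConv_injective
    rw [← h]
    ext a
    simp
  have e : toConv (S.comp S) = toConv (AlgHom.id k A) :=
    (eq_inv_of_mul_eq_one_left h2).trans (inv_eq_of_mul_eq_one_right h1)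
  exact AlgHom.congr_fun (congrArg WithConv.ofConv e) x

theorem comul_antipode' (b : A) : comul (R := k) (HopfAlgebra.antipodeAlgHom k A b) =
    Algebra.TensorProduct.lift
      ((Algebra.TensorProduct.includeRight : A →ₐ[k] A ⊗[k] A).comp (HopfAlgebra.antipodeAlgHom k A))
      ((Algebra.TensorProduct.includeLeft : A →ₐ[k] A ⊗[k] A).comp (HopfAlgebra.antipodeAlgHom k A))
      (fun _ _ => Commute.all _ _) (comul (R := k) b) := by
  let iL : WithConv (A →ₐ[k] A ⊗[k] A) := toConv Algebra.TensorProduct.includeLeft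
  let iR : WithConv (A →ₐ[k] A ⊗[k] A) := toConv Algebra.TensorProduct.includeRight
  have hdl : toConv (Bialgebra.comulAlgHom k A) = iL * iR := by
    apply WithConv.ofConv_injective
    ext b
    rw [show ∀ x, (iL * iR).ofConv x = (iL * iR) x from fun _ => rfl, AlgHom.convMul_apply]
    change comul (R := k) b = _
    induction comul (R := k) b using TensorProduct.induction_on with
    | zero => simp
    | add r s hr hs => simp only [map_add, ← hr, ← hs]
    | tmul r s => simp [iL, iR]
  have h1 : (toConv (Bialgebra.comulAlgHom k A))⁻¹ = iR⁻¹ * iL⁻¹ := by rw [hdl, mul_inv_rev]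
  have h2 := congrArg (fun F : WithConv (A →ₐ[k] A ⊗[k] A) => F b) h1
  rw [AlgHom.convMul_apply] at h2
  exact h2

variable (k) in
/-- The functions invariant under right translation by the subgroup cut out by `I`. -/
def coinv (I : Ideal A) : Subalgebra k A :=
  AlgHom.equalizer ((Algebra.TensorProduct.map (AlgHom.id k A) (Ideal.Quotient.mkₐ k I)).comp
    (Bialgebra.comulAlgHom k A)) Algebra.TensorProduct.includeLeft

theorem mem_coinv_iff {I : Ideal A} {x : A} : x ∈ coinv k I ↔
    (Ideal.Quotient.mkₐ k I).toLinearMap.lTensor A (comul (R := k) x) = x ⊗ₜ[k] (1 : A ⧸ I) := Iff.rfl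

variable {I : Ideal A}

theorem sub_counit_mem_of_coinv {x : A} (hx : x ∈ coinv k I) :
    x - algebraMap k A (counit (R := k) x) ∈ I := by
  have h2 := pi_eq_of_semi (Ideal.Quotient.mkₐ k I) (m := x) (c := 1) (mem_coinv_iff.1 hx)
  rw [← Algebra.algebraMap_eq_smul_one] at h2
  exact Ideal.Quotient.eq.1 h2

theorem tr_mem_coinv (φ : A →ₗ[k] k) {x : A} (hx : x ∈ coinv k I) : tr φ x ∈ coinv k I := by
  rw [mem_coinv_iff] at hx ⊢
  rw [lTensor_comul_tr, hx, LinearMap.rTensor_tmul]

theorem left_coinv (hI : SGA3.IsNormalHopfIdeal k A I) {x : A} (hx : x ∈ coinv k I) :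
    (Ideal.Quotient.mkₐ k I).toLinearMap.rTensor A (comul (R := k) x) = (1 : A ⧸ I) ⊗ₜ[k] x := by
  let π : A →ₐ[k] A ⧸ I := Ideal.Quotient.mkₐ k I
  let G : WithConv (A →ₐ[k] A ⊗[k] (A ⧸ I)) := toConv Algebra.TensorProduct.includeLeft
  let P : WithConv (A →ₐ[k] A ⊗[k] (A ⧸ I)) :=
    toConv ((Algebra.TensorProduct.includeRight : A ⧸ I →ₐ[k] A ⊗[k] (A ⧸ I)).comp π)
  have hkill : ∀ a ∈ I, (G⁻¹ * P * G).ofConv a = 0 := by
    intro a ha
    have h1 := hI (A ⊗[k] (A ⧸ I)) (G⁻¹).ofConv P.ofConv (fun b hb => by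
      change Algebra.TensorProduct.includeRight (π b) = 0
      rw [show π b = 0 from Ideal.Quotient.eq_zero_iff_mem.2 hb, map_zero]) a ha
    have h2 : toConv (Dyn.conv3 k A (G⁻¹).ofConv P.ofConv
        ((G⁻¹).ofConv.comp (HopfAlgebra.antipodeAlgHom k A))) = G⁻¹ * P * G := by
      rw [Lib.Hopf.Conv3.conv3_eq]
      congr 1
      exact (show G⁻¹⁻¹ = G from inv_inv G)
    rw [← h2]
    exact h1
  let θ : A ⧸ I →ₐ[k] A ⊗[k] (A ⧸ I) := Ideal.Quotient.liftₐ I (G⁻¹ * P * G).ofConv hkill
  have hθ : toConv (θ.comp π) = G⁻¹ * P * G := by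
    apply WithConv.ofConv_injective
    ext a
    rfl
  have e3 : G * (G⁻¹ * P * G) = P * G :=
    (congrArg (G * ·) (_root_.mul_assoc G⁻¹ P G)).trans (mul_inv_cancel_left G (P * G))
  have h4 : (P * G).ofConv x = x ⊗ₜ[k] (1 : A ⧸ I) := by
    rw [← e3, ← hθ]
    refine (conv_of_semi π G.ofConv θ (mem_coinv_iff.1 hx)).trans ?_
    rw [map_one, _root_.mul_one]
    rfl
  apply (TensorProduct.comm k (A ⧸ I) A).injective
  rw [TensorProduct.comm_tmul, ← h4, show (P * G).ofConv x = (P * G) x from rfl, AlgHom.convMul_apply]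
  induction comul (R := k) x using TensorProduct.induction_on with
  | zero => simp
  | add r s hr hs => simp only [map_add, hr, hs]
  | tmul r s => simp [P, G, π]

theorem antipode_mem_coinv [I.IsHopfIdeal k] (hI : SGA3.IsNormalHopfIdeal k A I) {x : A} (hx : x ∈ coinv k I) :
    HopfAlgebra.antipodeAlgHom k A x ∈ coinv k I := by
  let S : A →ₐ[k] A := HopfAlgebra.antipodeAlgHom k A
  let π : A →ₐ[k] A ⧸ I := Ideal.Quotient.mkₐ k I
  let Sb : A ⧸ I →ₐ[k] A ⧸ I := Ideal.Quotient.liftₐ I (π.comp S) fun a ha =>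
    Ideal.Quotient.eq_zero_iff_mem.2 (Ideal.IsHopfIdeal.antipode_mem (R := k) ha)
  rw [mem_coinv_iff, comul_antipode']
  rw [show S x ⊗ₜ[k] (1 : A ⧸ I) = Algebra.TensorProduct.lift
    ((Algebra.TensorProduct.includeRight : A ⧸ I →ₐ[k] A ⊗[k] (A ⧸ I)).comp Sb)
    ((Algebra.TensorProduct.includeLeft : A →ₐ[k] A ⊗[k] (A ⧸ I)).comp S)
    (fun _ _ => Commute.all _ _) ((1 : A ⧸ I) ⊗ₜ[k] x) by simp [← Algebra.TensorProduct.one_def],
    ← left_coinv hI hx]
  induction comul (R := k) x using TensorProduct.induction_on with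
  | zero => simp
  | add r s hr hs => simp only [map_add, hr, hs]
  | tmul r s => simp; rfl

theorem isHopfSubalgebra_coinv [I.IsHopfIdeal k] (hI : SGA3.IsNormalHopfIdeal k A I) :
    SGA3.IsHopfSubalgebra k A (coinv k I) := by
  refine ⟨fun b hb => ?_, fun b hb => antipode_mem_coinv hI hb⟩
  let B := coinv k I
  obtain ⟨p, hp⟩ := B.val.toLinearMap.exists_leftInverse_of_injective
    (LinearMap.ker_eq_bot.2 Subtype.val_injective)
  let Q : A →ₗ[k] A := B.val.toLinearMap ∘ₗ p
  have hQ : ∀ y ∈ B, Q y = y := fun y hy => congrArg Subtype.val (LinearMap.congr_fun hp ⟨y, hy⟩)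
  have hR : ∀ y ∈ B, Q.lTensor A (comul (R := k) y) = comul (R := k) y := fun y hy => by
    rw [← sub_eq_zero]
    refine eq_zero_of_forall_contrL fun φ => ?_
    have e : ∀ z : A ⊗[k] A, contrL A φ (Q.lTensor A z) = Q (contrL A φ z) := fun z => by
      induction z using TensorProduct.induction_on with
      | zero => simp
      | add r s hr hs => simp only [map_add, hr, hs]
      | tmul r s => simp
    rw [map_sub, e, show contrL A φ (comul (R := k) y) = tr φ y from rfl, hQ _ (tr_mem_coinv φ hy), sub_self]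
  -- the same on the other leg, by the antipode
  have hL : Q.rTensor A (comul (R := k) b) = comul (R := k) b := by
    let S : A →ₐ[k] A := HopfAlgebra.antipodeAlgHom k A
    have h1 := comul_antipode' (k := k) (S b)
    rw [antipode_antipode' (k := k) b, ← hR (S b) (antipode_mem_coinv hI hb)] at h1
    rw [h1]
    induction comul (R := k) (S b) using TensorProduct.induction_on with
    | zero => simp
    | add r s hr hs => simp only [map_add, hr, hs]
    | tmul r s =>
      simp only [LinearMap.lTensor_tmul, Algebra.TensorProduct.lift_tmul, AlgHom.comp_apply,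
        Algebra.TensorProduct.includeRight_apply, Algebra.TensorProduct.includeLeft_apply,
        Algebra.TensorProduct.tmul_mul_tmul, _root_.one_mul, _root_.mul_one, LinearMap.rTensor_tmul]
      rw [hQ _ (antipode_mem_coinv hI (show Q s ∈ B from (p s).2))]
  refine ⟨TensorProduct.map p p (comul (R := k) b), ?_⟩
  rw [← LinearMap.comp_apply, ← TensorProduct.map_comp]
  change TensorProduct.map Q Q (comul (R := k) b) = _
  rw [← LinearMap.rTensor_comp_lTensor, LinearMap.comp_apply, hR b hb, hL]

theorem augIdealSpan_coinv_le : SGA3.augIdealSpan k A (coinv k I) ≤ I := by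
  rw [SGA3.augIdealSpan, Ideal.span_le]
  rintro x ⟨hx, hx0⟩
  have := sub_counit_mem_of_coinv hx
  rwa [hx0, map_zero, sub_zero] at this

theorem isHopfIdeal_comap {A' : Type u} [CommRing A'] [HopfAlgebra k A'] (f : A' →ₐ[k] A)
    (hf : Function.Injective f) (hΔ : ∀ a, comul (R := k) (f a) = TensorProduct.map f.toLinearMap f.toLinearMap (comul (R := k) a))
    (hε : ∀ a, counit (R := k) (f a) = counit (R := k) a)
    (hS : ∀ a, HopfAlgebraStruct.antipode (R := k) (f a) = f (HopfAlgebraStruct.antipode (R := k) a))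
    [I.IsHopfIdeal k] : (I.comap f).IsHopfIdeal k := by
  have hco : ((I.comap f).restrictScalars k).IsCoideal := by
    refine ⟨fun x hx => ?_, fun x hx => ?_⟩
    · rw [← hε]
      exact Submodule.IsCoideal.counit_eq_zero (I := I.restrictScalars k) hx
    · let fb : A' ⧸ (I.comap f).restrictScalars k →ₗ[k] A ⧸ I.restrictScalars k :=
        Submodule.mapQ _ _ f.toLinearMap fun a ha => ha
      have hfb : Function.Injective fb := by
        refine LinearMap.ker_eq_bot.1 (LinearMap.ker_eq_bot'.2 fun y hy => ?_)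
        obtain ⟨a, rfl⟩ := Submodule.Quotient.mk_surjective _ y
        exact (Submodule.Quotient.mk_eq_zero _).2 ((Submodule.Quotient.mk_eq_zero (I.restrictScalars k)).1 hy :)
      have hinj : Function.Injective (TensorProduct.map fb fb) := by
        rw [← LinearMap.rTensor_comp_lTensor, LinearMap.coe_comp]
        exact (Module.Flat.rTensor_preserves_injective_linearMap _ hfb).comp
          (Module.Flat.lTensor_preserves_injective_linearMap _ hfb)
      apply hinj
      rw [map_zero]
      have h0 := Submodule.IsCoideal.map_mkQ_comul_eq_zero (R := k) (I := I.restrictScalars k) (x := f x) hx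
      rw [hΔ] at h0
      rw [← h0]
      generalize comul (R := k) x = z
      induction z using TensorProduct.induction_on with
      | zero => simp
      | add r s hr hs => simp only [map_add, hr, hs]
      | tmul r s => rfl
  exact { toIsCoideal := hco
          antipode_mem := fun x hx => by
            change f (HopfAlgebraStruct.antipode (R := k) x) ∈ I
            rw [← hS]
            exact Ideal.IsHopfIdeal.antipode_mem (R := k) hx }

theorem conv3_natural {A' : Type u} [CommRing A'] [HopfAlgebra k A'] (f : A' →ₐ[k] A)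
    (hΔ : ∀ a, comul (R := k) (f a) = TensorProduct.map f.toLinearMap f.toLinearMap (comul (R := k) a))
    {R R' : Type u} [CommRing R] [Algebra k R] [CommRing R'] [Algebra k R'] (j : R' →ₐ[k] R)
    (g h i : A →ₐ[k] R) (g' h' i' : A' →ₐ[k] R') (hg : ∀ a, j (g' a) = g (f a)) (hh : ∀ a, j (h' a) = h (f a))
    (hi : ∀ a, j (i' a) = i (f a)) (a : A') :
    j (Dyn.conv3 k A' g' h' i' a) = Dyn.conv3 k A g h i (f a) := by
  simp only [Dyn.conv3, AlgHom.comp_apply, Bialgebra.comulAlgHom_apply, hΔ]
  induction comul (R := k) a using TensorProduct.induction_on with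
  | zero => simp
  | add r s hr hs => simp only [map_add, hr, hs]
  | tmul r s =>
    simp only [TensorProduct.map_tmul, Algebra.TensorProduct.map_tmul, AlgHom.toLinearMap_apply, AlgHom.id_apply,
      AlgHom.comp_apply, Bialgebra.comulAlgHom_apply, hΔ, Algebra.TensorProduct.lmul'_apply_tmul, map_mul, hi]
    congr 1
    induction comul (R := k) r using TensorProduct.induction_on with
    | zero => simp
    | add p q hp hq => simp only [map_add, hp, hq]
    | tmul p q => simp [hg, hh]

theorem isNormal_comap {A' : Type u} [CommRing A'] [HopfAlgebra k A'] (f : A' →ₐ[k] A) (hf : Function.Injective f)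
    (hΔ : ∀ a, comul (R := k) (f a) = TensorProduct.map f.toLinearMap f.toLinearMap (comul (R := k) a))
    (hS : ∀ a, HopfAlgebraStruct.antipode (R := k) (f a) = f (HopfAlgebraStruct.antipode (R := k) a))
    (hI : SGA3.IsNormalHopfIdeal k A I) : SGA3.IsNormalHopfIdeal k A' (I.comap f) := by
  intro R _ _ g h hh a ha
  let H' := A' ⧸ I.comap f
  let π' : A' →ₐ[k] H' := Ideal.Quotient.mkₐ k (I.comap f)
  let π : A →ₐ[k] A ⧸ I := Ideal.Quotient.mkₐ k I
  let fb : H' →ₐ[k] A ⧸ I := Ideal.quotientMapₐ I f le_rfl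
  have hfb : Function.Injective fb := Ideal.quotientMap_injective
  let g' : A' →ₐ[k] A' ⊗[k] H' := Algebra.TensorProduct.includeLeft
  let h' : A' →ₐ[k] A' ⊗[k] H' := (Algebra.TensorProduct.includeRight : H' →ₐ[k] A' ⊗[k] H').comp π'
  let gA : A →ₐ[k] A ⊗[k] (A ⧸ I) := Algebra.TensorProduct.includeLeft
  let hA : A →ₐ[k] A ⊗[k] (A ⧸ I) := (Algebra.TensorProduct.includeRight : A ⧸ I →ₐ[k] A ⊗[k] (A ⧸ I)).comp π
  have hj : Function.Injective (Algebra.TensorProduct.map f fb) :=
    Lib.Hopf.SubStruct.map_val_injective f hf fb hfb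
  have huniv : Dyn.conv3 k A' g' h' (g'.comp (HopfAlgebra.antipodeAlgHom k A')) a = 0 := by
    apply hj
    rw [map_zero, conv3_natural f hΔ (Algebra.TensorProduct.map f fb) gA hA (gA.comp (HopfAlgebra.antipodeAlgHom k A))
      g' h' _ (fun b => by simp [g', gA]) (fun b => by simp [h', hA, π, π', fb]; rfl)
      (fun b => by simp [g', gA, hS]) a]
    exact hI _ gA hA (fun b hb => by
      change Algebra.TensorProduct.includeRight (π b) = 0
      rw [show π b = 0 from Ideal.Quotient.eq_zero_iff_mem.2 hb, map_zero]) (f a) ha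
  let hb : H' →ₐ[k] R := Ideal.Quotient.liftₐ (I.comap f) h hh
  let ev : A' ⊗[k] H' →ₐ[k] R := Algebra.TensorProduct.lift g hb (fun _ _ => Commute.all _ _)
  have := congrArg ev huniv
  rw [map_zero, conv3_natural (AlgHom.id k A') (fun b => by simp [TensorProduct.map_id]) ev g h
    (g.comp (HopfAlgebra.antipodeAlgHom k A')) g' h' (g'.comp (HopfAlgebra.antipodeAlgHom k A'))
    (fun b => by simp [ev, g']) (fun b => by simp [ev, h', hb, π']; rfl) (fun b => by simp [ev, g']) a] at this
  exact this

theorem le_augIdealSpan_coinv [I.IsHopfIdeal k] (hI : SGA3.IsNormalHopfIdeal k A I) :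
    I ≤ SGA3.augIdealSpan k A (coinv k I) := by
  intro x hx
  obtain ⟨B, hxB, hfg, hB⟩ := Lib.Hopf.SubHopf.exists_fg_hopfSubalgebra (k := k) ({x} : Finset A)
  let _ := Lib.Hopf.SubStruct.subHopf hB
  have : Algebra.FiniteType k B := (Subalgebra.fg_iff_finiteType B).1 hfg
  have hΔ : ∀ a : B, comul (R := k) (B.val a) =
      TensorProduct.map B.val.toLinearMap B.val.toLinearMap (comul (R := k) a) := fun a =>
    (Lib.Hopf.SubStruct.map_subComul hB a).symm
  have hS : ∀ a : B, HopfAlgebraStruct.antipode (R := k) (B.val a) = B.val (HopfAlgebraStruct.antipode (R := k) a) :=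
    fun a => rfl
  have : (I.comap B.val).IsHopfIdeal k :=
    isHopfIdeal_comap B.val Subtype.val_injective hΔ (fun _ => rfl) hS
  obtain ⟨T, hT, hT'⟩ := exists_invariants (I.comap B.val) (isNormal_comap B.val Subtype.val_injective hΔ hS hI)
  let fb : (B ⧸ I.comap B.val) →ₐ[k] A ⧸ I := Ideal.quotientMapₐ I B.val le_rfl
  have hmem : I.comap B.val ≤ (SGA3.augIdealSpan k A (coinv k I)).comap B.val := hT' _ fun u hu => by
    refine Ideal.mem_comap.2 (Ideal.subset_span ⟨sub_mem ?_ (Subalgebra.algebraMap_mem _ _), ?_⟩)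
    · rw [mem_coinv_iff]
      have h1 := congrArg (TensorProduct.map B.val.toLinearMap fb.toLinearMap) (hT u hu)
      rw [TensorProduct.map_tmul, AlgHom.toLinearMap_apply, AlgHom.toLinearMap_apply, map_one] at h1
      change _ = B.val u ⊗ₜ[k] (1 : A ⧸ I)
      rw [← h1]
      change (Ideal.Quotient.mkₐ k I).toLinearMap.lTensor A (comul (R := k) (B.val u)) = _
      rw [hΔ]
      induction comul (R := k) u using TensorProduct.induction_on with
      | zero => simp
      | add r s hr hs => simp only [map_add, hr, hs]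
      | tmul r s => rfl
    · change Bialgebra.counitAlgHom k A (B.val u - algebraMap k A (counit (R := k) u)) = 0
      rw [map_sub, AlgHom.commutes, Algebra.algebraMap_self, RingHom.id_apply, Bialgebra.counitAlgHom_apply]
      exact sub_self _
  exact hmem (show (⟨x, hxB (Finset.mem_singleton_self x)⟩ : B) ∈ I.comap B.val from hx)

end

end Groth.Agent.Lib.GrpQ.SemiInv
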