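import Groth.Prelude.Def_AlgGrp
import Groth.Agent.H1.Hopf
import Groth.Agent.Lib.RedPts.Points
import Groth.Agent.Lib.GrpQ.Coinv
import Groth.Agent.Lib.GrpQ.Desc
import Groth.Agent.H66.ExactSeq
import Groth.Agent.Lib.Hopf.FaithfullyFlat

/-!
The quotient of an affine algebraic group by a normal closed subgroup is affine.
-/

set_option autoImplicit false

universe u

open CategoryTheory Limits MonoidalCategory CartesianMonoidalCategory MonObj AlgebraicGeometry
open WithConv TensorProduct
open Groth.Agent.Lib.RedPts.Points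

namespace Groth.Agent.Lib.GrpQ.AffQ

noncomputable section

attribute [local instance] baseAlgebra

variable {k : Type u} [Field k]

variable (k) in
/-- The scheme of an algebra. -/
abbrev sp (A : Type u) [CommRing A] [Algebra k A] : Over (Spec (CommRingCat.of k)) :=
  (Spec (CommRingCat.of A)).asOver (Spec (CommRingCat.of k))

variable {A C : Type u} [CommRing A] [HopfAlgebra k A] [CommRing C] [HopfAlgebra k C]

instance : IsAffine (sp k A).left := inferInstanceAs (IsAffine (Spec (CommRingCat.of A)))

section Hom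

/-- The homomorphism of group schemes of a map of Hopf algebras. -/
def homOfBialgHom (f : A →ₐc[k] C) : sp k C ⟶ sp k A :=
  ((hopfSpec (CommRingCat.of k)).map (CommHopfAlgCat.ofHom f).op).hom.hom

instance isMonHom_homOfBialgHom (f : A →ₐc[k] C) : IsMonHom (homOfBialgHom f) :=
  ((hopfSpec (CommRingCat.of k)).map (CommHopfAlgCat.ofHom f).op).hom.isMonHom_hom

theorem homOfBialgHom_left (f : A →ₐc[k] C) :
    (homOfBialgHom f).left = Spec.map (CommRingCat.ofHom (f : A →+* C)) := rfl

theorem algHomOf_comp {W : Over (Spec (CommRingCat.of k))} (x : W ⟶ sp k C) (j : sp k C ⟶ sp k A)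
    (f : A →ₐ[k] C) (hj : j.left = Spec.map (CommRingCat.ofHom f.toRingHom)) (a : A) :
    algHomOf (x ≫ j) a = algHomOf x (f a) := by
  show ((Scheme.ΓSpecIso (CommRingCat.of A)).inv ≫ (x ≫ j).left.appTop).hom a =
    ((Scheme.ΓSpecIso (CommRingCat.of C)).inv ≫ x.left.appTop).hom (f a)
  have h : (Scheme.ΓSpecIso (CommRingCat.of A)).inv ≫ (x ≫ j).left.appTop =
      CommRingCat.ofHom f.toRingHom ≫ (Scheme.ΓSpecIso (CommRingCat.of C)).inv ≫ x.left.appTop := by
    rw [Over.comp_left, Scheme.Hom.comp_appTop, hj]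
    exact (Scheme.ΓSpecIso_inv_naturality_assoc (CommRingCat.ofHom f.toRingHom) _).symm
  rw [h]
  rfl

end Hom

/-- The data of a normal closed subgroup of an affine group. -/
theorem exists_data (N : Over (Spec (CommRingCat.of k))) [GrpObj N] (i : N ⟶ sp k A) [IsMonHom i]
    [IsClosedImmersion i.left] (hN : AlgGrp.IsNormalHom i) :
    ∃ (I : Ideal A) (_ : I.IsHopfIdeal k), SGA3.IsNormalHopfIdeal k A I ∧
      ∀ (T : Over (Spec (CommRingCat.of k))) (x : T ⟶ sp k A),
        (∃ n : T ⟶ N, n ≫ i = x) ↔ ∀ a ∈ I, algHomOf x a = 0 := by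
  have : IsAffine N.left := isAffine_of_isAffineHom i.left
  obtain ⟨C, _, _, e, he⟩ := H1.Hopf.exists_iso N
  let j : sp k C ⟶ sp k A := e.inv ≫ i
  have : IsClosedImmersion j.left := by
    change IsClosedImmersion (e.inv.left ≫ i.left)
    infer_instance
  have hnj : ∀ (T : Over (Spec (CommRingCat.of k))) (g : T ⟶ sp k A) (n : T ⟶ sp k C),
      ∃ n' : T ⟶ sp k C, g * (n ≫ j) * g⁻¹ = n' ≫ j := by
    intro T g n
    obtain ⟨n', h⟩ := hN T g (n ≫ e.inv)
    exact ⟨n' ≫ e.hom, by simpa [j, Category.assoc] using h⟩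
  let f : A →ₐ[k] C := (Spec.mapMulEquiv (R := k) (S := A) (T := C)).symm j |>.ofConv
  have hj : j.left = Spec.map (CommRingCat.ofHom f.toRingHom) := by
    conv_lhs => rw [← (Spec.mapMulEquiv (R := k) (S := A) (T := C)).apply_symm_apply j]
    rfl
  have hf : Function.Surjective f := by
    obtain ⟨-, h⟩ := IsClosedImmersion.isAffine_surjective_of_isAffine j.left
    rw [hj] at h
    intro c
    have h' : Function.Surjective (Spec.map (CommRingCat.ofHom f.toRingHom)).appTop := h
    obtain ⟨y, hy⟩ := h' ((Scheme.ΓSpecIso (CommRingCat.of C)).inv c)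
    refine ⟨(Scheme.ΓSpecIso (CommRingCat.of A)).hom y, ?_⟩
    have h2 := ConcreteCategory.congr_hom (Scheme.ΓSpecIso_naturality (CommRingCat.ofHom f.toRingHom)) y
    simp only [ConcreteCategory.comp_apply] at h2
    rw [hy] at h2
    simpa using h2.symm
  -- composition with `f` respects convolution
  have hmul : ∀ (T : Type u) [CommRing T] [Algebra k T] (h h' : WithConv (C →ₐ[k] T)),
      toConv ((h * h').ofConv.comp f) = toConv (h.ofConv.comp f) * toConv (h'.ofConv.comp f) := by
    intro T _ _ h h'
    have e1 : ∀ x : WithConv (C →ₐ[k] T),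
        Spec.mapMulEquiv (toConv (x.ofConv.comp f)) = Spec.mapMulEquiv x ≫ j := fun x => by
      ext1
      rw [Over.comp_left, hj]
      change Spec.map _ = Spec.map _ ≫ Spec.map _
      rw [← Spec.map_comp]
      rfl
    apply (Spec.mapMulEquiv (R := k) (S := A) (T := T)).injective
    rw [map_mul, e1, e1, e1, map_mul, MonObj.mul_comp]
  have hone : ∀ (T : Type u) [CommRing T] [Algebra k T],
      toConv ((1 : WithConv (C →ₐ[k] T)).ofConv.comp f) = 1 := by
    intro T _ _
    apply (Spec.mapMulEquiv (R := k) (S := A) (T := T)).injective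
    rw [map_one]
    have e1 : Spec.mapMulEquiv (toConv ((1 : WithConv (C →ₐ[k] T)).ofConv.comp f)) =
        Spec.mapMulEquiv (1 : WithConv (C →ₐ[k] T)) ≫ j := by
      ext1
      rw [Over.comp_left, hj]
      change Spec.map _ = Spec.map _ ≫ Spec.map _
      rw [← Spec.map_comp]
      rfl
    rw [e1, map_one, MonObj.one_comp]
  let I : Ideal A := RingHom.ker f
  have hε : ∀ a, CoalgebraStruct.counit (R := k) (f a) = CoalgebraStruct.counit (R := k) a := fun a => by
    have := congrArg (fun x : WithConv (A →ₐ[k] k) => x a) (hone k)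
    simpa using this
  have hΔ : ∀ a, CoalgebraStruct.comul (R := k) (f a) =
      TensorProduct.map f.toLinearMap f.toLinearMap (CoalgebraStruct.comul (R := k) a) := fun a => by
    let iL : WithConv (C →ₐ[k] C ⊗[k] C) := toConv Algebra.TensorProduct.includeLeft
    let iR : WithConv (C →ₐ[k] C ⊗[k] C) := toConv Algebra.TensorProduct.includeRight
    have h := congrArg (fun x : WithConv (A →ₐ[k] C ⊗[k] C) => x a) (hmul _ iL iR)
    simp only at h
    rw [AlgHom.convMul_apply] at h
    change (iL * iR) (f a) = _ at h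
    rw [AlgHom.convMul_apply] at h
    have e1 : ∀ z : C ⊗[k] C, Algebra.TensorProduct.lift iL.ofConv iR.ofConv (fun _ _ => Commute.all _ _) z = z := by
      intro z
      induction z using TensorProduct.induction_on with
      | zero => simp
      | add r s hr hs => simp only [map_add, hr, hs]
      | tmul r s => simp [iL, iR]
    rw [e1] at h
    refine h.trans ?_
    induction CoalgebraStruct.comul (R := k) a using TensorProduct.induction_on with
    | zero => simp
    | add r s hr hs => simp only [map_add, hr, hs]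
    | tmul r s => simp [iL, iR]
  have hS : ∀ a, f (HopfAlgebraStruct.antipode (R := k) a) = HopfAlgebraStruct.antipode (R := k) (f a) := fun a => by
    have h1 : toConv (f.comp (HopfAlgebra.antipodeAlgHom k A)) * toConv f = (1 : WithConv (A →ₐ[k] C)) := by
      have h := AlgHom.comp_convMul_distrib f (toConv (HopfAlgebra.antipodeAlgHom k A)) (toConv (AlgHom.id k A))
      rw [AlgHom.antipode_id_cancel] at h
      apply WithConv.ofConv_injective
      simp only [AlgHom.comp_id] at h
      rw [← h]
      ext x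
      simp
    have h2 : toConv ((HopfAlgebra.antipodeAlgHom k C).comp f) * toConv f = (1 : WithConv (A →ₐ[k] C)) := by
      have h := hmul C (toConv (HopfAlgebra.antipodeAlgHom k C)) (toConv (AlgHom.id k C))
      rw [AlgHom.antipode_id_cancel, hone] at h
      exact h.symm
    have h3 := mul_right_cancel (h1.trans h2.symm)
    exact AlgHom.congr_fun (congrArg WithConv.ofConv h3) a
  have hI : I.IsHopfIdeal k := by
    have hco : (I.restrictScalars k).IsCoideal := by
      refine ⟨fun x hx => ?_, fun x hx => ?_⟩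
      · rw [← hε, show f x = 0 from hx, map_zero]
      · let fb : A ⧸ I.restrictScalars k →ₗ[k] C := Submodule.liftQ _ f.toLinearMap fun a ha => ha
        have hfb : Function.Injective fb := by
          refine LinearMap.ker_eq_bot.1 (LinearMap.ker_eq_bot'.2 fun y hy => ?_)
          obtain ⟨a, rfl⟩ := Submodule.Quotient.mk_surjective _ y
          exact (Submodule.Quotient.mk_eq_zero _).2 hy
        have hinj : Function.Injective (TensorProduct.map fb fb) := by
          rw [← LinearMap.rTensor_comp_lTensor, LinearMap.coe_comp]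
          exact (Module.Flat.rTensor_preserves_injective_linearMap _ hfb).comp
            (Module.Flat.lTensor_preserves_injective_linearMap _ hfb)
        apply hinj
        rw [map_zero]
        have h0 := hΔ x
        rw [show f x = 0 from hx, map_zero] at h0
        rw [h0]
        generalize CoalgebraStruct.comul (R := k) x = z
        induction z using TensorProduct.induction_on with
        | zero => simp
        | add r s hr hs => simp only [map_add, hr, hs]
        | tmul r s => rfl
    exact { toIsCoideal := hco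
            antipode_mem := fun x hx => by
              rw [RingHom.mem_ker, hS, show f x = 0 from hx, map_zero] }
  refine ⟨I, hI, ?_, fun T x => ?_⟩
  · intro T _ _ g h hh a ha
    let h' : C →ₐ[k] T := AlgHom.liftOfSurjective f hf h hh
    have hh' : h'.comp f = h := AlgHom.liftOfSurjective_comp f hf h hh
    obtain ⟨n', hn'⟩ := hnj (sp k T) (Spec.mapMulEquiv (toConv g)) (Spec.mapMulEquiv (toConv h'))
    obtain ⟨h'', rfl⟩ := (Spec.mapMulEquiv (R := k) (S := C) (T := T)).surjective n'
    have e1 : ∀ x : WithConv (C →ₐ[k] T),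
        Spec.mapMulEquiv (toConv (x.ofConv.comp f)) = Spec.mapMulEquiv x ≫ j := fun x => by
      ext1
      rw [Over.comp_left, hj]
      change Spec.map _ = Spec.map _ ≫ Spec.map _
      rw [← Spec.map_comp]
      rfl
    have hinv : (Spec.mapMulEquiv (toConv g))⁻¹ =
        Spec.mapMulEquiv (toConv (g.comp (HopfAlgebra.antipodeAlgHom k A))) := by
      refine inv_eq_of_mul_eq_one_left ?_
      rw [← map_mul]
      have h := AlgHom.comp_convMul_distrib g (toConv (HopfAlgebra.antipodeAlgHom k A)) (toConv (AlgHom.id k A))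
      rw [AlgHom.antipode_id_cancel] at h
      simp only [AlgHom.comp_id] at h
      refine Eq.trans ?_ (map_one (Spec.mapMulEquiv (R := k) (S := A) (T := T)))
      congr 1
      apply WithConv.ofConv_injective
      rw [← h]
      ext x
      simp
    rw [← e1, ← e1, hinv, ← map_mul, ← map_mul, hh', toConv_ofConv] at hn'
    have := (Spec.mapMulEquiv (R := k) (S := A) (T := T)).injective hn'
    rw [← Lib.Hopf.Conv3.conv3_eq] at this
    have h3 := congrArg WithConv.ofConv this
    rw [show Dyn.conv3 k A g h (g.comp (HopfAlgebra.antipodeAlgHom k A)) = _ from h3]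
    simp [show f a = 0 from ha]
  · constructor
    · rintro ⟨n, rfl⟩ a ha
      rw [show n ≫ i = (n ≫ e.hom) ≫ j by simp [j], algHomOf_comp _ j f hj, show f a = 0 from ha, map_zero]
    · intro h
      let y : T ⟶ sp k C := pointOf (AlgHom.liftOfSurjective f hf (algHomOf x) h)
      refine ⟨y ≫ e.inv, ?_⟩
      apply algHomOf_injective
      ext a
      rw [show (y ≫ e.inv) ≫ i = y ≫ j by simp [j], algHomOf_comp _ j f hj, algHomOf_pointOf]
      exact AlgHom.congr_fun (AlgHom.liftOfSurjective_comp f hf (algHomOf x) h) a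

/-- The affine quotient. -/
theorem exists_quotient [Algebra.FiniteType k A] (N : Over (Spec (CommRingCat.of k))) [GrpObj N]
    (i : N ⟶ sp k A) [IsMonHom i] [IsClosedImmersion i.left] (hN : AlgGrp.IsNormalHom i) :
    ∃ (Q : Over (Spec (CommRingCat.of k))) (_ : GrpObj Q) (q : sp k A ⟶ Q), IsMonHom q ∧ IsAffine Q.left ∧
      LocallyOfFiniteType Q.hom ∧ Flat q.left ∧ Surjective q.left ∧ AlgGrp.IsKernel i q := by
  classical
  obtain ⟨I, _, hI, hpts⟩ := exists_data N i hN
  obtain ⟨T, hT, hT'⟩ := SemiInv.exists_invariants I hI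
  let B := SemiInv.coinv k I
  have hB : SGA3.IsHopfSubalgebra k A B := SemiInv.isHopfSubalgebra_coinv hI
  let _ : HopfAlgebra k B := Lib.Hopf.SubStruct.subHopf hB
  let s : Finset B := T.attach.image fun x => ⟨x.1, hT x.1 x.2⟩
  obtain ⟨B₀, hsB₀, hfg₀, hB₀⟩ := Lib.Hopf.SubHopf.exists_fg_hopfSubalgebra (k := k) s
  let B₁ : Subalgebra k A := B₀.map B.val
  have hB₁ : SGA3.IsHopfSubalgebra k A B₁ := by
    refine ⟨?_, ?_⟩
    · rintro _ ⟨b, hb, rfl⟩
      obtain ⟨z, hz⟩ := hB₀.1 b hb
      let r : B₀ →ₐ[k] B₁ := (B.val.comp B₀.val).codRestrict B₁ fun x => ⟨x, x.2, rfl⟩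
      refine ⟨TensorProduct.map r.toLinearMap r.toLinearMap z, ?_⟩
      have h1 := Lib.Hopf.SubStruct.map_subComul hB b
      rw [Bialgebra.comulAlgHom_apply] at h1
      refine Eq.trans ?_ h1
      change _ = Algebra.TensorProduct.map B.val B.val (CoalgebraStruct.comul (R := k) b)
      rw [← hz]
      clear hz
      induction z using TensorProduct.induction_on with
      | zero => simp
      | add r s hr hs => simp only [map_add, hr, hs]
      | tmul r s => rfl
    · rintro _ ⟨b, hb, rfl⟩
      exact ⟨_, hB₀.2 b hb, rfl⟩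
  have hfg : B₁.FG := hfg₀.map _
  have hle : I ≤ Ideal.span {a | a ∈ B₁ ∧ CoalgebraStruct.counit (R := k) a = 0} := hT' _ fun u hu => by
    refine Ideal.subset_span ⟨sub_mem ?_ (Subalgebra.algebraMap_mem _ _), ?_⟩
    · exact ⟨⟨u, hT u hu⟩, hsB₀ (Finset.mem_image.2 ⟨⟨u, hu⟩, Finset.mem_attach _ _, rfl⟩), rfl⟩
    · change Bialgebra.counitAlgHom k A (u - algebraMap k A (CoalgebraStruct.counit (R := k) u)) = 0
      rw [map_sub, AlgHom.commutes, Algebra.algebraMap_self, RingHom.id_apply, Bialgebra.counitAlgHom_apply]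
      exact sub_self _
  let _ : HopfAlgebra k B₁ := Lib.Hopf.SubStruct.subHopf hB₁
  have : Algebra.FiniteType k B₁ := (Subalgebra.fg_iff_finiteType B₁).1 hfg
  let v : B₁ →ₐc[k] A := BialgHom.ofAlgHom B₁.val (AlgHom.ext fun _ => rfl)
    (AlgHom.ext fun b => Lib.Hopf.SubStruct.map_subComul hB₁ b)
  have hff : Module.FaithfullyFlat B₁ A := Lib.Hopf.FaithfullyFlat.faithfullyFlat hB₁
  have hr : (v : B₁ →+* A).FaithfullyFlat := RingHom.faithfullyFlat_algebraMap_iff.2 hff
  refine ⟨sp k B₁, inferInstance, homOfBialgHom v, inferInstance, inferInstanceAs (IsAffine (Spec _)), ?_, ?_, ?_, ?_⟩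
  · exact locallyOfFiniteType_specOverSpec (R := CommRingCat.of k) (A := CommRingCat.of B₁)
  · rw [homOfBialgHom_left]
    exact (HasRingHomProperty.Spec_iff (P := @Flat)).2 hr.flat
  · rw [homOfBialgHom_left]
    constructor
    exact (RingHom.FaithfullyFlat.iff_flat_and_comap_surjective.1 hr).2
  · have hmono : Mono i := GrpQ.mono_of_left i
    refine GrpQ.isKernel_of i ?_ fun W x hx => (hpts W x).2 fun a ha => ?_
    · apply algHomOf_injective
      refine AlgHom.ext fun b => ?_
      rw [algHomOf_comp i _ v rfl, algHomOf_one]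
      have hb : (v b : A) ∈ B := by
        obtain ⟨c, -, hc⟩ := b.2
        rw [show (v b : A) = (c : A) from hc.symm]
        exact c.2
      have h1 := (hpts N i).1 ⟨𝟙 N, Category.id_comp i⟩ _ (SemiInv.sub_counit_mem_of_coinv hb)
      rw [map_sub, sub_eq_zero, AlgHom.commutes] at h1
      exact h1
    · have h1 : Ideal.span {a : A | a ∈ B₁ ∧ CoalgebraStruct.counit (R := k) a = 0} ≤ RingHom.ker (algHomOf x) := by
        rw [Ideal.span_le]
        rintro b ⟨hb, hb0⟩
        have h2 := congrArg (fun z => algHomOf z (⟨b, hb⟩ : B₁)) hx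
        rw [algHomOf_comp x (homOfBialgHom v) (v : B₁ →ₐ[k] A) rfl, algHomOf_one] at h2
        refine h2.trans ?_
        rw [show Coalgebra.counit (R := k) (⟨b, hb⟩ : B₁) = CoalgebraStruct.counit (R := k) b from rfl, hb0, map_zero]
      exact h1 (hle ha)

end

end Groth.Agent.Lib.GrpQ.AffQ
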