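import Groth.Prelude.Def_RedSub
import Groth.Agent.Lib.GrpQ.FfMonoGrp
import Groth.Agent.Lib.Flat55.FlatDescend
import Groth.Agent.H14.FppfDesc.Scheme

/-!
The third isomorphism theorem for fppf quotients of group schemes.
-/

set_option autoImplicit false
set_option linter.style.haveILetI false

universe u

open CategoryTheory CategoryTheory.Limits MonoidalCategory CartesianMonoidalCategory MonObj GrpObj AlgebraicGeometry

namespace Groth.Agent.Lib.GrpQ.ThirdIso

open Groth.Agent.Lib.GrpQ.FfMono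

variable {S : Scheme.{u}} {H K G QH QK Kb X Y Z T : Over S}

theorem lift_mul [GrpObj G] (i : K ⟶ G) (g : T ⟶ G) (m : T ⟶ K) :
    lift g m ≫ (G ◁ i) ≫ μ[G] = g * (m ≫ i) := by
  rw [lift_whiskerLeft_assoc, Hom.mul_def]

theorem rel_iff [GrpObj G] {i : H ⟶ G} {q : G ⟶ QH} (hq : RedSub.IsQuotient i q) (g g' : T ⟶ G) :
    g ≫ q = g' ≫ q ↔ ∃ m : T ⟶ H, g' = g * (m ≫ i) := by
  refine ⟨fun h => ?_, fun ⟨m, hm⟩ => ?_⟩
  · refine ⟨hq.2.2.2.lift g g' h ≫ snd G H, ?_⟩
    have e : hq.2.2.2.lift g g' h = lift g (hq.2.2.2.lift g g' h ≫ snd G H) := by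
      apply CartesianMonoidalCategory.hom_ext
      · rw [lift_fst, hq.2.2.2.lift_fst]
      · rw [lift_snd]
    conv_lhs => rw [← hq.2.2.2.lift_snd g g' h, e, lift_mul]
  · rw [hm, ← lift_mul i g m, Category.assoc, ← hq.2.2.2.w, lift_fst_assoc]

/-- A point of the target of an fppf cover lifts after an fppf cover. -/
theorem exists_lift (q : X ⟶ Y) [Flat q.left] [Surjective q.left] [LocallyOfFinitePresentation q.left] (y : T ⟶ Y) :
    ∃ (T' : Over S) (c : T' ⟶ T) (x : T' ⟶ X), x ≫ q = c ≫ y ∧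
      Flat c.left ∧ Surjective c.left ∧ LocallyOfFinitePresentation c.left := by
  have sq := (IsPullback.of_hasPullback y q).map (Over.forget S)
  exact ⟨pullback y q, pullback.fst y q, pullback.snd y q, pullback.condition.symm,
    MorphismProperty.of_isPullback (P := @Flat) sq.flip ‹_›,
    MorphismProperty.of_isPullback (P := @Surjective) sq.flip ‹_›,
    MorphismProperty.of_isPullback (P := @LocallyOfFinitePresentation) sq.flip ‹_›⟩

theorem quotient_map [GrpObj H] [GrpObj K] [GrpObj G] [GrpObj Kb] {h : H ⟶ K} {k : K ⟶ G} [Mono k]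
    {qH : G ⟶ QH} (hqH : RedSub.IsQuotient (h ≫ k) qH) {qKb : K ⟶ Kb} (hqKb : RedSub.IsQuotient h qKb)
    {act : QH ⊗ Kb ⟶ QH} (hact : (qH ⊗ₘ qKb) ≫ act = (G ◁ k) ≫ μ[G] ≫ qH) [IsMonHom k]
    {qK : G ⟶ QK} (hqK : RedSub.IsQuotient k qK) {qbar : QH ⟶ QK} (hbar : qH ≫ qbar = qK) :
    Surjective qbar.left ∧ Flat qbar.left ∧ LocallyOfFinitePresentation qbar.left ∧
      IsPullback (fst QH Kb) act qbar qbar := by
  have hkey : ∀ {U : Over S} (g : U ⟶ G) (x : U ⟶ K),
      lift (g ≫ qH) (x ≫ qKb) ≫ act = (g * (x ≫ k)) ≫ qH := fun g x => by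
    rw [← lift_map, Category.assoc, hact, ← Category.assoc (G ◁ k), ← Category.assoc, lift_mul]
  haveI := hqH.1; haveI := hqH.2.1; haveI := hqH.2.2.1
  haveI := hqKb.1; haveI := hqKb.2.1; haveI := hqKb.2.2.1
  haveI := hqK.1; haveI := hqK.2.1; haveI := hqK.2.2.1
  haveI : Surjective (qH.left ≫ qbar.left) := by rw [← Over.comp_left, hbar]; infer_instance
  haveI : Flat (qH.left ≫ qbar.left) := by rw [← Over.comp_left, hbar]; infer_instance
  haveI hs : Surjective qbar.left := Surjective.of_comp qH.left qbar.left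
  haveI hf : Flat qbar.left := Flat55.FlatDescend.flat_of_comp qH.left qbar.left
  have hl : LocallyOfFinitePresentation qbar.left :=
    H14.FppfDesc.Scheme.locallyOfFinitePresentation_of_comp qH.left qbar.left (by
      rw [← Over.comp_left, hbar]; infer_instance)
  refine ⟨hs, hf, hl, ?_⟩
  haveI : Flat (qH ⊗ₘ qKb).left := GrpSch.tensorHom_left_of (P := @Flat) qH qKb hqH.2.1 hqKb.2.1
  haveI : Surjective (qH ⊗ₘ qKb).left := GrpSch.tensorHom_left_of (P := @Surjective) qH qKb hqH.1 hqKb.1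
  haveI : LocallyOfFinitePresentation (qH ⊗ₘ qKb).left :=
    GrpSch.tensorHom_left_of (P := @LocallyOfFinitePresentation) qH qKb hqH.2.2.1 hqKb.2.2.1
  have hw : fst QH Kb ≫ qbar = act ≫ qbar := cancel_over (qH ⊗ₘ qKb) (by
    rw [← Category.assoc, tensorHom_fst, Category.assoc, hbar, ← Category.assoc, hact, Category.assoc,
      Category.assoc, hbar]
    exact hqK.2.2.2.w.trans (Category.assoc _ _ _))
  -- uniqueness
  have huniq : ∀ {U : Over S} (n n' : U ⟶ QH ⊗ Kb), n ≫ fst QH Kb = n' ≫ fst QH Kb → n ≫ act = n' ≫ act →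
      n = n' := by
    intro U n n' h1 h2
    obtain ⟨U₁, c₁, g, hg, _, _, _⟩ := exists_lift qH (n ≫ fst QH Kb)
    obtain ⟨U₂, c₂, x, hx, _, _, _⟩ := exists_lift qKb (c₁ ≫ n ≫ snd QH Kb)
    obtain ⟨U₃, c₃, x', hx', _, _, _⟩ := exists_lift qKb (c₂ ≫ c₁ ≫ n' ≫ snd QH Kb)
    let c := c₃ ≫ c₂ ≫ c₁
    have e1 : c ≫ n = lift ((c₃ ≫ c₂ ≫ g) ≫ qH) ((c₃ ≫ x) ≫ qKb) := by
      apply CartesianMonoidalCategory.hom_ext
      · simp only [c, Category.assoc, lift_fst, hg]
      · simp only [c, Category.assoc, lift_snd, hx]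
    have e2 : c ≫ n' = lift ((c₃ ≫ c₂ ≫ g) ≫ qH) (x' ≫ qKb) := by
      apply CartesianMonoidalCategory.hom_ext
      · simp only [c, Category.assoc, lift_fst, hg, h1]
      · simp only [c, Category.assoc, lift_snd, hx']
    have h3 : ((c₃ ≫ c₂ ≫ g) * ((c₃ ≫ x) ≫ k)) ≫ qH = ((c₃ ≫ c₂ ≫ g) * (x' ≫ k)) ≫ qH := by
      rw [← hkey, ← hkey, ← e1, ← e2]
      simp only [Category.assoc, h2]
    obtain ⟨m, hm⟩ := (rel_iff hqH _ _).1 h3
    rw [_root_.mul_assoc, mul_left_cancel_iff, ← Category.assoc m h k, ← MonObj.mul_comp, cancel_mono] at hm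
    have h4 : (c₃ ≫ x) ≫ qKb = x' ≫ qKb := (rel_iff hqKb _ _).2 ⟨m, hm⟩
    refine cancel_over c₁ (cancel_over c₂ (cancel_over c₃ ?_))
    calc c₃ ≫ c₂ ≫ c₁ ≫ n = c ≫ n := by simp only [c, Category.assoc]
      _ = c ≫ n' := by rw [e1, e2, h4]
      _ = c₃ ≫ c₂ ≫ c₁ ≫ n' := by simp only [c, Category.assoc]
  -- existence
  have hex : ∀ {U : Over S} (a b : U ⟶ QH), a ≫ qbar = b ≫ qbar →
      ∃ n : U ⟶ QH ⊗ Kb, n ≫ fst QH Kb = a ∧ n ≫ act = b := by
    intro U a b hab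
    obtain ⟨U₁, c₁, g, hg, _, _, _⟩ := exists_lift qH a
    obtain ⟨U₂, c₂, g', hg', _, _, _⟩ := exists_lift qH (c₁ ≫ b)
    let c := c₂ ≫ c₁
    haveI : Flat c.left := inferInstanceAs (Flat (c₂.left ≫ c₁.left))
    haveI : Surjective c.left := inferInstanceAs (Surjective (c₂.left ≫ c₁.left))
    haveI : LocallyOfFinitePresentation c.left := inferInstanceAs (LocallyOfFinitePresentation (c₂.left ≫ c₁.left))
    have hga : (c₂ ≫ g) ≫ qH = c ≫ a := by simp only [c, Category.assoc, hg]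
    have hgb : g' ≫ qH = c ≫ b := by simp only [c, Category.assoc, hg']
    obtain ⟨x, hx⟩ := (rel_iff hqK (c₂ ≫ g) g').1 (by
      rw [← hbar, ← Category.assoc, hga, ← Category.assoc g', hgb, Category.assoc, hab, ← Category.assoc])
    let n' : U₂ ⟶ QH ⊗ Kb := lift (c ≫ a) (x ≫ qKb)
    have hn1 : n' ≫ fst QH Kb = c ≫ a := lift_fst _ _
    have hn2 : n' ≫ act = c ≫ b := by
      simp only [n']
      rw [← hga, hkey, ← hx, hgb]
    obtain ⟨n, hn⟩ := exists_desc_over c n' fun W y z e => huniq _ _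
      (by rw [Category.assoc, Category.assoc, hn1, reassoc_of% e])
      (by rw [Category.assoc, Category.assoc, hn2, reassoc_of% e])
    exact ⟨n, cancel_over c (by rw [reassoc_of% hn, hn1]), cancel_over c (by rw [reassoc_of% hn, hn2])⟩
  exact ⟨⟨hw⟩, ⟨PullbackCone.IsLimit.mk _ (fun s => (hex s.fst s.snd s.condition).choose)
    (fun s => (hex s.fst s.snd s.condition).choose_spec.1) (fun s => (hex s.fst s.snd s.condition).choose_spec.2)
    (fun s m h1 h2 => huniq _ _ (h1.trans (hex s.fst s.snd s.condition).choose_spec.1.symm)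
      (h2.trans (hex s.fst s.snd s.condition).choose_spec.2.symm))⟩⟩

theorem quotient_comp [GrpObj H] [GrpObj K] [GrpObj G] [GrpObj Kb] {h : H ⟶ K} {k : K ⟶ G} [Mono k] [IsMonHom k]
    {qH : G ⟶ QH} (hqH : RedSub.IsQuotient (h ≫ k) qH) {qKb : K ⟶ Kb} (hqKb : RedSub.IsQuotient h qKb)
    {act : QH ⊗ Kb ⟶ QH} (hact : (qH ⊗ₘ qKb) ≫ act = (G ◁ k) ≫ μ[G] ≫ qH)
    {p : QH ⟶ Y} (hs : Surjective p.left) (hf : Flat p.left) (hl : LocallyOfFinitePresentation p.left)
    (sq : IsPullback (fst QH Kb) act p p) : RedSub.IsQuotient k (qH ≫ p) := by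
  have hkey : ∀ {U : Over S} (g : U ⟶ G) (x : U ⟶ K),
      lift (g ≫ qH) (x ≫ qKb) ≫ act = (g * (x ≫ k)) ≫ qH := fun g x => by
    rw [← lift_map, Category.assoc, hact, ← Category.assoc (G ◁ k), ← Category.assoc, lift_mul]
  haveI := hqH.1; haveI := hqH.2.1; haveI := hqH.2.2.1
  haveI := hqKb.1; haveI := hqKb.2.1; haveI := hqKb.2.2.1
  haveI := hs; haveI := hf; haveI := hl
  have hw : fst G K ≫ qH ≫ p = ((G ◁ k) ≫ μ[G]) ≫ qH ≫ p := by
    rw [← Category.assoc, ← tensorHom_fst qH qKb, Category.assoc, sq.w, ← Category.assoc, hact, Category.assoc,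
      Category.assoc, Category.assoc]
  have hex : ∀ {U : Over S} (g g' : U ⟶ G), g ≫ qH ≫ p = g' ≫ qH ≫ p → ∃ y : U ⟶ K, y ≫ k = g⁻¹ * g' := by
    intro U g g' hg
    let r := sq.lift (g ≫ qH) (g' ≫ qH) (by rw [Category.assoc, Category.assoc, hg])
    obtain ⟨U₁, c, x, hx, _, _, _⟩ := exists_lift qKb (r ≫ snd QH Kb)
    have e : c ≫ r = lift ((c ≫ g) ≫ qH) (x ≫ qKb) := by
      apply CartesianMonoidalCategory.hom_ext
      · rw [lift_fst, Category.assoc, sq.lift_fst, Category.assoc]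
      · rw [lift_snd, hx, Category.assoc]
    obtain ⟨m, hm⟩ := (rel_iff hqH _ (c ≫ g')).1 (show ((c ≫ g) * (x ≫ k)) ≫ qH = (c ≫ g') ≫ qH by
      rw [← hkey, ← e, Category.assoc, sq.lift_snd, Category.assoc])
    exact exists_factor_over c k (x * (m ≫ h)) _ (by
      rw [MonObj.mul_comp, Category.assoc, MonObj.comp_mul, GrpObj.comp_inv, hm, _root_.mul_assoc,
        inv_mul_cancel_left])
  refine ⟨inferInstanceAs (Surjective (qH.left ≫ p.left)), inferInstanceAs (Flat (qH.left ≫ p.left)),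
    inferInstanceAs (LocallyOfFinitePresentation (qH.left ≫ p.left)), ⟨hw⟩,
    ⟨PullbackCone.IsLimit.mk _ (fun s => lift s.fst (hex s.fst s.snd s.condition).choose) (fun s => lift_fst _ _)
      (fun s => ?_) (fun s l h1 h2 => ?_)⟩⟩
  · rw [lift_mul, (hex s.fst s.snd s.condition).choose_spec, mul_inv_cancel_left]
  · have el : l = lift s.fst (l ≫ snd G K) := by
      apply CartesianMonoidalCategory.hom_ext
      · rw [lift_fst]; exact h1
      · rw [lift_snd]
    have h3 : s.fst * ((l ≫ snd G K) ≫ k) = s.snd := by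
      rw [← lift_mul, ← el, h2]
    rw [el]
    congr 1
    rw [← cancel_mono k, (hex s.fst s.snd s.condition).choose_spec, ← h3, inv_mul_cancel_left]

end Groth.Agent.Lib.GrpQ.ThirdIso
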