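import Groth.Agent.Lib.GrpSch.Orbit
import Groth.Agent.Lib.GrpSch.GeomPoints
import Groth.Agent.Lib.GrpSch.Translate
import Groth.Agent.Lib.GrpQ.Desc

/-!
A dominant homomorphism of algebraic groups over an algebraically closed field is surjective.
-/

set_option autoImplicit false

universe u

open CategoryTheory Limits MonoidalCategory CartesianMonoidalCategory MonObj AlgebraicGeometry

namespace Groth.Agent.Lib.GrpQ

variable {k : Type u} [Field k] {G H : Over (Spec (CommRingCat.of k))} [GrpObj G] [GrpObj H]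

/-- The action of the source on the target of a homomorphism. -/
noncomputable def homAct (f : G ⟶ H) [IsMonHom f] : AlgGrp.Action G H :=
  GrpSch.actionMk ((f ▷ H) ≫ μ[H])
    (fun T x => by rw [lift_whiskerRight_assoc, MonObj.one_comp, ← Hom.mul_def, _root_.one_mul])
    (fun T g h x => by
      simp only [lift_whiskerRight_assoc, MonObj.mul_comp, ← Hom.mul_def, _root_.mul_assoc])

theorem homAct_orbit (f : G ⟶ H) [IsMonHom f] : (homAct f).orbitMap η[H] = f := by
  rw [AlgGrp.Action.orbitMap]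
  change lift (𝟙 G) (toUnit G ≫ η[H]) ≫ (f ▷ H) ≫ μ[H] = f
  rw [lift_whiskerRight_assoc, Category.id_comp, ← Hom.mul_def, ← Hom.one_def, _root_.mul_one]

theorem surjective_of_denseRange [IsAlgClosed k] [LocallyOfFiniteType G.hom] [QuasiCompact G.hom]
    [LocallyOfFiniteType H.hom] [QuasiCompact H.hom] (f : G ⟶ H) [IsMonHom f]
    (hf : DenseRange f.left) : Surjective f.left := by
  have : IsLocallyNoetherian H.left := LocallyOfFiniteType.isLocallyNoetherian H.hom
  have : CompactSpace H.left := QuasiCompact.compactSpace_of_compactSpace H.hom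
  have : JacobsonSpace H.left := LocallyOfFiniteType.jacobsonSpace H.hom
  have := GrpSch.isSeparated_of_field H
  have : QuasiSeparatedSpace H.left := quasiSeparatedSpace_of_quasiSeparated H.hom
  have := locallyOfFiniteType_left f
  have := quasiCompact_left f
  obtain ⟨U, hU, hUeq⟩ := GrpSch.exists_open_orbit_eq (homAct f) η[H]
  rw [homAct_orbit, hf.closure_range, Set.inter_univ] at hUeq
  subst hUeq
  refine GrpSch.surjective_of_closedPoints f.left fun c hc => ?_
  let pc : 𝟙_ (Over (Spec (CommRingCat.of k))) ⟶ H :=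
    Over.homMk (pointOfClosedPoint H.hom c hc) (pointOfClosedPoint_comp H.hom c hc)
  let t := GrpSch.translate (GrpSch.regularAction H) pc
  let inv' : H ⟶ H := GrpObj.inv (X := H)
  have hii : inv' ≫ inv' = 𝟙 H := GrpObj.inv_comp_inv H
  have : IsIso inv' := ⟨inv', hii, hii⟩
  let sg : H ⟶ H := inv' ≫ t.hom
  have : IsIso sg.left := ((Over.forget _).mapIso (asIso sg)).isIso_hom
  have hne : (sg.left ⁻¹' Set.range f.left).Nonempty :=
    Set.Nonempty.preimage ⟨_, Set.mem_range_self (η[G].left (IsLocalRing.closedPoint k))⟩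
      sg.left.homeomorph.surjective
  have hpre : IsOpen (sg.left ⁻¹' Set.range f.left) := hU.preimage sg.left.continuous
  obtain ⟨w, hw1, hw2⟩ := hf.exists_mem_open hpre hne |> fun ⟨g, hg⟩ => (⟨f.left g, hg, g, rfl⟩ :
    ∃ w, w ∈ sg.left ⁻¹' Set.range f.left ∧ w ∈ Set.range f.left)
  obtain ⟨v, ⟨hv1, hv2⟩, hvc⟩ := nonempty_inter_closedPoints (X := H.left)
    (Z := sg.left ⁻¹' Set.range f.left ∩ Set.range f.left) ⟨w, hw1, hw2⟩ (hpre.inter hU).isLocallyClosed
  let pv : 𝟙_ (Over (Spec (CommRingCat.of k))) ⟶ H :=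
    Over.homMk (pointOfClosedPoint H.hom v hvc) (pointOfClosedPoint_comp H.hom v hvc)
  have lift_pt : ∀ (y : 𝟙_ (Over (Spec (CommRingCat.of k))) ⟶ H),
      y.left (IsLocalRing.closedPoint k) ∈ Set.range f.left → ∃ x, x ≫ f = y := fun y hy => by
    obtain ⟨x, hx⟩ := GrpSch.exists_point_mem (X := G) (W := f.left ⁻¹' {y.left (IsLocalRing.closedPoint k)})
      ((GrpSch.rational_isClosed y _).preimage f.left.continuous)
      (let ⟨g, hg⟩ := hy; ⟨g, hg⟩)
    exact ⟨x, Over.OverMorphism.ext (ext_of_apply_closedPoint_eq H.hom (Over.w _) (Over.w y)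
      (hx ⟨IsLocalRing.closedPoint k, rfl⟩))⟩
  obtain ⟨x, hx⟩ := lift_pt pv (by
    change pointOfClosedPoint H.hom v hvc _ ∈ _
    rwa [pointOfClosedPoint_apply])
  obtain ⟨x', hx'⟩ := lift_pt (pv ≫ sg) (by
    change sg.left (pointOfClosedPoint H.hom v hvc _) ∈ _
    rwa [pointOfClosedPoint_apply])
  have hsg : pv ≫ sg = pc * pv⁻¹ := by
    change pv ≫ inv' ≫ t.hom = _
    rw [← Category.assoc, GrpSch.translate_regular_apply]
    rfl
  refine ⟨(x' * x).left (IsLocalRing.closedPoint k), ?_⟩
  have : (x' * x) ≫ f = pc := by rw [MonObj.mul_comp, hx, hx', hsg, inv_mul_cancel_right]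
  rw [← Scheme.Hom.comp_apply, ← Over.comp_left, this]
  exact pointOfClosedPoint_apply H.hom c hc _

end Groth.Agent.Lib.GrpQ
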