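import Mathlib.RingTheory.Bialgebra.Convolution
import Mathlib.RingTheory.HopfAlgebra.Convolution
import Mathlib.RingTheory.Jacobson.Ring
import Mathlib.RingTheory.FiniteType
import Mathlib.RingTheory.Nullstellensatz
import Mathlib.FieldTheory.IsAlgClosed.Basic
import Mathlib.Algebra.CharP.Lemmas
import Mathlib.Algebra.CharP.Algebra
import Mathlib.LinearAlgebra.Dual.Lemmas
import Groth.Agent.Lib.Comod.Orbits2

/-!
Semi-invariant functions for a normal subgroup: if `m` is right semi-invariant with character `c`,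
some `φ` with `φ(1) = 1` is left semi-invariant with character a positive power of `c`.
-/

set_option autoImplicit false

universe u v w

open TensorProduct CoalgebraStruct WithConv

namespace Groth.Agent.Lib.GrpQ.SemiInv

noncomputable section

variable {k : Type u} [Field k] {A : Type v} [CommRing A] [Bialgebra k A]
variable {H : Type w} [CommRing H] [Algebra k H]

variable (A) in
/-- Contraction of the left leg. -/
def contrL (φ : H →ₗ[k] k) : H ⊗[k] A →ₗ[k] A :=
  (TensorProduct.lid k A).toLinearMap ∘ₗ φ.rTensor A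

@[simp] theorem contrL_tmul (φ : H →ₗ[k] k) (h : H) (a : A) : contrL A φ (h ⊗ₜ[k] a) = φ h • a := by
  simp [contrL]

/-- The left translate by a functional. -/
def tr (φ : A →ₗ[k] k) : A →ₗ[k] A := contrL A φ ∘ₗ comul

theorem tr_counit (x : A) : tr (counit (R := k) (A := A)) x = x := by
  simp [tr, contrL, Coalgebra.rTensor_counit_comul]

theorem tr_tr (a b : A →ₗ[k] k) (x : A) :
    tr a (tr b x) = tr (LinearMap.mul' k k ∘ₗ TensorProduct.map b a ∘ₗ comul) x := by
  have e1 : ∀ z : A ⊗[k] A, tr a (contrL A b z) =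
      contrL A (LinearMap.mul' k k ∘ₗ TensorProduct.map b a)
        ((TensorProduct.assoc k A A A).symm ((comul (R := k)).lTensor A z)) := by
    intro z
    induction z using TensorProduct.induction_on with
    | zero => simp
    | add p q hp hq => simp only [map_add, hp, hq]
    | tmul p q =>
      simp only [tr, contrL_tmul, map_smul, LinearMap.comp_apply, LinearMap.lTensor_tmul]
      induction comul (R := k) q using TensorProduct.induction_on with
      | zero => simp
      | add r s hr hs => simp only [map_add, smul_add, TensorProduct.tmul_add, hr, hs]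
      | tmul r s => simp [smul_smul]
  have e2 := e1 (comul (R := k) x)
  rw [Coalgebra.coassoc_symm_apply] at e2
  refine e2.trans ?_
  simp only [tr, LinearMap.comp_apply]
  induction comul (R := k) x using TensorProduct.induction_on with
  | zero => simp
  | add r s hr hs => simp only [map_add, hr, hs]
  | tmul r s => simp

theorem lTensor_comul_tr (π : A →ₐ[k] H) (φ : A →ₗ[k] k) (x : A) :
    π.toLinearMap.lTensor A (comul (R := k) (tr φ x)) =
      (tr φ).rTensor H (π.toLinearMap.lTensor A (comul (R := k) x)) := by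
  have e1 : ∀ z : A ⊗[k] A, π.toLinearMap.lTensor A (comul (R := k) (contrL A φ z)) =
      TensorProduct.map (contrL A φ) π.toLinearMap
        ((TensorProduct.assoc k A A A).symm ((comul (R := k)).lTensor A z)) := by
    intro z
    induction z using TensorProduct.induction_on with
    | zero => simp
    | add p q hp hq => simp only [map_add, hp, hq]
    | tmul p q =>
      simp only [contrL_tmul, map_smul, LinearMap.lTensor_tmul]
      induction comul (R := k) q using TensorProduct.induction_on with
      | zero => simp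
      | add r s hr hs => simp only [map_add, smul_add, TensorProduct.tmul_add, hr, hs]
      | tmul r s => simp [TensorProduct.smul_tmul']
  have e2 := e1 (comul (R := k) x)
  rw [Coalgebra.coassoc_symm_apply] at e2
  refine e2.trans ?_
  induction comul (R := k) x using TensorProduct.induction_on with
  | zero => simp
  | add r s hr hs => simp only [map_add, hr, hs]
  | tmul r s => simp [tr]

theorem eq_zero_of_forall_contrL {z : H ⊗[k] A} (h : ∀ ξ : H →ₗ[k] k, contrL A ξ z = 0) : z = 0 := by
  classical
  let b := Module.Free.chooseBasis k H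
  refine (TensorProduct.equivFinsuppOfBasisLeft b).injective (Finsupp.ext fun i => ?_)
  rw [map_zero, Finsupp.zero_apply, ← h (b.coord i)]
  clear h
  induction z using TensorProduct.induction_on with
  | zero => simp
  | add r s hr hs => simp only [map_add, Finsupp.add_apply, hr, hs]
  | tmul r s => simp

theorem eval_eq (π : A →ₐ[k] H) (g : A →ₐ[k] k) (ξ : H →ₗ[k] k) (x : A) :
    g (tr (ξ ∘ₗ π.toLinearMap) x) = ξ ((toConv π * toConv ((Algebra.ofId k H).comp g)).ofConv x) := by
  rw [show ∀ F : WithConv (A →ₐ[k] _), F.ofConv x = F x from fun _ => rfl, AlgHom.convMul_apply]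
  simp only [tr, LinearMap.comp_apply]
  induction comul (R := k) x using TensorProduct.induction_on with
  | zero => simp
  | add r s hr hs => simp only [map_add, hr, hs]
  | tmul r s =>
    simp [Algebra.ofId_apply, ← Algebra.smul_def, mul_comm]

theorem conv_of_semi (π : A →ₐ[k] H) {C : Type w} [CommRing C] [Algebra k C] (f : A →ₐ[k] C) (θ : H →ₐ[k] C) {x : A} {c : H}
    (hx : π.toLinearMap.lTensor A (comul (R := k) x) = x ⊗ₜ[k] c) :
    (toConv f * toConv (θ.comp π)).ofConv x = f x * θ c := by
  rw [show ∀ F : WithConv (A →ₐ[k] _), F.ofConv x = F x from fun _ => rfl, AlgHom.convMul_apply]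
  rw [show f x * θ c = Algebra.TensorProduct.lift f θ (fun _ _ => Commute.all _ _) (x ⊗ₜ[k] c) by simp, ← hx]
  induction comul (R := k) x using TensorProduct.induction_on with
  | zero => simp
  | add r s hr hs => simp only [map_add, hr, hs]
  | tmul r s => simp

theorem semi_pow (π : A →ₐ[k] H) {m : A} {c : H}
    (hm : π.toLinearMap.lTensor A (comul (R := k) m) = m ⊗ₜ[k] c) (n : ℕ) :
    π.toLinearMap.lTensor A (comul (R := k) (m ^ n)) = (m ^ n) ⊗ₜ[k] (c ^ n) := by
  have e : ∀ y : A, π.toLinearMap.lTensor A (comul (R := k) y) =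
      ((Algebra.TensorProduct.map (AlgHom.id k A) π).comp (Bialgebra.comulAlgHom k A)) y := fun y => rfl
  rw [e, map_pow, ← e, hm, Algebra.TensorProduct.tmul_pow]

theorem pi_eq_of_semi (π : A →ₐ[k] H) {m : A} {c : H}
    (hm : π.toLinearMap.lTensor A (comul (R := k) m) = m ⊗ₜ[k] c) :
    π m = counit (R := k) m • c := by
  have h := congrArg (TensorProduct.lid k H ∘ (counit (R := k) (A := A)).rTensor H) hm
  simp only [Function.comp_apply, LinearMap.rTensor_tmul, TensorProduct.lid_tmul] at h
  rw [← h]
  conv_lhs => rw [← one_smul k (π m), ← TensorProduct.lid_tmul, show π m = π.toLinearMap m from rfl,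
    ← LinearMap.lTensor_tmul, ← Coalgebra.rTensor_counit_comul]
  congr 1
  induction comul (R := k) m using TensorProduct.induction_on with
  | zero => simp
  | add r s hr hs => simp only [map_add, hr, hs]
  | tmul r s => simp

/-- The core: over an algebraically closed field. -/
theorem exists_leftSemi [IsAlgClosed k] [Algebra.FiniteType k A] (p n : ℕ) [ExpChar k p]
    (hn : ∀ x : A, IsNilpotent x → x ^ p ^ n = 0) (π : A →ₐ[k] H) (c : H) (m : A)
    (hm : π.toLinearMap.lTensor A (comul (R := k) m) = m ⊗ₜ[k] c) (hm1 : counit (R := k) m = 1)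
    (hconj : ∀ g : A →ₐ[k] k, ∃ θ : H →ₐ[k] H,
      toConv π * toConv ((Algebra.ofId k H).comp g) =
        toConv ((Algebra.ofId k H).comp g) * toConv (θ.comp π)) :
    ∃ (N : ℕ) (φ : A), π.toLinearMap.rTensor A (comul (R := k) φ) = (c ^ (N + 1)) ⊗ₜ[k] φ ∧
      counit (R := k) φ = 1 := by
  classical
  have hnt : Nontrivial A := (Bialgebra.counitAlgHom k A).toRingHom.domain_nontrivial
  have : ExpChar A p := expChar_of_injective_algebraMap (algebraMap k A).injective p
  have : Nontrivial (A ⊗[k] A) :=
    ((Algebra.TensorProduct.lmul' (S := A) k).toRingHom).domain_nontrivial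
  have : ExpChar (A ⊗[k] A) p := expChar_of_injective_algebraMap (algebraMap k (A ⊗[k] A)).injective p
  have hq : 0 < p ^ n := pow_pos (expChar_pos k p) n
  set q := p ^ n with hqdef
  set mq := m ^ q with hmq
  set cq := c ^ q with hcq
  have hsemi : π.toLinearMap.lTensor A (comul (R := k) mq) = mq ⊗ₜ[k] cq := semi_pow π hm q
  have hmq1 : counit (R := k) mq = (1 : k) := by
    change Bialgebra.counitAlgHom k A (m ^ q) = 1
    rw [map_pow, Bialgebra.counitAlgHom_apply, hm1, one_pow]
  let E : Submodule k A := LinearMap.range (LinearMap.applyₗ mq ∘ₗ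
    ({ toFun := fun φ => tr φ, map_add' := fun a b => by
        refine LinearMap.ext fun x => ?_
        simp only [tr, LinearMap.comp_apply, LinearMap.add_apply]
        induction comul (R := k) x using TensorProduct.induction_on with
        | zero => simp
        | add r s hr hs => simp only [map_add, hr, hs]; abel
        | tmul r s => simp [add_smul],
       map_smul' := fun a b => by
        refine LinearMap.ext fun x => ?_
        simp only [tr, LinearMap.comp_apply, LinearMap.smul_apply, RingHom.id_apply]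
        induction comul (R := k) x using TensorProduct.induction_on with
        | zero => simp
        | add r s hr hs => simp only [map_add, smul_add, hr, hs]
        | tmul r s => simp [smul_smul] } : (A →ₗ[k] k) →ₗ[k] A →ₗ[k] A))
  have memE : ∀ {x : A}, x ∈ E ↔ ∃ φ, tr φ mq = x := fun {x} => Iff.rfl
  have hmqE : mq ∈ E := memE.2 ⟨_, tr_counit mq⟩
  have trE : ∀ (a : A →ₗ[k] k) {x : A}, x ∈ E → tr a x ∈ E := by
    intro a x hx
    obtain ⟨φ, rfl⟩ := memE.1 hx
    exact memE.2 ⟨_, (tr_tr a φ mq).symm⟩
  have semiE : ∀ {x : A}, x ∈ E → π.toLinearMap.lTensor A (comul (R := k) x) = x ⊗ₜ[k] cq := by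
    intro x hx
    obtain ⟨φ, rfl⟩ := memE.1 hx
    rw [lTensor_comul_tr, hsemi, LinearMap.rTensor_tmul]
  obtain ⟨S, hS⟩ := TensorProduct.exists_finset (comul (R := k) m)
  have hΔ : comul (R := k) mq = ∑ i ∈ S, (i.1 ^ q) ⊗ₜ[k] (i.2 ^ q) := by
    change Bialgebra.comulAlgHom k A (m ^ q) = _
    rw [map_pow, Bialgebra.comulAlgHom_apply, hS, hqdef, sum_pow_char_pow]
    simp only [Algebra.TensorProduct.tmul_pow]
  have hE : ∀ {x : A}, x ∈ E → ∃ μ : A × A → k, x = ∑ i ∈ S, μ i • i.2 ^ q := by
    intro x hx
    obtain ⟨φ, rfl⟩ := memE.1 hx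
    exact ⟨fun i => φ (i.1 ^ q), by simp [tr, hΔ]⟩
  have hEfg : FiniteDimensional k E := by
    let T : Submodule k A := Submodule.span k (S.image fun i => i.2 ^ q : Finset A)
    have : FiniteDimensional k T := Module.Finite.iff_fg.2 ⟨_, rfl⟩
    refine Submodule.finiteDimensional_of_le (S₂ := T) fun x hx => ?_
    obtain ⟨μ, rfl⟩ := hE hx
    exact Submodule.sum_mem _ fun i hi => Submodule.smul_mem _ _
      (Submodule.subset_span (Finset.mem_image_of_mem (fun i => i.2 ^ q) hi))
  have sep : ∀ {x : A}, x ∈ E → (∀ g : A →ₐ[k] k, g x = 0) → x = 0 := by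
    intro x hx h
    have hnil : IsNilpotent x := Lib.Comod.Orbits2.isNilpotent_of_forall_pt h
    obtain ⟨μ, hμ⟩ := hE hx
    choose r hr using fun i => IsAlgClosed.exists_pow_nat_eq (μ i) hq
    have hxe : x = (∑ i ∈ S, r i • i.2) ^ q := by
      rw [hμ, hqdef, sum_pow_char_pow]
      refine Finset.sum_congr rfl fun i _ => ?_
      rw [smul_pow, ← hqdef, hr]
    rw [hxe] at hnil ⊢
    exact hn _ (IsNilpotent.of_pow hnil)
  -- values of translates
  choose θ hθ using hconj
  have evalTr : ∀ (g : A →ₐ[k] k) (ξ : H →ₗ[k] k) {x : A}, x ∈ E →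
      g (tr (ξ ∘ₗ π.toLinearMap) x) = g x * ξ (θ g cq) := by
    intro g ξ x hx
    rw [eval_eq, hθ, conv_of_semi π _ _ (semiE hx), AlgHom.comp_apply, Algebra.ofId_apply,
      ← Algebra.smul_def, map_smul, smul_eq_mul]
  have evalOne : ∀ (ξ : H →ₗ[k] k) {x : A}, x ∈ E →
      Bialgebra.counitAlgHom k A (tr (ξ ∘ₗ π.toLinearMap) x) = counit (R := k) x * ξ cq := by
    intro ξ x hx
    rw [eval_eq]
    have h1 : toConv ((Algebra.ofId k H).comp (Bialgebra.counitAlgHom k A)) = 1 := rfl
    rw [h1, _root_.mul_one, ofConv_toConv, pi_eq_of_semi π (semiE hx), map_smul, smul_eq_mul]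
  let ev : (A →ₐ[k] k) → Module.Dual k E := fun g => g.toLinearMap ∘ₗ E.subtype
  let B : Set (Module.Dual k E) := ev '' {g | θ g cq ≠ cq}
  have hε : ev (Bialgebra.counitAlgHom k A) ∉ Submodule.span k B := by
    intro hmem
    obtain ⟨b, hb, hspan, hli⟩ := exists_linearIndependent k B
    rw [← hspan, show b = Set.range (Subtype.val : b → Module.Dual k E) by simp,
      Finsupp.mem_span_range_iff_exists_finsupp] at hmem
    obtain ⟨l, hl⟩ := hmem
    choose g hg hge using fun i : b => hb i.2
    have happ : ∀ (i : b) (x : E), i.1 x = g i (x : A) := fun i x => by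
      rw [← hge i]; rfl
    have hεx : ∀ x : E, ∑ i ∈ l.support, l i * g i (x : A) = counit (R := k) (x : A) := fun x => by
      have := LinearMap.congr_fun hl x
      simp only [Finsupp.sum, LinearMap.sum_apply, LinearMap.smul_apply, happ, smul_eq_mul] at this
      exact this
    have key : ∀ (ξ : H →ₗ[k] k) (x : E),
        ∑ i ∈ l.support, (l i * (ξ (θ (g i) cq) - ξ cq)) * g i (x : A) = 0 := fun ξ x => by
      have h1 := hεx ⟨_, trE (ξ ∘ₗ π.toLinearMap) x.2⟩
      rw [show counit (R := k) (tr (ξ ∘ₗ π.toLinearMap) (x : A)) = _ from evalOne ξ x.2, ← hεx x,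
        Finset.sum_mul] at h1
      simp only [evalTr _ _ x.2] at h1
      rw [← sub_eq_zero, ← Finset.sum_sub_distrib] at h1
      rw [← h1]
      exact Finset.sum_congr rfl fun i _ => by ring
    have hl0 : ∀ i ∈ l.support, False := by
      intro i hi
      obtain ⟨ξ, hξ⟩ : ∃ ξ : H →ₗ[k] k, ξ (θ (g i) cq - cq) ≠ 0 := by
        by_contra hc
        push Not at hc
        exact sub_ne_zero.2 (hg i) ((Module.forall_dual_apply_eq_zero_iff k _).1 hc)
      have h0 := linearIndependent_iff'.1 hli l.support (fun j => l j * (ξ (θ (g j) cq) - ξ cq))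
        (LinearMap.ext fun x => by simpa [LinearMap.sum_apply, happ] using key ξ x) i hi
      rcases mul_eq_zero.1 h0 with h | h
      · exact Finsupp.mem_support_iff.1 hi h
      · exact hξ (by rw [map_sub]; exact h)
    have h2 := hεx ⟨mq, hmqE⟩
    rw [hmq1, Finset.sum_eq_zero fun i hi => (hl0 i hi).elim] at h2
    exact zero_ne_one h2
  obtain ⟨Φ, hΦ, hΦB⟩ := Submodule.exists_dual_map_eq_bot_of_notMem hε inferInstance
  obtain ⟨φ0, rfl⟩ := (Module.evalEquiv k E).surjective Φ
  rw [Module.evalEquiv_apply, Module.Dual.eval_apply] at hΦ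
  let φ : E := (ev (Bialgebra.counitAlgHom k A) φ0)⁻¹ • φ0
  have hφ1 : counit (R := k) (φ : A) = (1 : k) := by
    change ev (Bialgebra.counitAlgHom k A) φ = 1
    simp only [φ, map_smul, smul_eq_mul]
    exact inv_mul_cancel₀ hΦ
  have hφ0 : ∀ g : A →ₐ[k] k, θ g cq ≠ cq → g (φ : A) = 0 := by
    intro g hg
    have h1 : Module.evalEquiv k E φ0 (ev g) ∈ (Submodule.span k B).map (Module.evalEquiv k E φ0) :=
      ⟨_, Submodule.subset_span ⟨g, hg, rfl⟩, rfl⟩
    rw [hΦB, Submodule.mem_bot, Module.evalEquiv_apply, Module.Dual.eval_apply] at h1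
    change ev g φ = 0
    simp only [φ, map_smul, h1, smul_zero]
  refine ⟨q - 1, φ, ?_, hφ1⟩
  rw [Nat.sub_add_cancel hq]
  rw [← sub_eq_zero]
  refine eq_zero_of_forall_contrL fun ξ => ?_
  have hcomp : contrL A ξ (π.toLinearMap.rTensor A (comul (R := k) (φ : A)) - cq ⊗ₜ[k] (φ : A)) =
      tr (ξ ∘ₗ π.toLinearMap) φ - ξ cq • (φ : A) := by
    rw [map_sub, contrL_tmul]
    simp only [tr, contrL, LinearMap.comp_apply, LinearMap.rTensor_comp]
  rw [hcomp]
  refine sep (E.sub_mem (trE _ φ.2) (E.smul_mem _ φ.2)) fun g => ?_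
  rw [map_sub, map_smul, evalTr g ξ φ.2, smul_eq_mul]
  by_cases hg : θ g cq = cq
  · rw [hg]; ring
  · rw [hφ0 g hg]; ring

end

end Groth.Agent.Lib.GrpQ.SemiInv
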