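import Groth.Prelude.Def_SGA3
import Groth.Agent.Lib.GrpQ.SemiInv
import Groth.Agent.Lib.Comod.Cartier
import Groth.Agent.Lib.Hopf.Conv3
import Groth.Agent.H66.Tame
import Mathlib.FieldTheory.IsAlgClosed.AlgebraicClosure
import Mathlib.RingTheory.HopfAlgebra.TensorProduct
import Mathlib.RingTheory.HopfAlgebra.Quotient

/-!
For a normal Hopf ideal, the inverse of a character occurring in the functions occurs too.
-/

set_option autoImplicit false

universe u

open TensorProduct CoalgebraStruct WithConv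

namespace Groth.Agent.Lib.GrpQ.SemiInv

noncomputable section

variable {k A : Type u} [Field k] [CommRing A] [HopfAlgebra k A] [Algebra.FiniteType k A]

theorem exists_exponent (K : Type u) [Field K] [IsAlgClosed K] (B : Type u) [CommRing B]
    [HopfAlgebra K B] [Algebra.FiniteType K B] :
    ∃ (p n : ℕ) (_ : ExpChar K p), ∀ x : B, IsNilpotent x → x ^ p ^ n = 0 := by
  obtain ⟨p, hp⟩ := ExpChar.exists K
  cases hp with
  | zero =>
    have := Lib.Comod.Cartier.isReduced (k := K) (H := B)
    exact ⟨1, 0, ExpChar.zero, fun x hx => by simpa using IsReduced.eq_zero x hx⟩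
  | prime hp =>
    have : IsNoetherianRing B := Algebra.FiniteType.isNoetherianRing K B
    obtain ⟨e, he⟩ := IsNoetherianRing.isNilpotent_nilradical B
    refine ⟨p, e, ExpChar.prime hp, fun x hx => pow_eq_zero_of_le (Nat.lt_pow_self hp.one_lt).le ?_⟩
    have := Ideal.pow_mem_pow (mem_nilradical.2 hx) e
    rwa [he] at this

open Bialgebra Coalgebra in
/-- The convolution group with values in any commutative algebra. -/
local instance (priority := 50) convGroupAny {B : Type*} [CommRing B] [Algebra k B] :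
    Group (WithConv (A →ₐ[k] B)) where
  inv f := toConv <| f.ofConv.comp (HopfAlgebra.antipodeAlgHom k A)
  inv_mul_cancel f := by
    have H : (Algebra.TensorProduct.lmul' k).comp (Algebra.TensorProduct.map f.ofConv f.ofConv) =
        f.ofConv.comp (Algebra.TensorProduct.lmul' k) := by ext <;> simp
    trans toConv <| ((Algebra.TensorProduct.lmul' k).comp (Algebra.TensorProduct.map f.ofConv f.ofConv)).comp
      ((Algebra.TensorProduct.map (HopfAlgebra.antipodeAlgHom k A) (.id _ _)).comp (comulAlgHom k A))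
    · rw [AlgHom.comp_assoc, ← AlgHom.comp_assoc (Algebra.TensorProduct.map f.ofConv f.ofConv),
        ← Algebra.TensorProduct.map_comp]; rfl
    rw [H, AlgHom.comp_assoc, WithConv.ext_iff, ← AlgHom.toLinearMap_injective.eq_iff]
    change f.ofConv.toLinearMap.comp (toConv (HopfAlgebra.antipode k (A := A)) * toConv LinearMap.id).ofConv =
      ofConv (1 : WithConv <| A →ₗ[k] B)
    rw [LinearMap.antipode_mul_id]
    ext
    simp

/-- Left semi-invariant with a positive power of the character, from a right semi-invariant. -/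
theorem exists_leftSemi_of_normal (I : Ideal A) (hI : SGA3.IsNormalHopfIdeal k A I) (c : A ⧸ I) (m : A)
    (hm : (Ideal.Quotient.mkₐ k I).toLinearMap.lTensor A (comul (R := k) m) = m ⊗ₜ[k] c)
    (hm1 : counit (R := k) m = (1 : k)) :
    ∃ (N : ℕ) (φ : A), (Ideal.Quotient.mkₐ k I).toLinearMap.rTensor A (comul (R := k) φ) =
      (c ^ (N + 1)) ⊗ₜ[k] φ ∧ counit (R := k) φ = (1 : k) := by
  classical
  let K := AlgebraicClosure k
  let π : A →ₐ[k] A ⧸ I := Ideal.Quotient.mkₐ k I
  let πK : K ⊗[k] A →ₐ[K] K ⊗[k] (A ⧸ I) := Algebra.TensorProduct.map (AlgHom.id K K) π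
  let inR : A →ₐ[k] K ⊗[k] A := Algebra.TensorProduct.includeRight
  let inR' : A ⧸ I →ₐ[k] K ⊗[k] (A ⧸ I) := Algebra.TensorProduct.includeRight
  have hΔ : ∀ a : A, comul (R := K) ((1 : K) ⊗ₜ[k] a) =
      AlgebraTensorModule.distribBaseChange k K A A ((1 : K) ⊗ₜ[k] comul (R := k) a) := fun a => by
    rw [H66.Tame.comul_baseChange, LinearMap.baseChange_tmul]
  have hD : ∀ (x y : A), AlgebraTensorModule.distribBaseChange k K A A ((1 : K) ⊗ₜ[k] (x ⊗ₜ[k] y)) =
      ((1 : K) ⊗ₜ[k] x) ⊗ₜ[K] ((1 : K) ⊗ₜ[k] y) := fun x y => by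
    rw [AlgebraTensorModule.distribBaseChange_tmul]
  have hmK : πK.toLinearMap.lTensor (K ⊗[k] A) (comul (R := K) ((1 : K) ⊗ₜ[k] m)) =
      ((1 : K) ⊗ₜ[k] m) ⊗ₜ[K] inR' c := by
    rw [hΔ]
    have e : ∀ z : A ⊗[k] A, πK.toLinearMap.lTensor (K ⊗[k] A)
        (AlgebraTensorModule.distribBaseChange k K A A ((1 : K) ⊗ₜ[k] z)) =
        AlgebraTensorModule.distribBaseChange k K A (A ⧸ I) ((1 : K) ⊗ₜ[k] π.toLinearMap.lTensor A z) := by
      intro z
      induction z using TensorProduct.induction_on with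
      | zero => simp
      | add r s hr hs => simp only [map_add, TensorProduct.tmul_add, hr, hs]
      | tmul r s =>
        rw [hD, LinearMap.lTensor_tmul, LinearMap.lTensor_tmul, AlgebraTensorModule.distribBaseChange_tmul]
        simp [πK]
    rw [e, hm, AlgebraTensorModule.distribBaseChange_tmul]
    rfl
  have hmK1 : counit (R := K) ((1 : K) ⊗ₜ[k] m) = (1 : K) := by simp [hm1]
  obtain ⟨p, n, hp, hn⟩ := exists_exponent K (K ⊗[k] A)
  have hconj : ∀ g : K ⊗[k] A →ₐ[K] K, ∃ θ : K ⊗[k] (A ⧸ I) →ₐ[K] K ⊗[k] (A ⧸ I),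
      toConv πK * toConv ((Algebra.ofId K _).comp g) =
        toConv ((Algebra.ofId K _).comp g) * toConv (θ.comp πK) := by
    intro g
    let G : WithConv (A →ₐ[k] K ⊗[k] (A ⧸ I)) :=
      toConv ((((Algebra.ofId K (K ⊗[k] (A ⧸ I))).comp g).restrictScalars k).comp inR)
    let Pt : WithConv (A →ₐ[k] K ⊗[k] (A ⧸ I)) := toConv (inR'.comp π)
    have hkill : ∀ a ∈ I, (G⁻¹ * Pt * G).ofConv a = 0 := by
      intro a ha
      have h1 := hI (K ⊗[k] (A ⧸ I)) (G⁻¹).ofConv Pt.ofConv (fun b hb => by
        change inR' (π b) = 0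
        rw [show π b = 0 from Ideal.Quotient.eq_zero_iff_mem.2 hb, map_zero]) a ha
      have h2 : toConv (Dyn.conv3 k A (G⁻¹).ofConv Pt.ofConv
          ((G⁻¹).ofConv.comp (HopfAlgebra.antipodeAlgHom k A))) = G⁻¹ * Pt * G := by
        rw [Lib.Hopf.Conv3.conv3_eq]
        congr 1
        exact (show G⁻¹⁻¹ = G from inv_inv G)
      rw [← h2]
      exact h1
    let θ0 : A ⧸ I →ₐ[k] K ⊗[k] (A ⧸ I) := Ideal.Quotient.liftₐ I (G⁻¹ * Pt * G).ofConv hkill
    let θ : K ⊗[k] (A ⧸ I) →ₐ[K] K ⊗[k] (A ⧸ I) :=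
      Algebra.TensorProduct.lift (Algebra.ofId K _) θ0 (fun _ _ => Commute.all _ _)
    refine ⟨θ, ?_⟩
    have key : ∀ (F F' : WithConv (K ⊗[k] A →ₐ[K] K ⊗[k] (A ⧸ I))) (a : A),
        (F * F').ofConv ((1 : K) ⊗ₜ[k] a) = ((toConv ((F.ofConv.restrictScalars k).comp inR)) *
          toConv ((F'.ofConv.restrictScalars k).comp inR)).ofConv a := by
      intro F F' a
      rw [show ∀ x, (F * F').ofConv x = (F * F') x from fun _ => rfl,
        show ∀ (T : WithConv (A →ₐ[k] K ⊗[k] (A ⧸ I))) x, T.ofConv x = T x from fun _ _ => rfl,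
        AlgHom.convMul_apply, AlgHom.convMul_apply, hΔ]
      induction comul (R := k) a using TensorProduct.induction_on with
      | zero => simp
      | add r s hr hs => simp only [map_add, TensorProduct.tmul_add, hr, hs]
      | tmul r s => rw [hD]; simp [inR]
    apply WithConv.ofConv_injective
    refine Algebra.TensorProduct.ext (AlgHom.ext fun (x : K) => ?_) (AlgHom.ext fun a => ?_)
    · exact (AlgHom.commutes _ x).trans (AlgHom.commutes _ x).symm
    · change (toConv πK * _).ofConv ((1 : K) ⊗ₜ[k] a) = (_ * toConv (θ.comp πK)).ofConv ((1 : K) ⊗ₜ[k] a)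
      rw [key, key]
      have e1 : toConv ((πK.restrictScalars k).comp inR) = Pt := by
        apply WithConv.ofConv_injective
        ext b
        simp [πK, Pt, inR, inR']
      have e2 : toConv (((θ.comp πK).restrictScalars k).comp inR) = G⁻¹ * Pt * G := by
        apply WithConv.ofConv_injective
        ext b
        simp [πK, θ, θ0, inR]
        rw [← Algebra.TensorProduct.one_def, _root_.one_mul]
        rfl
      rw [e1, e2]
      change (Pt * G).ofConv a = (G * (G⁻¹ * Pt * G)).ofConv a
      have e3 : G * (G⁻¹ * Pt * G) = Pt * G :=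
        (congrArg (G * ·) (_root_.mul_assoc G⁻¹ Pt G)).trans (mul_inv_cancel_left G (Pt * G))
      exact congrArg (fun T : WithConv (A →ₐ[k] K ⊗[k] (A ⧸ I)) => T.ofConv a) e3.symm
  obtain ⟨N, φK, hφK, hφK1⟩ := exists_leftSemi p n hn πK (inR' c) ((1 : K) ⊗ₜ[k] m) hmK hmK1 hconj
  let D : A →ₗ[k] (A ⧸ I) ⊗[k] A :=
    π.toLinearMap.rTensor A ∘ₗ comul (R := k) - TensorProduct.mk k (A ⧸ I) A (c ^ (N + 1))
  have hD0 : D.baseChange K φK = 0 := by
    apply (AlgebraTensorModule.distribBaseChange k K (A ⧸ I) A).injective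
    rw [map_zero, ← sub_eq_zero.2 hφK, ← map_pow]
    clear hφK hφK1
    induction φK using TensorProduct.induction_on with
    | zero => simp
    | add r s hr hs =>
      simp only [map_add, TensorProduct.tmul_add]
      rw [hr, hs]
      abel
    | tmul r s =>
      rw [show r ⊗ₜ[k] s = r • ((1 : K) ⊗ₜ[k] s) by simp [TensorProduct.smul_tmul'], map_smul, map_smul,
        map_smul, map_smul, TensorProduct.tmul_smul, ← smul_sub]
      congr 1
      rw [hΔ, LinearMap.baseChange_tmul]
      simp only [D, LinearMap.sub_apply, LinearMap.comp_apply, TensorProduct.mk_apply, TensorProduct.tmul_sub,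
        map_sub, AlgebraTensorModule.distribBaseChange_tmul]
      congr 1
      induction comul (R := k) s using TensorProduct.induction_on with
      | zero => simp
      | add r s hr hs => simp only [map_add, TensorProduct.tmul_add, hr, hs]
      | tmul r s =>
        rw [hD, LinearMap.rTensor_tmul, LinearMap.rTensor_tmul, AlgebraTensorModule.distribBaseChange_tmul]
        simp [πK]
  obtain ⟨lam, hlam⟩ := (Algebra.linearMap k K).exists_leftInverse_of_injective
    (LinearMap.ker_eq_bot.2 (algebraMap k K).injective)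
  let Λ : ∀ (M : Type u) [AddCommGroup M] [Module k M], K ⊗[k] M →ₗ[k] M := fun M _ _ =>
    (TensorProduct.lid k M).toLinearMap ∘ₗ lam.rTensor M
  refine ⟨N, Λ A φK, sub_eq_zero.1 ?_, ?_⟩
  · change D (Λ A φK) = 0
    have e : ∀ x, D (Λ A x) = Λ _ (D.baseChange K x) := fun x => by
      induction x using TensorProduct.induction_on with
      | zero => simp
      | add r s hr hs => simp only [map_add, hr, hs]
      | tmul r s => simp [Λ]
    rw [e, hD0, map_zero]
  · have e : ∀ x : K ⊗[k] A, counit (R := k) (Λ A x) = lam (counit (R := K) x) := fun x => by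
      induction x using TensorProduct.induction_on with
      | zero => simp
      | add r s hr hs => simp only [map_add, hr, hs]
      | tmul r s =>
        simp only [Λ, LinearMap.comp_apply, LinearMap.rTensor_tmul, LinearEquiv.coe_coe, TensorProduct.lid_tmul,
          map_smul, smul_eq_mul]
        simp [mul_comm]
    rw [e, hφK1]
    have := LinearMap.congr_fun hlam 1
    simpa using this

/-- The inverse character occurs as well. -/
theorem exists_invSemi (I : Ideal A) [I.IsHopfIdeal k] (hI : SGA3.IsNormalHopfIdeal k A I) (c : A ⧸ I) (m : A)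
    (hm : (Ideal.Quotient.mkₐ k I).toLinearMap.lTensor A (comul (R := k) m) = m ⊗ₜ[k] c)
    (hm1 : counit (R := k) m = (1 : k)) :
    ∃ (c' : A ⧸ I) (f : A), (Ideal.Quotient.mkₐ k I).toLinearMap.lTensor A (comul (R := k) f) = f ⊗ₜ[k] c' ∧
      counit (R := k) f = (1 : k) ∧ c * c' = 1 := by
  obtain ⟨N, φ, hφ, hφ1⟩ := exists_leftSemi_of_normal I hI c m hm hm1
  let π : A →ₐ[k] A ⧸ I := Ideal.Quotient.mkₐ k I
  let S : A →ₐ[k] A := HopfAlgebra.antipodeAlgHom k A
  let Sb : A ⧸ I →ₐ[k] A ⧸ I := Ideal.Quotient.liftₐ I (π.comp S) fun a ha =>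
    Ideal.Quotient.eq_zero_iff_mem.2 (Ideal.IsHopfIdeal.antipode_mem (R := k) ha)
  have hSb : ∀ a, π (S a) = Sb (π a) := fun a => rfl
  have hc : c * Sb c = 1 := by
    have h1 := HopfAlgebra.mul_antipode_lTensor_comul_apply (R := k) m
    have h2 := congrArg π h1
    rw [hm1, AlgHom.commutes, map_one] at h2
    rw [← h2]
    have hc' : π m = c := by
      have := pi_eq_of_semi π hm
      rwa [hm1, one_smul] at this
    rw [show c * Sb c = Algebra.TensorProduct.lift π Sb (fun _ _ => Commute.all _ _) (m ⊗ₜ[k] c) by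
      simp [hc'], ← hm]
    induction comul (R := k) m using TensorProduct.induction_on with
    | zero => simp
    | add r s hr hs => simp only [map_add, hr, hs]
    | tmul r s => simp; rfl
  let iL : WithConv (A →ₐ[k] A ⊗[k] A) := toConv Algebra.TensorProduct.includeLeft
  let iR : WithConv (A →ₐ[k] A ⊗[k] A) := toConv Algebra.TensorProduct.includeRight
  have hdl : toConv (Bialgebra.comulAlgHom k A) = iL * iR := by
    apply WithConv.ofConv_injective
    ext b
    rw [show ∀ x, (iL * iR).ofConv x = (iL * iR) x from fun _ => rfl, AlgHom.convMul_apply]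
    change comul (R := k) b = _
    induction comul (R := k) b using TensorProduct.induction_on with
    | zero => simp
    | add r s hr hs => simp only [map_add, ← hr, ← hs]
    | tmul r s => simp [iL, iR]
  have hΔS : ∀ b, comul (R := k) (S b) = Algebra.TensorProduct.lift
      ((Algebra.TensorProduct.includeRight : A →ₐ[k] A ⊗[k] A).comp S)
      ((Algebra.TensorProduct.includeLeft : A →ₐ[k] A ⊗[k] A).comp S)
      (fun _ _ => Commute.all _ _) (comul (R := k) b) := fun b => by
    have h1 : (toConv (Bialgebra.comulAlgHom k A))⁻¹ = iR⁻¹ * iL⁻¹ := by rw [hdl, mul_inv_rev]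
    have h2 := congrArg (fun F : WithConv (A →ₐ[k] A ⊗[k] A) => F b) h1
    rw [AlgHom.convMul_apply] at h2
    exact h2
  have hSφ : π.toLinearMap.lTensor A (comul (R := k) (S φ)) = S φ ⊗ₜ[k] Sb (c ^ (N + 1)) := by
    rw [hΔS]
    rw [show S φ ⊗ₜ[k] Sb (c ^ (N + 1)) = Algebra.TensorProduct.lift
      ((Algebra.TensorProduct.includeRight : A ⧸ I →ₐ[k] A ⊗[k] (A ⧸ I)).comp Sb)
      ((Algebra.TensorProduct.includeLeft : A →ₐ[k] A ⊗[k] (A ⧸ I)).comp S)
      (fun _ _ => Commute.all _ _) ((c ^ (N + 1)) ⊗ₜ[k] φ) by simp, ← hφ]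
    induction comul (R := k) φ using TensorProduct.induction_on with
    | zero => simp
    | add r s hr hs => simp only [map_add, hr, hs]
    | tmul r s => simp; rfl
  refine ⟨Sb c, S φ * m ^ N, ?_, ?_, hc⟩
  · have e : ∀ y : A, π.toLinearMap.lTensor A (comul (R := k) y) =
        ((Algebra.TensorProduct.map (AlgHom.id k A) π).comp (Bialgebra.comulAlgHom k A)) y := fun y => rfl
    rw [e, map_mul, ← e, ← e, hSφ, semi_pow π hm, Algebra.TensorProduct.tmul_mul_tmul, map_pow, pow_succ,
      mul_comm (Sb c ^ N) (Sb c), _root_.mul_assoc, ← mul_pow, mul_comm (Sb c) c, hc, one_pow, _root_.mul_one]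
  · change Bialgebra.counitAlgHom k A (S φ * m ^ N) = 1
    rw [map_mul, map_pow, ← AlgHom.comp_apply, AlgHom.counitAlgHom_comp_antipodeAlgHom,
      Bialgebra.counitAlgHom_apply, Bialgebra.counitAlgHom_apply, hm1, hφ1, one_pow, _root_.mul_one]

end

end Groth.Agent.Lib.GrpQ.SemiInv
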