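import Groth.Agent.Lib.GrpQ.InfSub
import Groth.Agent.Lib.GrpQ.Dominant
import Groth.Agent.Lib.GrpQ.FlatHom
import Groth.Agent.Lib.GrpQ.Kernel
import Groth.Agent.Lib.GrpQ.AffineQuot
import Groth.Agent.Lib.GrpQ.SemiInvDesc
import Groth.Agent.Lib.Flat55.FlatDescend
import Groth.Agent.Lib.HopfTransfer.FF
import Groth.Agent.H4.KernelSquare
import Groth.Agent.Lib.GrpSch.BaseChange
import Groth.Agent.Lib.GrpSch.GenericIso
import Mathlib.AlgebraicGeometry.Morphisms.SchemeTheoreticallyDominant

/-!
A schematically dominant homomorphism from an algebraic group to an affine one is faithfully flat.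
-/

set_option autoImplicit false

universe u

open CategoryTheory Limits MonoidalCategory CartesianMonoidalCategory MonObj AlgebraicGeometry
open TensorProduct

namespace Groth.Agent.Lib.GrpQ.DomFlat

noncomputable section

variable {k : Type u} [Field k]

/-- A homomorphism of spectra of Hopf algebras comes from a map of Hopf algebras. -/
theorem exists_bialgHom {A C : Type u} [CommRing A] [HopfAlgebra k A] [CommRing C] [HopfAlgebra k C]
    (f : AffQ.sp k C ⟶ AffQ.sp k A) [IsMonHom f] :
    ∃ φ : A →ₐc[k] C, AffQ.homOfBialgHom φ = f := by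
  let F : (hopfSpec (CommRingCat.of k)).obj (.op (.of k C)) ⟶ (hopfSpec (CommRingCat.of k)).obj (.op (.of k A)) :=
    Grp.homMk'' f (IsMonHom.one_hom (f := f)) (IsMonHom.mul_hom (f := f))
  let g := (hopfSpec.fullyFaithful (R := CommRingCat.of k)).preimage F
  have hg : (hopfSpec (CommRingCat.of k)).map g = F := (hopfSpec.fullyFaithful (R := CommRingCat.of k)).map_preimage F
  refine ⟨g.unop.hom, ?_⟩
  exact congrArg (fun z : (hopfSpec (CommRingCat.of k)).obj (.op (.of k C)) ⟶
    (hopfSpec (CommRingCat.of k)).obj (.op (.of k A)) => z.hom.hom) hg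

/-- An injective map of Hopf algebras gives a faithfully flat morphism. -/
theorem flat_surjective_of_injective {A C : Type u} [CommRing A] [HopfAlgebra k A] [CommRing C] [HopfAlgebra k C]
    (φ : A →ₐc[k] C) (h : Function.Injective φ) :
    Flat (AffQ.homOfBialgHom φ).left ∧ Surjective (AffQ.homOfBialgHom φ).left := by
  let B := (φ : A →ₐ[k] C).range
  have hff : Module.FaithfullyFlat B C :=
    Lib.Hopf.FaithfullyFlat.faithfullyFlat (HopfTransfer.isHopfSubalgebra_range φ)
  have hb : Function.Bijective (φ : A →ₐ[k] C).rangeRestrict :=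
    ⟨fun x y hxy => h (congrArg Subtype.val hxy), AlgHom.rangeRestrict_surjective _⟩
  have hr : (φ : A →+* C).FaithfullyFlat :=
    HopfTransfer.ff_comp (f := ((φ : A →ₐ[k] C).rangeRestrict : A →+* B))
      (RingHom.FaithfullyFlat.of_bijective hb) (RingHom.faithfullyFlat_algebraMap_iff.2 hff)
  rw [AffQ.homOfBialgHom_left]
  refine ⟨(HasRingHomProperty.Spec_iff (P := @Flat)).2 hr.flat, ⟨?_⟩⟩
  exact (RingHom.FaithfullyFlat.iff_flat_and_comap_surjective.1 hr).2

section Local

variable [IsAlgClosed k]

/-- A schematically dominant homomorphism to an infinitesimal group is faithfully flat. -/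
theorem flat_surjective_of_infinitesimal (p n : ℕ) [ExpChar k p] {R : Type u} [CommRing R] [HopfAlgebra k R]
    [Algebra.FiniteType k R] (hR : InfSub.IsQPt (p ^ n) (Bialgebra.counitAlgHom k R))
    {N : Over (Spec (CommRingCat.of k))} [GrpObj N] [LocallyOfFiniteType N.hom] [QuasiCompact N.hom]
    (f : N ⟶ AffQ.sp k R) [IsMonHom f] [IsSchemeTheoreticallyDominant f.left] :
    Flat f.left ∧ Surjective f.left := by
  have hq : p ^ n ≠ 0 := pow_ne_zero _ (expChar_pos k p).ne'
  have hsub : Subsingleton ↥(AffQ.sp k R).left := hR.subsingleton hq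
  let s : ↥(𝟙_ (Over (Spec (CommRingCat.of k)))).left := IsLocalRing.closedPoint k
  have : JacobsonSpace N.left := LocallyOfFiniteType.jacobsonSpace N.hom
  -- an affine neighbourhood of the unit
  obtain ⟨U, hU, heU, -⟩ := exists_isAffineOpen_mem_and_subset (x := η[N].left s) (U := ⊤) trivial
  let σ := Scheme.ΓSpecIso (CommRingCat.of k)
  let _ : Algebra k Γ(N.left, U) := (σ.inv ≫ N.hom.appLE ⊤ U (by simp)).hom.toAlgebra
  have hw : hU.fromSpec ≫ N.hom = Spec.map (CommRingCat.ofHom (algebraMap k Γ(N.left, U))) := by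
    rw [← (isAffineOpen_top (Spec (CommRingCat.of k))).SpecMap_appLE_fromSpec N.hom hU (by simp)]
    simp [σ, IsAffineOpen.fromSpec_top, Scheme.isoSpec_Spec_inv, ← Spec.map_comp, RingHom.algebraMap_toAlgebra]
  let j : InfSub.sp k Γ(N.left, U) ⟶ N := Over.homMk hU.fromSpec hw
  have hjo : IsOpenImmersion j.left := inferInstanceAs (IsOpenImmersion hU.fromSpec)
  have hft : Algebra.FiniteType k Γ(N.left, U) := by
    have : LocallyOfFiniteType (Spec.map (CommRingCat.ofHom (algebraMap k Γ(N.left, U)))) := by
      rw [← hw]; infer_instance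
    rw [HasRingHomProperty.Spec_iff (P := @LocallyOfFiniteType)] at this
    exact RingHom.finiteType_algebraMap.mp this
  have : IsNoetherianRing Γ(N.left, U) := Algebra.FiniteType.isNoetherianRing k _
  have hη : Set.range η[N].left ⊆ Set.range j.left := by
    rintro _ ⟨z, rfl⟩
    refine (Set.ext_iff.1 hU.range_fromSpec _).2 ?_
    rw [Subsingleton.elim (α := Spec (CommRingCat.of k)) z s]
    exact heU
  obtain ⟨eO, heO⟩ : ∃ eO : Γ(N.left, U) →ₐ[k] k, InfSub.ptOf eO ≫ j = η[N] := by
    let y := IsOpenImmersion.lift j.left η[N].left hη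
    have hy : y ≫ j.left = η[N].left := IsOpenImmersion.lift_fac _ _ _
    have hyw : y ≫ Spec.map (CommRingCat.ofHom (algebraMap k Γ(N.left, U))) = 𝟙 _ := by
      rw [← hw]
      refine (Category.assoc _ _ _).symm.trans ?_
      refine (congrArg (· ≫ N.hom) hy).trans ?_
      exact Over.w η[N]
    refine ⟨⟨(Spec.preimage y).hom, fun r => ?_⟩, ?_⟩
    · have h2 : CommRingCat.ofHom (algebraMap k Γ(N.left, U)) ≫ Spec.preimage y = 𝟙 _ := by
        apply Spec.map_injective
        rw [Spec.map_comp, Spec.map_preimage]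
        exact hyw.trans (Spec.map_id _).symm
      exact congr($h2 r)
    · ext1
      rw [Over.comp_left, ← hy]
      exact congrArg (· ≫ j.left) (Spec.map_preimage y)
  -- the map on rings
  obtain ⟨ψ, hψ⟩ : ∃ ψ : R →ₐ[k] Γ(N.left, U), InfSub.spMap ψ = j ≫ f := by
    refine ⟨⟨(Spec.preimage (j ≫ f).left).hom, fun r => ?_⟩, ?_⟩
    · have h2 : CommRingCat.ofHom (algebraMap k R) ≫ Spec.preimage (j ≫ f).left =
          CommRingCat.ofHom (algebraMap k Γ(N.left, U)) := by
        apply Spec.map_injective
        rw [Spec.map_comp, Spec.map_preimage]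
        exact Over.w (j ≫ f)
      exact congr($h2 r)
    · ext1
      exact Spec.map_preimage _
  have : LocallyOfFiniteType (AffQ.sp k R).hom := by
    change LocallyOfFiniteType (Spec.map (CommRingCat.ofHom (algebraMap k R)))
    rw [HasRingHomProperty.Spec_iff (P := @LocallyOfFiniteType)]
    exact RingHom.finiteType_algebraMap.mpr ‹_›
  have : QuasiCompact f.left := quasiCompact_left f
  -- the only rational point of the target
  have huniq : ∀ x : 𝟙_ (Over (Spec (CommRingCat.of k))) ⟶ AffQ.sp k R, x = 1 := fun x =>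
    Over.OverMorphism.ext (ext_of_apply_closedPoint_eq (AffQ.sp k R).hom (Over.w x) (Over.w _)
      (Subsingleton.elim _ _))
  have hinj : ∀ b : R, (∀ N' : ℕ, ψ b ∈ RingHom.ker eO ^ N') → b = 0 := by
    intro b hb
    have h1 : ψ b ∈ (⨅ i : ℕ, RingHom.ker eO ^ i • ⊤ : Submodule Γ(N.left, U) Γ(N.left, U)) := by
      simp only [Submodule.mem_iInf, smul_eq_mul, Ideal.mul_top]
      exact hb
    obtain ⟨⟨r, hr⟩, hrb⟩ := (Ideal.mem_iInf_smul_pow_eq_bot_iff _ _).1 h1
    let W : N.left.Opens := N.left.basicOpen (1 - r : Γ(N.left, U))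
    have hWU : W ≤ U := N.left.basicOpen_le _
    let b' : Γ((AffQ.sp k R).left, ⊤) := (Scheme.ΓSpecIso (CommRingCat.of R)).inv b
    have hresW : N.left.presheaf.map (homOfLE (le_top : W ≤ ⊤)).op (f.left.appTop b') = 0 := by
      have e1 : N.left.presheaf.map (homOfLE (le_top : U ≤ ⊤)).op (f.left.appTop b') = ψ b := by
        have h2 := congrArg (fun z => (Scheme.ΓSpecIso (CommRingCat.of R)).inv ≫ z.left.appTop ≫
          (Scheme.ΓSpecIso Γ(N.left, U)).hom) hψ
        have h3 : (Scheme.ΓSpecIso (CommRingCat.of R)).inv ≫ (InfSub.spMap ψ).left.appTop ≫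
            (Scheme.ΓSpecIso Γ(N.left, U)).hom = CommRingCat.ofHom ψ.toRingHom := by
          rw [InfSub.spMap_left]
          exact (Iso.inv_comp_eq _).2 (Scheme.ΓSpecIso_naturality (CommRingCat.ofHom ψ.toRingHom))
        have h4 := ConcreteCategory.congr_hom (h3.symm.trans h2) b
        refine Eq.trans ?_ h4.symm
        change _ = (Scheme.ΓSpecIso Γ(N.left, U)).hom ((hU.fromSpec ≫ f.left).appTop b')
        have h6 : hU.fromSpec.appTop ≫ (Scheme.ΓSpecIso Γ(N.left, U)).hom =
            N.left.presheaf.map (homOfLE (le_top : U ≤ ⊤)).op := by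
          rw [Scheme.Hom.appTop, hU.fromSpec_app_of_le ⊤ le_top]
          simp
        exact (ConcreteCategory.congr_hom h6 (f.left.appTop b')).symm
      have e2 : N.left.presheaf.map (homOfLE hWU).op (ψ b) = 0 := by
        have hu := RingedSpace.isUnit_res_basicOpen N.left.toRingedSpace (1 - r : Γ(N.left, U))
        have h0 : (1 - r) * ψ b = 0 := by rw [sub_mul, _root_.one_mul, ← smul_eq_mul, hrb, sub_self]
        have := congrArg (N.left.presheaf.map (homOfLE hWU).op) h0
        rw [map_mul, map_zero] at this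
        exact hu.mul_right_eq_zero.1 this
      rw [← e1, ← ConcreteCategory.comp_apply, ← Functor.map_comp] at e2
      exact e2
    have heW : η[N].left s ∈ W := by
      have h1 : (InfSub.ptOf eO).left s ∈ hU.fromSpec ⁻¹ᵁ W := by
        rw [hU.fromSpec_preimage_basicOpen]
        change (1 - r) ∉ Ideal.comap eO.toRingHom _
        intro h
        rw [Ideal.mem_comap] at h
        have h' : eO (1 - r) = 0 := by
          have hm : (IsLocalRing.closedPoint k).asIdeal = (⊥ : Ideal k) := IsLocalRing.maximalIdeal_eq_bot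
          rw [show (s : PrimeSpectrum k).asIdeal = (⊥ : Ideal k) from hm] at h
          exact h
        rw [map_sub, map_one, show eO r = 0 from hr, sub_zero] at h'
        exact one_ne_zero h'
      rw [← heO]
      exact h1
    have hall : f.left.appTop b' = 0 := by
      refine (TopCat.Sheaf.eq_of_locally_eq' (X := N.left.toTopCat) N.left.sheaf
        (fun g : 𝟙_ (Over (Spec (CommRingCat.of k))) ⟶ N =>
          (GrpSch.translate (GrpSch.regularAction N) g).hom.left ⁻¹ᵁ W)
        ⊤ (fun _ => homOfLE le_top) ?_ _ _ fun g => ?_)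
      · intro x _
        rw [TopologicalSpace.Opens.mem_iSup]
        by_contra hx
        push Not at hx
        obtain ⟨c, hc, hcc⟩ := nonempty_inter_closedPoints (X := N.left) (Z := closure {x})
          ⟨x, subset_closure rfl⟩ isClosed_closure.isLocallyClosed
        let pc : 𝟙_ (Over (Spec (CommRingCat.of k))) ⟶ N :=
          Over.homMk (pointOfClosedPoint N.hom c hcc) (pointOfClosedPoint_comp N.hom c hcc)
        refine hx pc⁻¹ ((specializes_iff_mem_closure.2 hc).mem_open
          (((GrpSch.translate (GrpSch.regularAction N) pc⁻¹).hom.left ⁻¹ᵁ W)).2 ?_)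
        change (GrpSch.translate (GrpSch.regularAction N) pc⁻¹).hom.left c ∈ W
        have e1 : pc.left s = c := pointOfClosedPoint_apply N.hom c hcc s
        rw [← e1, ← Scheme.Hom.comp_apply, ← Over.comp_left, GrpSch.translate_regular_apply, inv_mul_cancel,
          Hom.one_def, toUnit_unique (toUnit _) (𝟙 _), Category.id_comp]
        exact heW
      · have ht : (GrpSch.translate (GrpSch.regularAction N) g).hom ≫ f = f := by
          rw [GrpSch.hom_translate_comm, huniq (g ≫ f), GrpSch.translate_one]
          exact Category.comp_id f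
        have h2 : (GrpSch.translate (GrpSch.regularAction N) g).hom.left.appTop (f.left.appTop b') =
            f.left.appTop b' := by
          conv_rhs => rw [← ht, Over.comp_left, Scheme.Hom.comp_appTop]
          rfl
        change N.left.presheaf.map _ _ = N.left.presheaf.map _ _
        rw [map_zero, ← h2]
        have h3 := ConcreteCategory.congr_hom
          ((GrpSch.translate (GrpSch.regularAction N) g).hom.left.naturality (homOfLE (le_top : W ≤ ⊤)).op)
          (f.left.appTop b')
        simp only [ConcreteCategory.comp_apply] at h3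
        rw [hresW, map_zero] at h3
        exact h3.symm
    have := f.left.app_injective ⊤ (a₁ := b') (a₂ := 0) (by rw [map_zero]; exact hall)
    have h5 := congrArg (Scheme.ΓSpecIso (CommRingCat.of R)).hom this
    refine Eq.trans ?_ (h5.trans (map_zero _))
    exact (ConcreteCategory.congr_hom (Scheme.ΓSpecIso (CommRingCat.of R)).inv_hom_id b).symm
  -- choose the exponent
  have hfin : Module.Finite k R := by
    have : Algebra.IsIntegral k R := ⟨fun r => ⟨Polynomial.X ^ (p ^ n) -
      Polynomial.C (Bialgebra.counitAlgHom k R r ^ p ^ n), Polynomial.monic_X_pow_sub_C _ hq, by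
        simp [hR r]⟩⟩
    exact Algebra.IsIntegral.finite
  have : IsArtinianRing R := IsArtinianRing.of_finite k R
  let J : ℕ →o (Ideal R)ᵒᵈ := ⟨fun i => OrderDual.toDual ((RingHom.ker eO ^ i).comap ψ),
    fun a b hab => Ideal.comap_mono (Ideal.pow_le_pow_right hab)⟩
  obtain ⟨N₀, hN₀⟩ := IsArtinian.monotone_stabilizes J
  have hN₀' : (RingHom.ker eO ^ N₀).comap ψ = ⊥ := eq_bot_iff.2 fun b hb => by
    refine hinj b fun i => ?_
    rcases le_total i N₀ with h | h
    · exact Ideal.pow_le_pow_right h hb
    · exact (OrderDual.toDual.injective (hN₀ i h)).le hb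
  obtain ⟨m, hm, hinjm⟩ : ∃ m, InfSub.IsQPt (p ^ m) (Bialgebra.counitAlgHom k R) ∧
      Function.Injective ((Ideal.Quotient.mkₐ k (InfSub.frobIdeal eO (p ^ m))).comp ψ) := by
    refine ⟨n + N₀, fun a => by rw [pow_add, pow_mul, hR a, ← map_pow, ← pow_mul], ?_⟩
    rw [injective_iff_map_eq_zero]
    intro b hb
    have hb' : ψ b ∈ InfSub.frobIdeal eO (p ^ (n + N₀)) := Ideal.Quotient.eq_zero_iff_mem.1 hb
    rcases eq_or_ne p 1 with rfl | hp1
    · have h1 : ∀ a : R, a = algebraMap k R (Bialgebra.counitAlgHom k R a) := fun a => by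
        simpa using hR a
      have h2 := InfSub.frobIdeal_le eO (1 ^ (n + N₀)) (by simp) hb'
      rw [h1 b, RingHom.mem_ker, AlgHom.commutes] at h2
      rw [h1 b, show Bialgebra.counitAlgHom k R b = 0 from by simpa using h2, map_zero]
    · have hle : N₀ ≤ p ^ (n + N₀) :=
        (Nat.le_add_left N₀ n).trans (Nat.lt_pow_self (by have := expChar_pos k p; omega)).le
      have h1 : InfSub.frobIdeal eO (p ^ (n + N₀)) ≤ RingHom.ker eO ^ N₀ := by
        rw [InfSub.frobIdeal, Ideal.span_le]
        rintro _ ⟨a, ha, rfl⟩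
        exact Ideal.pow_le_pow_right hle (Ideal.pow_mem_pow ha _)
      exact (Ideal.mem_bot).1 (hN₀'.le (h1 hb'))
  -- the infinitesimal subgroup
  obtain ⟨_, hincl⟩ := InfSub.exists_infSubgroup j eO heO p m
  let D := InfSub.sp k (InfSub.infRing eO (p ^ m))
  have : IsAffine D.left := inferInstanceAs (IsAffine (Spec (CommRingCat.of (InfSub.infRing eO (p ^ m)))))
  obtain ⟨A', _, _, eD, heD⟩ := H1.Hopf.exists_iso D
  let g : AffQ.sp k A' ⟶ AffQ.sp k R := eD.inv ≫ InfSub.infIncl j eO (p ^ m) ≫ f
  obtain ⟨φ, hφ⟩ := exists_bialgHom g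
  have hφinj : Function.Injective φ := by
    obtain ⟨θ, hθ⟩ : ∃ θ : A' →+* InfSub.infRing eO (p ^ m), Spec.map (CommRingCat.ofHom θ) = eD.hom.left :=
      ⟨(Spec.preimage eD.hom.left).hom, Spec.map_preimage _⟩
    have e1 : eD.hom ≫ g = InfSub.spMap ((Ideal.Quotient.mkₐ k (InfSub.frobIdeal eO (p ^ m))).comp ψ) := by
      rw [Iso.hom_inv_id_assoc, InfSub.spMap_comp, hψ, InfSub.infIncl, Category.assoc]
    have e2 : θ.comp (φ : R →+* A') = ((Ideal.Quotient.mkₐ k (InfSub.frobIdeal eO (p ^ m))).comp ψ).toRingHom := by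
      have h := congr($(e1).left)
      rw [Over.comp_left, ← hφ, AffQ.homOfBialgHom_left, ← hθ, InfSub.spMap_left] at h
      exact congrArg CommRingCat.Hom.hom (Spec.map_injective ((Spec.map_comp _ _).trans h))
    intro x y hxy
    apply hinjm
    change ((Ideal.Quotient.mkₐ k _).comp ψ).toRingHom x = ((Ideal.Quotient.mkₐ k _).comp ψ).toRingHom y
    rw [← e2, RingHom.comp_apply, RingHom.comp_apply]
    exact congrArg θ hxy
  obtain ⟨hgflat, hgsurj⟩ := flat_surjective_of_injective φ hφinj
  rw [hφ] at hgflat hgsurj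
  let fD : D ⟶ AffQ.sp k R := InfSub.infIncl j eO (p ^ m) ≫ f
  have hfD : fD = eD.hom ≫ g := (Iso.hom_inv_id_assoc _ _).symm
  have hisoD : IsIso eD.hom.left := ((Over.forget _).mapIso eD).isIso_hom
  have : Flat fD.left := by rw [hfD, Over.comp_left]; infer_instance
  have : Surjective fD.left := by rw [hfD, Over.comp_left]; infer_instance
  let i' : D ⟶ N := InfSub.infIncl j eO (p ^ m)
  have hflat : ∀ (T : Over (Spec (CommRingCat.of k))), Flat T.hom := fun T =>
    GrpSch.flat_of_isField (Field.toIsField k) T.hom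
  have hsD : Surjective D.hom := ⟨fun y => ⟨eD.inv.left (η[AffQ.sp k A'].left s),
    Subsingleton.elim (α := Spec (CommRingCat.of k)) _ _⟩⟩
  have hsN : Surjective N.hom := ⟨fun y => ⟨η[N].left s, Subsingleton.elim (α := Spec (CommRingCat.of k)) _ _⟩⟩
  let mD : D ⊗ N ⟶ N := (fst D N ≫ i') * snd D N
  let mR : AffQ.sp k R ⊗ N ⟶ AffQ.sp k R := fst _ N * (snd _ N ≫ f)
  have hsq : mD ≫ f = (fD ▷ N) ≫ mR := by
    simp only [mD, mR, i', MonObj.mul_comp, MonObj.comp_mul, Category.assoc, whiskerRight_fst,
      whiskerRight_snd_assoc, fD]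
  let shD : D ⊗ N ≅ D ⊗ N :=
    { hom := lift (fst D N) mD
      inv := lift (fst D N) ((fst D N ≫ i')⁻¹ * snd D N)
      hom_inv_id := by
        ext1
        · simp
        · simp [mD, MonObj.comp_mul, GrpObj.comp_inv]
      inv_hom_id := by
        ext1
        · simp
        · simp [mD, MonObj.comp_mul, GrpObj.comp_inv] }
  let shR : AffQ.sp k R ⊗ N ≅ AffQ.sp k R ⊗ N :=
    { hom := lift mR (snd _ N)
      inv := lift (fst _ N * (snd _ N ≫ f)⁻¹) (snd _ N)
      hom_inv_id := by
        ext1
        · simp [mR, MonObj.comp_mul, GrpObj.comp_inv, _root_.mul_assoc]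
        · simp
      inv_hom_id := by
        ext1
        · simp [mR, MonObj.comp_mul, GrpObj.comp_inv, _root_.mul_assoc]
        · simp }
  have hisoShD : IsIso shD.hom.left := ((Over.forget _).mapIso shD).isIso_hom
  have hisoShR : IsIso shR.hom.left := ((Over.forget _).mapIso shR).isIso_hom
  have emD : mD = shD.hom ≫ snd D N := (lift_snd _ _).symm
  have emR : mR = shR.hom ≫ fst _ N := (lift_fst _ _).symm
  have : Flat (snd D N).left := GrpSch.snd_left_of (P := @Flat) _ (hflat D)
  have : Surjective (snd D N).left := GrpSch.snd_left_of (P := @Surjective) _ hsD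
  have : Flat (fst (AffQ.sp k R) N).left := GrpSch.fst_left_of (P := @Flat) _ (hflat N)
  have : Surjective (fst (AffQ.sp k R) N).left := GrpSch.fst_left_of (P := @Surjective) _ hsN
  have : Flat mD.left := by rw [emD, Over.comp_left]; infer_instance
  have : Surjective mD.left := by rw [emD, Over.comp_left]; infer_instance
  have : Flat mR.left := by rw [emR, Over.comp_left]; infer_instance
  have : Surjective mR.left := by rw [emR, Over.comp_left]; infer_instance
  have : Flat (fD ▷ N).left := GrpSch.whiskerRight_left_of (P := @Flat) _ _ inferInstance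
  have : Surjective (fD ▷ N).left := GrpSch.whiskerRight_left_of (P := @Surjective) _ _ inferInstance
  have : Flat (mD.left ≫ f.left) := by rw [← Over.comp_left, hsq, Over.comp_left]; infer_instance
  have : Surjective (mD.left ≫ f.left) := by rw [← Over.comp_left, hsq, Over.comp_left]; infer_instance
  exact ⟨Flat55.FlatDescend.flat_of_comp mD.left f.left, Surjective.of_comp mD.left f.left⟩

end Local

end

end Groth.Agent.Lib.GrpQ.DomFlat
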