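import Groth.Agent.Lib.UnitsProd.Algebra
import Groth.Agent.Lib.GrpQ.RedSubgroup
import Groth.Agent.Lib.GrpQ.Image
import Groth.Agent.H1.GrpIrred
import Groth.Agent.Lib.GrpQ.DomFlat

/-!
Rosenlicht: units on a product of varieties split; units on connected groups are characters.
-/

set_option autoImplicit false

universe u

open CategoryTheory Limits MonoidalCategory CartesianMonoidalCategory MonObj AlgebraicGeometry
open TensorProduct

namespace Groth.Agent.Lib.GrpQ.Rosenlicht

noncomputable section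

variable {k : Type u} [Field k]

/-- The value of a function on a chart. -/
def pb {R : Type u} [CommRing R] [Algebra k R] {Z : Over (Spec (CommRingCat.of k))} (t : InfSub.sp k R ⟶ Z) :
    Γ(Z.left, ⊤) →+* R :=
  (t.left.appTop ≫ (Scheme.ΓSpecIso (CommRingCat.of R)).hom).hom

theorem pb_comp {R : Type u} [CommRing R] [Algebra k R] {Z Z' : Over (Spec (CommRingCat.of k))}
    (t : InfSub.sp k R ⟶ Z) (f : Z ⟶ Z') (s : Γ(Z'.left, ⊤)) : pb (t ≫ f) s = pb t (f.left.appTop s) := by
  simp [pb, Over.comp_left]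

theorem pb_spMap {R R' : Type u} [CommRing R] [Algebra k R] [CommRing R'] [Algebra k R']
    {Z : Over (Spec (CommRingCat.of k))} (φ : R →ₐ[k] R') (t : InfSub.sp k R ⟶ Z) (s : Γ(Z.left, ⊤)) :
    pb (InfSub.spMap φ ≫ t) s = φ (pb t s) := by
  rw [pb_comp]
  exact ConcreteCategory.congr_hom (Scheme.ΓSpecIso_naturality (CommRingCat.ofHom φ.toRingHom)) (t.left.appTop s)

/-- The value of a function at a rational point. -/
def valAt {Z : Over (Spec (CommRingCat.of k))} (z : 𝟙_ (Over (Spec (CommRingCat.of k))) ⟶ Z) :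
    Γ(Z.left, ⊤) →+* k :=
  (z.left.appTop ≫ (Scheme.ΓSpecIso (CommRingCat.of k)).hom).hom

theorem spMap_ofId {R : Type u} [CommRing R] [Algebra k R] {B : Type u} [CommRing B] [Algebra k B]
    (e : B →ₐ[k] k) :
    InfSub.spMap ((Algebra.ofId k R).comp e) = toUnit (InfSub.sp k R) ≫ InfSub.ptOf e := by
  ext1
  rw [Over.comp_left]
  exact Spec.map_comp (CommRingCat.ofHom e.toRingHom) (CommRingCat.ofHom (algebraMap k R))

theorem valAt_ptOf {A : Type u} [CommRing A] [Algebra k A] {Z : Over (Spec (CommRingCat.of k))} (e : A →ₐ[k] k)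
    (t : InfSub.sp k A ⟶ Z) (s : Γ(Z.left, ⊤)) : valAt (InfSub.ptOf e ≫ t) s = e (pb t s) := by
  change (Scheme.ΓSpecIso (CommRingCat.of k)).hom ((InfSub.ptOf e ≫ t).left.appTop s) = _
  rw [Over.comp_left, Scheme.Hom.comp_appTop]
  exact ConcreteCategory.congr_hom (Scheme.ΓSpecIso_naturality (CommRingCat.ofHom e.toRingHom)) (t.left.appTop s)

/-- Values of constants. -/
theorem pb_const {R : Type u} [CommRing R] [Algebra k R] {Z : Over (Spec (CommRingCat.of k))} (t : InfSub.sp k R ⟶ Z)
    (c : k) : pb t (((Scheme.ΓSpecIso (CommRingCat.of k)).inv ≫ Z.hom.appTop).hom c) = algebraMap k R c := by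
  have h : ∀ x, t.left.appTop (Z.hom.appTop x) = (InfSub.sp k R).hom.appTop x := fun x => by
    rw [← Over.w t, Scheme.Hom.comp_appTop]; rfl
  change (Scheme.ΓSpecIso (CommRingCat.of R)).hom (t.left.appTop (Z.hom.appTop _)) = _
  rw [h]
  refine (ConcreteCategory.congr_hom (Scheme.ΓSpecIso_naturality (CommRingCat.ofHom (algebraMap k R)))
    ((Scheme.ΓSpecIso (CommRingCat.of k)).inv c)).trans ?_
  change algebraMap k R ((Scheme.ΓSpecIso (CommRingCat.of k)).hom ((Scheme.ΓSpecIso (CommRingCat.of k)).inv c)) = _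
  rw [Iso.inv_hom_id_apply]

variable [IsAlgClosed k]

/-- Elements of a reduced algebra of finite type are determined by their values at rational points. -/
theorem eq_of_forall_point {R : Type u} [CommRing R] [Algebra k R] [Algebra.FiniteType k R] [_root_.IsReduced R]
    {a b : R} (h : ∀ z : R →ₐ[k] k, z a = z b) : a = b := by
  rw [← sub_eq_zero]
  have : IsJacobsonRing R := isJacobsonRing_of_finiteType (A := k) (B := R)
  have hrad : (⊥ : Ideal R).jacobson = ⊥ :=
    IsJacobsonRing.out' _ ((Ideal.isRadical_bot_iff).2 inferInstance)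
  rw [← Ideal.mem_bot, ← hrad, Ideal.jacobson, Ideal.mem_sInf]
  rintro M ⟨-, hM⟩
  let _ : Field (R ⧸ M) := Ideal.Quotient.field M
  have : Module.Finite k (R ⧸ M) := finite_of_finite_type_of_isJacobsonRing k (R ⧸ M)
  let eM : k ≃ₐ[k] R ⧸ M := AlgEquiv.ofBijective (Algebra.ofId k (R ⧸ M))
    (IsAlgClosed.algebraMap_bijective_of_isIntegral (k := k) (K := R ⧸ M))
  refine Ideal.Quotient.eq_zero_iff_mem.1 ?_
  apply eM.symm.injective
  rw [map_zero, map_sub, map_sub]
  exact sub_eq_zero.2 (h (eM.symm.toAlgHom.comp (Ideal.Quotient.mkₐ k M)))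

omit [IsAlgClosed k] in
theorem isDomain_chart {X : Over (Spec (CommRingCat.of k))} [IsIntegral X.left] {A : Type u} [CommRing A] [Algebra k A]
    (e : A →ₐ[k] k) (j : InfSub.sp k A ⟶ X) [hj : IsOpenImmersion j.left] : IsDomain A := by
  have : Nonempty (Spec (CommRingCat.of A)) := ⟨(InfSub.ptOf e).left (IsLocalRing.closedPoint k)⟩
  have : IsIntegral (Spec (CommRingCat.of A)) := @isIntegral_of_isOpenImmersion _ _ j.left hj _ this
  exact (affine_isIntegral_iff (CommRingCat.of A)).1 this

variable {X Y : Over (Spec (CommRingCat.of k))}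

/-- Units on a product of varieties split. -/
theorem units_prod [IsIntegral X.left] [IsSeparated X.hom] [LocallyOfFiniteType X.hom]
    [IsIntegral Y.left] [IsSeparated Y.hom] [LocallyOfFiniteType Y.hom]
    (x₀ : 𝟙_ (Over (Spec (CommRingCat.of k))) ⟶ X) (y₀ : 𝟙_ (Over (Spec (CommRingCat.of k))) ⟶ Y)
    (f : Γ((X ⊗ Y).left, ⊤)) (hf : IsUnit f) :
    f * ((Scheme.ΓSpecIso (CommRingCat.of k)).inv ≫ (X ⊗ Y).hom.appTop).hom (valAt (lift x₀ y₀) f) =
      (fst X Y).left.appTop ((lift (𝟙 X) (toUnit X ≫ y₀)).left.appTop f) *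
        (snd X Y).left.appTop ((lift (toUnit Y ≫ x₀) (𝟙 Y)).left.appTop f) := by
  have : IsLocallyNoetherian X.left := LocallyOfFiniteType.isLocallyNoetherian X.hom
  have : IsLocallyNoetherian Y.left := LocallyOfFiniteType.isLocallyNoetherian Y.hom
  obtain ⟨A, _, _, _, u, eA, hu, heA⟩ := InfAgree.exists_chart X x₀
  obtain ⟨B, _, _, _, v, eB, hv, heB⟩ := InfAgree.exists_chart Y y₀
  have := isDomain_chart eA u
  have := isDomain_chart eB v
  have hA : Algebra.FiniteType k A := DomFlat.finiteType_of_locallyOfFiniteType (by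
    rw [← Over.w u]; infer_instance)
  have hB : Algebra.FiniteType k B := DomFlat.finiteType_of_locallyOfFiniteType (by
    rw [← Over.w v]; infer_instance)
  -- the chart of the product is scheme-theoretically dense
  have hstd : ∀ {Z : Over (Spec (CommRingCat.of k))} {R : Type u} [CommRing R] [Algebra k R] (e : R →ₐ[k] k)
      (j : InfSub.sp k R ⟶ Z), IsOpenImmersion j.left → IsIntegral Z.left →
      IsSchemeTheoreticallyDominant j.left := fun {Z R} _ _ e j hj hZ => by
    have : IsDominant j.left := ⟨IsOpen.dense j.left.isOpenEmbedding.isOpen_range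
      ⟨_, Set.mem_range_self ((InfSub.ptOf e).left (IsLocalRing.closedPoint k))⟩⟩
    exact .of_isDominant _
  have hqc : ∀ {Z : Over (Spec (CommRingCat.of k))} {R : Type u} [CommRing R] [Algebra k R]
      (j : InfSub.sp k R ⟶ Z), IsSeparated Z.hom → QuasiCompact j.left := fun {Z R} _ _ j hZ => by
    have : QuasiCompact (j.left ≫ Z.hom) := by
      rw [Over.w]; exact inferInstanceAs (QuasiCompact (Spec.map _))
    exact QuasiCompact.of_comp j.left Z.hom
  have h1 := hstd eA u hu inferInstance
  have h2 := hstd eB v hv inferInstance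
  have h1' := hqc u inferInstance
  have h2' := hqc v inferInstance
  have hflat : ∀ (T : Over (Spec (CommRingCat.of k))), Flat T.hom := fun T =>
    GrpSch.flat_of_isField (Field.toIsField k) T.hom
  have : Flat (fst X (InfSub.sp k B)).left := GrpSch.fst_left_of (P := @Flat) _ (hflat _)
  have : Flat (snd X Y).left := GrpSch.snd_left_of (P := @Flat) _ (hflat _)
  have : IsSchemeTheoreticallyDominant (u ▷ InfSub.sp k B).left :=
    .of_isPullback (GrpSch.isPullback_whiskerRight u (InfSub.sp k B)).flip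
  have : IsSchemeTheoreticallyDominant (X ◁ v).left :=
    .of_isPullback (GrpSch.isPullback_whiskerLeft X v).flip
  have : QuasiCompact (u ▷ InfSub.sp k B).left :=
    MorphismProperty.of_isPullback (P := @QuasiCompact) (GrpSch.isPullback_whiskerRight u (InfSub.sp k B)).flip h1'
  have : QuasiCompact (X ◁ v).left :=
    MorphismProperty.of_isPullback (P := @QuasiCompact) (GrpSch.isPullback_whiskerLeft X v).flip h2'
  have := InfAgree.isIso_cmp (k := k) (B := A) (A := B)
  let c : InfSub.sp k (A ⊗[k] B) ⟶ X ⊗ Y := InfAgree.cmp k A B ≫ (u ▷ InfSub.sp k B) ≫ (X ◁ v)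
  have : IsSchemeTheoreticallyDominant c.left := by
    simp only [c, Over.comp_left]; infer_instance
  have : QuasiCompact c.left := by
    simp only [c, Over.comp_left]; infer_instance
  have hinj : Function.Injective (pb c) := by
    have := Image.appTop_injective c.left
    exact (ConcreteCategory.bijective_of_isIso (Scheme.ΓSpecIso (CommRingCat.of (A ⊗[k] B))).hom).1.comp this
  -- the three functions on the chart
  have hcfst : c ≫ fst X Y = InfSub.spMap Algebra.TensorProduct.includeLeft ≫ u := by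
    simp [c, InfAgree.cmp]
  have hcsnd : c ≫ snd X Y = InfSub.spMap Algebra.TensorProduct.includeRight ≫ v := by
    simp [c, InfAgree.cmp]
  clear_value c
  let F := pb c f
  let eL : A ⊗[k] B →ₐ[k] A :=
    Algebra.TensorProduct.productMap (AlgHom.id k A) ((Algebra.ofId k A).comp eB)
  let eR : A ⊗[k] B →ₐ[k] B :=
    Algebra.TensorProduct.productMap ((Algebra.ofId k B).comp eA) (AlgHom.id k B)
  have hL : InfSub.spMap eL ≫ c = u ≫ lift (𝟙 X) (toUnit X ≫ y₀) := by
    refine CartesianMonoidalCategory.hom_ext _ _ ?_ ?_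
    · rw [Category.assoc, Category.assoc, hcfst, lift_fst, Category.comp_id, ← Category.assoc, ← InfSub.spMap_comp]
      rw [show eL.comp Algebra.TensorProduct.includeLeft = AlgHom.id k A by ext; simp [eL]]
      exact (congrArg (· ≫ u) (Over.OverMorphism.ext (Spec.map_id _))).trans (Category.id_comp u)
    · rw [Category.assoc, Category.assoc, hcsnd, lift_snd, ← Category.assoc, ← InfSub.spMap_comp]
      rw [show eL.comp Algebra.TensorProduct.includeRight = (Algebra.ofId k A).comp eB by ext; simp [eL],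
        spMap_ofId, Category.assoc, heB, ← Category.assoc u (toUnit X), toUnit_unique (u ≫ toUnit X) (toUnit _)]
  have hR : InfSub.spMap eR ≫ c = v ≫ lift (toUnit Y ≫ x₀) (𝟙 Y) := by
    refine CartesianMonoidalCategory.hom_ext _ _ ?_ ?_
    · rw [Category.assoc, Category.assoc, hcfst, lift_fst, ← Category.assoc, ← InfSub.spMap_comp]
      rw [show eR.comp Algebra.TensorProduct.includeLeft = (Algebra.ofId k B).comp eA by ext; simp [eR],
        spMap_ofId, Category.assoc, heA, ← Category.assoc v (toUnit Y), toUnit_unique (v ≫ toUnit Y) (toUnit _)]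
    · rw [Category.assoc, Category.assoc, hcsnd, lift_snd, Category.comp_id, ← Category.assoc, ← InfSub.spMap_comp]
      rw [show eR.comp Algebra.TensorProduct.includeRight = AlgHom.id k B by ext; simp [eR]]
      exact (congrArg (· ≫ v) (Over.OverMorphism.ext (Spec.map_id _))).trans (Category.id_comp v)
  let e₀ : A ⊗[k] B →ₐ[k] k := Algebra.TensorProduct.productMap eA eB
  have h0 : valAt (lift x₀ y₀) f = e₀ F := by
    have : InfSub.ptOf e₀ ≫ c = lift x₀ y₀ := by
      refine CartesianMonoidalCategory.hom_ext _ _ ?_ ?_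
      · rw [Category.assoc, hcfst, lift_fst, ← Category.assoc, ← heA]
        congr 1
        ext1
        rw [Over.comp_left]
        refine (Spec.map_comp _ _).symm.trans ?_
        congr 1
        ext a
        exact (Algebra.TensorProduct.productMap_apply_tmul eA eB a 1).trans (by simp)
      · rw [Category.assoc, hcsnd, lift_snd, ← Category.assoc, ← heB]
        congr 1
        ext1
        rw [Over.comp_left]
        refine (Spec.map_comp _ _).symm.trans ?_
        congr 1
        ext a
        exact (Algebra.TensorProduct.productMap_apply_tmul eA eB 1 a).trans (by simp)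
    rw [← this, valAt_ptOf]
  apply hinj
  rw [map_mul, map_mul, pb_const, ← pb_comp c (fst X Y), hcfst, pb_spMap,
    ← pb_comp c (snd X Y), hcsnd, pb_spMap, ← pb_comp u, ← pb_comp v, ← hL, ← hR, pb_spMap, pb_spMap, h0]
  have : _root_.IsReduced (A ⊗[k] B) := RedSubgroup.isReduced_tensor B A
  have : Algebra.FiniteType k (A ⊗[k] B) := by
    have : Algebra.FiniteType A (A ⊗[k] B) := inferInstance
    exact Algebra.FiniteType.trans hA this
  refine eq_of_forall_point (k := k) fun z => ?_
  let x := z.comp (Algebra.TensorProduct.includeLeft : A →ₐ[k] A ⊗[k] B)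
  let y := z.comp (Algebra.TensorProduct.includeRight : B →ₐ[k] A ⊗[k] B)
  have hz : z = Algebra.TensorProduct.productMap x y := Algebra.TensorProduct.ext' fun a b => by
    simp [x, y, ← map_mul]
  have hx : ∀ w, x (eL w) = Algebra.TensorProduct.productMap x eB w := fun w => by
    change (x.comp eL) w = _
    congr 1
    exact Algebra.TensorProduct.ext' fun a b => by simp [eL, map_mul]
  have hy : ∀ w, y (eR w) = Algebra.TensorProduct.productMap eA y w := fun w => by
    change (y.comp eR) w = _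
    congr 1
    exact Algebra.TensorProduct.ext' fun a b => by simp [eR, map_mul]
  rw [map_mul, map_mul, AlgHom.commutes, Algebra.algebraMap_self_apply]
  change z F * e₀ F = x (eL F) * y (eR F)
  rw [hx, hy, hz]
  exact (Lib.UnitsProd.ev_mul_ev F (hf.map (pb c)) x eA y eB).trans (_root_.mul_comm _ _)

/-- A variety has a rational point. -/
theorem exists_point (X : Over (Spec (CommRingCat.of k))) [LocallyOfFiniteType X.hom] [QuasiCompact X.hom] [Nonempty X.left] :
    Nonempty (𝟙_ (Over (Spec (CommRingCat.of k))) ⟶ X) := by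
  obtain ⟨y, -⟩ := GrpSch.exists_point_mem (X := X) (W := Set.univ) isClosed_univ Set.univ_nonempty
  exact ⟨y⟩

omit [IsAlgClosed k] in
theorem isUnit_const {Z : Over (Spec (CommRingCat.of k))} {c : k} (hc : IsUnit c) :
    IsUnit (((Scheme.ΓSpecIso (CommRingCat.of k)).inv ≫ Z.hom.appTop).hom c) :=
  hc.map _

omit [IsAlgClosed k] in
theorem valAt_const {Z : Over (Spec (CommRingCat.of k))} (z : 𝟙_ (Over (Spec (CommRingCat.of k))) ⟶ Z) (c : k) :
    valAt z (((Scheme.ΓSpecIso (CommRingCat.of k)).inv ≫ Z.hom.appTop).hom c) = c := by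
  have h : ∀ x, z.left.appTop (Z.hom.appTop x) = x := fun x => by
    change (Z.hom.appTop ≫ z.left.appTop) x = x
    rw [← Scheme.Hom.comp_appTop, Over.w z]
    rfl
  change (Scheme.ΓSpecIso (CommRingCat.of k)).hom (z.left.appTop (Z.hom.appTop _)) = _
  rw [h]
  exact Iso.inv_hom_id_apply _ _

omit [IsAlgClosed k] in
theorem valAt_comp {Z Z' : Over (Spec (CommRingCat.of k))} (z : 𝟙_ (Over (Spec (CommRingCat.of k))) ⟶ Z)
    (g : Z ⟶ Z') (s : Γ(Z'.left, ⊤)) : valAt z (g.left.appTop s) = valAt (z ≫ g) s := by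
  simp [valAt, Over.comp_left]

omit [IsAlgClosed k] in
theorem map_const {Z Z' : Over (Spec (CommRingCat.of k))} (g : Z ⟶ Z') (c : k) :
    g.left.appTop (((Scheme.ΓSpecIso (CommRingCat.of k)).inv ≫ Z'.hom.appTop).hom c) =
      ((Scheme.ΓSpecIso (CommRingCat.of k)).inv ≫ Z.hom.appTop).hom c := by
  rw [← Over.w g, Scheme.Hom.comp_appTop]
  rfl

omit [IsAlgClosed k] in
theorem appTop_toUnit_comp {Z Z' : Over (Spec (CommRingCat.of k))} (z : 𝟙_ (Over (Spec (CommRingCat.of k))) ⟶ Z')
    (s : Γ(Z'.left, ⊤)) :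
    (toUnit Z ≫ z).left.appTop s = ((Scheme.ΓSpecIso (CommRingCat.of k)).inv ≫ Z.hom.appTop).hom (valAt z s) := by
  change (toUnit Z ≫ z).left.appTop s = Z.hom.appTop ((Scheme.ΓSpecIso (CommRingCat.of k)).inv
    ((Scheme.ΓSpecIso (CommRingCat.of k)).hom (z.left.appTop s)))
  rw [Over.comp_left, Scheme.Hom.comp_appTop, Iso.hom_inv_id_apply]
  rfl

/-- A normalised unit on a connected group is a character. -/
theorem character {G : Over (Spec (CommRingCat.of k))} [GrpObj G] [Smooth G.hom] [QuasiCompact G.hom]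
    [ConnectedSpace G.left] (f : Γ(G.left, ⊤)) (hf : IsUnit f) (he : η[G].left.appTop f = 1) :
    μ[G].left.appTop f = (fst G G).left.appTop f * (snd G G).left.appTop f := by
  have : IsIntegral G.left := H1.GrpIrred.isIntegral G
  have := GrpSch.isSeparated_of_field G
  have hv : valAt η[G] f = 1 := by
    change (Scheme.ΓSpecIso (CommRingCat.of k)).hom (η[G].left.appTop f) = 1
    rw [he, map_one]
  have h := units_prod η[G] η[G] (μ[G].left.appTop f) (hf.map _)
  rw [valAt_comp, show lift η[G] η[G] ≫ μ[G] = η[G] by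
      rw [← Hom.mul_def, show η[G] = (1 : 𝟙_ _ ⟶ G) by
        rw [Hom.one_def, toUnit_unique (toUnit _) (𝟙 _), Category.id_comp], _root_.one_mul],
    hv, map_one, _root_.mul_one] at h
  have e1 : lift (𝟙 G) (toUnit G ≫ η[G]) ≫ μ[G] = 𝟙 G := by
    rw [← Hom.mul_def, ← Hom.one_def, _root_.mul_one]
  have e2 : lift (toUnit G ≫ η[G]) (𝟙 G) ≫ μ[G] = 𝟙 G := by
    rw [← Hom.mul_def, ← Hom.one_def, _root_.one_mul]
  have e3 : ∀ (t : G ⟶ G ⊗ G), t ≫ μ[G] = 𝟙 G → t.left.appTop (μ[G].left.appTop f) = f := fun t ht => by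
    change (μ[G].left.appTop ≫ t.left.appTop) f = f
    rw [← Scheme.Hom.comp_appTop, ← Over.comp_left, ht]
    simp
  rwa [e3 _ e1, e3 _ e2] at h

/-- Units on the product of a connected group and a variety. -/
theorem units_grp_prod {G : Over (Spec (CommRingCat.of k))} [GrpObj G] [Smooth G.hom] [QuasiCompact G.hom]
    [ConnectedSpace G.left] [IsIntegral X.left] [IsSeparated X.hom] [LocallyOfFiniteType X.hom] [QuasiCompact X.hom]
    (f : Γ((G ⊗ X).left, ⊤)) (hf : IsUnit f) :
    ∃ χ : Γ(G.left, ⊤), IsUnit χ ∧ η[G].left.appTop χ = 1 ∧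
      μ[G].left.appTop χ = (fst G G).left.appTop χ * (snd G G).left.appTop χ ∧
      f = (fst G X).left.appTop χ * (snd G X).left.appTop ((lift (toUnit X ≫ η[G]) (𝟙 X)).left.appTop f) := by
  have : IsIntegral G.left := H1.GrpIrred.isIntegral G
  have := GrpSch.isSeparated_of_field G
  obtain ⟨x₀⟩ := exists_point X
  let c := valAt (lift η[G] x₀) f
  have hc : IsUnit c := hf.map _
  let g := (lift (𝟙 G) (toUnit G ≫ x₀)).left.appTop f
  obtain ⟨d, hd⟩ := hc.exists_right_inv
  let χ := g * ((Scheme.ΓSpecIso (CommRingCat.of k)).inv ≫ G.hom.appTop).hom d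
  have hd' : IsUnit d := IsUnit.of_mul_eq_one_right _ hd
  have hχu : IsUnit χ := (hf.map _).mul (isUnit_const hd')
  have hχe : η[G].left.appTop χ = 1 := by
    apply (ConcreteCategory.bijective_of_isIso (Scheme.ΓSpecIso (CommRingCat.of k)).hom).1
    rw [map_one]
    change valAt η[G] χ = 1
    rw [map_mul, valAt_comp, valAt_const, show η[G] ≫ lift (𝟙 G) (toUnit G ≫ x₀) = lift η[G] x₀ by
      rw [comp_lift, Category.comp_id, ← Category.assoc, toUnit_unique (η[G] ≫ toUnit G) (𝟙 _), Category.id_comp]]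
    exact hd
  refine ⟨χ, hχu, hχe, character χ hχu hχe, ?_⟩
  have h := units_prod η[G] x₀ f hf
  rw [map_mul, map_const]
  have hcd : ((Scheme.ΓSpecIso (CommRingCat.of k)).inv ≫ (G ⊗ X).hom.appTop).hom c *
      ((Scheme.ΓSpecIso (CommRingCat.of k)).inv ≫ (G ⊗ X).hom.appTop).hom d = 1 := by
    rw [← map_mul, hd, map_one]
  calc f = f * ((Scheme.ΓSpecIso (CommRingCat.of k)).inv ≫ (G ⊗ X).hom.appTop).hom c *
        ((Scheme.ΓSpecIso (CommRingCat.of k)).inv ≫ (G ⊗ X).hom.appTop).hom d := by
        rw [_root_.mul_assoc, hcd, _root_.mul_one]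
    _ = _ := by rw [h]; ring

end

end Groth.Agent.Lib.GrpQ.Rosenlicht
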