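import Groth.Agent.Lib.GrpQ.SemiInvDesc
import Groth.Agent.H66.Chevalley
import Mathlib.LinearAlgebra.Matrix.Adjugate

/-!
A normal Hopf ideal is cut out by finitely many invariant functions.
-/

set_option autoImplicit false

universe u

open TensorProduct CoalgebraStruct Matrix

namespace Groth.Agent.Lib.GrpQ.SemiInv

noncomputable section

variable {k A : Type u} [Field k] [CommRing A] [HopfAlgebra k A]

theorem semi_minor {ι : Type} [Fintype ι] [DecidableEq ι] {P : Matrix ι ι A} (hP : H66.MatComod.IsMat k P)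
    {d : ℕ} (s : Fin d ↪ ι) (I : Ideal A) (hI : H66.Stab.blockIdeal P s ≤ I) (r : Fin d → ι) :
    (Ideal.Quotient.mkₐ k I).toLinearMap.lTensor A (comul (R := k) (P.submatrix r s).det) =
      (P.submatrix r s).det ⊗ₜ[k] Ideal.Quotient.mkₐ k I (P.submatrix s s).det := by
  let π : A →ₐ[k] A ⧸ I := Ideal.Quotient.mkₐ k I
  let F : A →ₐ[k] A ⊗[k] (A ⧸ I) :=
    (Algebra.TensorProduct.map (AlgHom.id k A) π).comp (Bialgebra.comulAlgHom k A)
  let iL : A →ₐ[k] A ⊗[k] (A ⧸ I) := Algebra.TensorProduct.includeLeft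
  let iR : A →ₐ[k] A ⊗[k] (A ⧸ I) :=
    (Algebra.TensorProduct.includeRight : A ⧸ I →ₐ[k] A ⊗[k] (A ⧸ I)).comp π
  have hF : (P.submatrix r s).map F = (P.submatrix r s).map iL * (P.submatrix s s).map iR := by
    ext a b
    simp only [Matrix.map_apply, Matrix.mul_apply, Matrix.submatrix_apply]
    have hrest : ∀ l, l ∉ Finset.univ.map s → P (r a) l ⊗ₜ[k] π (P l (s b)) = (0 : A ⊗[k] (A ⧸ I)) := by
      intro l hl
      rw [show π (P l (s b)) = 0 from Ideal.Quotient.eq_zero_iff_mem.2 (hI (H66.Stab.mem_blockIdeal P s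
        (fun ⟨c, hc⟩ => hl (Finset.mem_map.2 ⟨c, Finset.mem_univ _, hc⟩)) b)), TensorProduct.tmul_zero]
    have h1 : F (P (r a) (s b)) = ∑ l, P (r a) l ⊗ₜ[k] π (P l (s b)) := by
      simp [F, hP.1]
    rw [h1, ← Finset.sum_subset (Finset.subset_univ (Finset.univ.map s)) fun l _ hl => hrest l hl,
      Finset.sum_map]
    exact Finset.sum_congr rfl fun c _ => by simp [iL, iR]
  change F (P.submatrix r s).det = _
  rw [AlgHom.map_det, AlgHom.mapMatrix_apply, hF, Matrix.det_mul, ← AlgHom.mapMatrix_apply, ← AlgHom.map_det,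
    ← AlgHom.mapMatrix_apply, ← AlgHom.map_det]
  simp [iL, iR, π]

theorem counit_minor {ι : Type} [Fintype ι] [DecidableEq ι] {P : Matrix ι ι A} (hP : H66.MatComod.IsMat k P)
    {d : ℕ} (s : Fin d ↪ ι) (r : Fin d → ι) :
    counit (R := k) (P.submatrix r s).det = (Matrix.of fun a b => if r a = s b then (1 : k) else 0).det := by
  rw [← Bialgebra.counitAlgHom_apply, AlgHom.map_det]
  congr 1
  ext a b
  simp [hP.2]

variable [Algebra.FiniteType k A]

/-- Finitely many invariant functions cutting out a normal Hopf ideal. -/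
theorem exists_invariants (I : Ideal A) [I.IsHopfIdeal k] (hI : SGA3.IsNormalHopfIdeal k A I) :
    ∃ T : Finset A,
      (∀ x ∈ T, (Ideal.Quotient.mkₐ k I).toLinearMap.lTensor A (comul (R := k) x) = x ⊗ₜ[k] (1 : A ⧸ I)) ∧
      ∀ J : Ideal A, (∀ x ∈ T, x - algebraMap k A (counit (R := k) x) ∈ J) → I ≤ J := by
  classical
  obtain ⟨ι, _, _, P, d, s, hP, hB⟩ := H66.Chevalley.exists_data (k := k) I
  let mr : (Fin d → ι) → A := fun r => (P.submatrix r s).det
  let c : A ⧸ I := Ideal.Quotient.mkₐ k I (mr s)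
  have hsemi := semi_minor hP s I hB.le
  have hs1 : counit (R := k) (mr s) = (1 : k) := by
    rw [counit_minor hP s s]
    convert Matrix.det_one (n := Fin d) (R := k)
    ext a b
    simp [Matrix.one_apply]
  obtain ⟨c', f, hf, hf1, hcc⟩ := exists_invSemi I hI c (mr s) (hsemi s) hs1
  have hF : ∀ y : A, (Ideal.Quotient.mkₐ k I).toLinearMap.lTensor A (comul (R := k) y) =
      ((Algebra.TensorProduct.map (AlgHom.id k A) (Ideal.Quotient.mkₐ k I)).comp (Bialgebra.comulAlgHom k A)) y :=
    fun y => rfl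
  refine ⟨Finset.univ.image fun r : Fin d → ι => f * mr r, ?_, ?_⟩
  · intro x hx
    obtain ⟨r, -, rfl⟩ := Finset.mem_image.1 hx
    rw [hF, map_mul, ← hF, ← hF, hf, hsemi r, Algebra.TensorProduct.tmul_mul_tmul, mul_comm c', hcc]
  · intro J hJ
    have hε : ∀ r, counit (R := k) (f * mr r) = counit (R := k) (mr r) := fun r => by
      rw [← Bialgebra.counitAlgHom_apply, map_mul, Bialgebra.counitAlgHom_apply, Bialgebra.counitAlgHom_apply,
        hf1, _root_.one_mul]
    have hu : ∀ r, Ideal.Quotient.mk J f * Ideal.Quotient.mk J (mr r) =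
        algebraMap k (A ⧸ J) (counit (R := k) (mr r)) := fun r => by
      rw [← map_mul, ← hε r]
      exact Ideal.Quotient.eq.2 (hJ _ (Finset.mem_image_of_mem _ (Finset.mem_univ r)))
    let M : Matrix (Fin d) (Fin d) (A ⧸ J) := ((P.submatrix s s).map (Ideal.Quotient.mk J))ᵀ
    have hdet : Ideal.Quotient.mk J f * M.det = 1 := by
      rw [Matrix.det_transpose, ← RingHom.mapMatrix_apply, ← RingHom.map_det]
      change Ideal.Quotient.mk J f * Ideal.Quotient.mk J (mr s) = 1
      rw [hu s, hs1, map_one]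
    rw [← hB, H66.Stab.blockIdeal, Ideal.span_le]
    rintro _ ⟨i, b, hi, rfl⟩
    let v : Fin d → A ⧸ J := fun c => Ideal.Quotient.mk J (P i (s c))
    have hv : ∀ a, M.cramer v a = 0 := by
      intro a
      rw [Matrix.cramer_apply]
      have e : M.updateCol a v = ((P.submatrix (Function.update (s : Fin d → ι) a i) s).map (Ideal.Quotient.mk J))ᵀ := by
        ext x y
        by_cases h : y = a
        · subst h; simp [M, v]
        · simp [M, Matrix.updateCol_ne h, Function.update_of_ne h]
      rw [e, Matrix.det_transpose, ← RingHom.mapMatrix_apply, ← RingHom.map_det]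
      change Ideal.Quotient.mk J (mr (Function.update (s : Fin d → ι) a i)) = 0
      have h0 : counit (R := k) (mr (Function.update (s : Fin d → ι) a i)) = (0 : k) := by
        rw [counit_minor hP s]
        refine Matrix.det_eq_zero_of_row_eq_zero a fun y => ?_
        simp only [Matrix.of_apply, Function.update_self]
        exact if_neg fun h => hi ⟨y, h.symm⟩
      have h2 := hu (Function.update (s : Fin d → ι) a i)
      rw [h0, map_zero] at h2
      calc Ideal.Quotient.mk J (mr (Function.update (s : Fin d → ι) a i))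
          = M.det * (Ideal.Quotient.mk J f * Ideal.Quotient.mk J (mr (Function.update (s : Fin d → ι) a i))) := by
            rw [← _root_.mul_assoc, mul_comm M.det, hdet, _root_.one_mul]
        _ = 0 := by rw [h2, mul_zero]
    have hmv := Matrix.mulVec_cramer M v
    rw [show M.cramer v = 0 from funext hv, Matrix.mulVec_zero] at hmv
    refine Ideal.Quotient.eq_zero_iff_mem.1 ?_
    change v b = 0
    calc v b = Ideal.Quotient.mk J f * (M.det • v) b := by
          rw [Pi.smul_apply, smul_eq_mul, ← _root_.mul_assoc, hdet, _root_.one_mul]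
      _ = 0 := by rw [← hmv, Pi.zero_apply, mul_zero]

end

end Groth.Agent.Lib.GrpQ.SemiInv
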