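import Groth.Agent.Lib.GrpSch.GeomPoints
import Groth.Agent.Lib.GrpSch.Translate
import Groth.Agent.Lib.GrpSch.GenericIso
import Groth.Agent.Lib.GrpQ.Desc
import Groth.Agent.H1.GrpIrred

/-!
For a connected algebraic group and an open neighbourhood `W` of the unit, multiplication
`W ⊗ W ⟶ H` is faithfully flat.
-/

set_option autoImplicit false

universe u

open CategoryTheory Limits MonoidalCategory CartesianMonoidalCategory MonObj AlgebraicGeometry

namespace Groth.Agent.Lib.GrpQ.GenCover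

noncomputable section

variable {k : Type u} [Field k] {H W : Over (Spec (CommRingCat.of k))} [GrpObj H]

/-- Multiplication of two points of the chart. -/
abbrev mW (v : W ⟶ H) : W ⊗ W ⟶ H := (v ⊗ₘ v) ≫ μ[H]

theorem lift_mW {T : Over (Spec (CommRingCat.of k))} (v : W ⟶ H) (a b : T ⟶ W) :
    lift a b ≫ mW v = (a ≫ v) * (b ≫ v) := by
  rw [mW, Hom.mul_def, ← Category.assoc, lift_map]

theorem flat_mul : Flat μ[H].left :=
  GrpSch.act_left_of (GrpSch.regularAction H) (P := @Flat) (GrpSch.flat_of_isField (Field.toIsField k) H.hom)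

theorem isCover_mW [LocallyOfFiniteType H.hom] [QuasiCompact H.hom] [ConnectedSpace H.left]
    (v : W ⟶ H) [IsOpenImmersion v.left] (e : 𝟙_ (Over (Spec (CommRingCat.of k))) ⟶ W) (he : e ≫ v = η[H]) :
    IsCover (mW v) := by
  have := GrpSch.isSeparated_of_field H
  have : IsLocallyNoetherian H.left := LocallyOfFiniteType.isLocallyNoetherian H.hom
  have : CompactSpace H.left := QuasiCompact.compactSpace_of_compactSpace H.hom
  have : JacobsonSpace H.left := LocallyOfFiniteType.jacobsonSpace H.hom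
  have : QuasiSeparatedSpace H.left := quasiSeparatedSpace_of_quasiSeparated H.hom
  have : LocallyOfFiniteType W.hom := by rw [← Over.w v]; infer_instance
  have : QuasiCompact W.hom := by rw [← Over.w v]; infer_instance
  have : LocallyOfFiniteType (W ⊗ W).hom :=
    inferInstanceAs (LocallyOfFiniteType (pullback.fst W.hom W.hom ≫ W.hom))
  have : QuasiCompact (W ⊗ W).hom := inferInstanceAs (QuasiCompact (pullback.fst W.hom W.hom ≫ W.hom))
  have := flat_mul (H := H)
  have : Flat (v ⊗ₘ v).left := GrpSch.tensorHom_left_of (P := @Flat) v v inferInstance inferInstance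
  have hflat : Flat (mW v).left := by rw [mW, Over.comp_left]; infer_instance
  have := locallyOfFiniteType_left (mW v)
  have := quasiCompact_left (mW v)
  refine ⟨hflat, GrpSch.surjective_of_closedPoints _ fun c hc => ?_, inferInstance⟩
  let K := AlgebraicClosure k
  let b := GrpSch.extBase k K
  let T : Over (Spec (CommRingCat.of k)) := Over.mk b
  let H' : Over (Spec (CommRingCat.of k)) := Over.mk ((Red.bc b H).hom ≫ b)
  let pr : H' ⟶ H := Over.homMk (GrpSch.bcProj b H) (GrpSch.isPullback_bc b H).w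
  let q : H' ⟶ T := Over.homMk (Red.bc b H).hom rfl
  have hlift : ∀ z : T ⟶ H, ∃ w : T ⟶ H', w ≫ pr = z ∧ w ≫ q = 𝟙 T := fun z => by
    refine ⟨Over.homMk ((GrpSch.isPullback_bc b H).lift z.left (𝟙 _)
      ((Over.w z).trans (Category.id_comp b).symm)) ?_, ?_, ?_⟩
    · change _ ≫ (Red.bc b H).hom ≫ b = b
      rw [IsPullback.lift_snd_assoc]
      exact Category.id_comp b
    · ext1; exact IsPullback.lift_fst _ _ _ _
    · ext1; exact IsPullback.lift_snd _ _ _ _
  have : LocallyOfFiniteType (Red.bc b H).hom := GrpSch.bc_hom_of (P := @LocallyOfFiniteType) b H ‹_›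
  have : QuasiCompact (Red.bc b H).hom := GrpSch.bc_hom_of (P := @QuasiCompact) b H ‹_›
  have : JacobsonSpace (Red.bc b H).left := LocallyOfFiniteType.jacobsonSpace (Red.bc b H).hom
  have : ConnectedSpace (Red.bc b H).left := H1.GrpIrred.connectedSpace_bc H K
  have : IrreducibleSpace (Red.bc b H).left := H1.GrpIrred.irreducibleSpace_of_isAlgClosed (Red.bc b H)
  -- a geometric point over `c`
  obtain ⟨w₀, hw₀⟩ := GrpSch.exists_point_mem (X := Red.bc b H) (W := GrpSch.bcProj b H ⁻¹' {c})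
    ((mem_closedPoints_iff.1 hc).preimage (GrpSch.bcProj b H).continuous)
    ((Set.singleton_nonempty c).preimage (GrpSch.bcProj_of (P := @Surjective) b H
      (GrpSch.extBase_surjective_flat_qc k K).1.1).surj)
  let x : T ⟶ H := Over.homMk (w₀.left ≫ GrpSch.bcProj b H) (by
    rw [Category.assoc, (GrpSch.isPullback_bc b H).w, ← Category.assoc, Over.w w₀]
    exact Category.id_comp b)
  let U₁ : (Red.bc b H).left.Opens := pr.left ⁻¹ᵁ v.left.opensRange
  let U₂ : (Red.bc b H).left.Opens := (pr⁻¹ * (q ≫ x)).left ⁻¹ᵁ v.left.opensRange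
  let s : ↥(T.left) := IsLocalRing.closedPoint K
  have hη : ∀ t, (1 : T ⟶ H).left t ∈ v.left.opensRange := fun t => by
    rw [Hom.one_def, ← he]
    exact ⟨(toUnit T ≫ e).left t, rfl⟩
  obtain ⟨w₁, hw₁, -⟩ := hlift 1
  obtain ⟨w₂, hw₂, hw₂'⟩ := hlift x
  have hne1 : (U₁ : Set (Red.bc b H).left).Nonempty := by
    refine ⟨w₁.left s, ?_⟩
    change pr.left (w₁.left s) ∈ v.left.opensRange
    rw [← Scheme.Hom.comp_apply, ← Over.comp_left, hw₁]
    exact hη s
  have hne2 : (U₂ : Set (Red.bc b H).left).Nonempty := by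
    refine ⟨w₂.left s, ?_⟩
    change (pr⁻¹ * (q ≫ x)).left (w₂.left s) ∈ v.left.opensRange
    rw [← Scheme.Hom.comp_apply, ← Over.comp_left, MonObj.comp_mul, GrpObj.comp_inv, hw₂, reassoc_of% hw₂',
      inv_mul_cancel]
    exact hη s
  obtain ⟨z, hz, hzc⟩ := nonempty_inter_closedPoints (X := (Red.bc b H).left)
    (Z := (U₁ : Set (Red.bc b H).left) ∩ U₂)
    (nonempty_preirreducible_inter U₁.2 U₂.2 hne1 hne2) ((U₁.2.inter U₂.2).isLocallyClosed)
  let zp := pointOfClosedPoint (Red.bc b H).hom z hzc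
  let w : T ⟶ H' := Over.homMk zp (by
    change zp ≫ (Red.bc b H).hom ≫ b = b
    rw [reassoc_of% (pointOfClosedPoint_comp (Red.bc b H).hom z hzc)])
  have hwz : ∀ t, w.left t = z := fun t => pointOfClosedPoint_apply (Red.bc b H).hom z hzc t
  have hwq : w ≫ q = 𝟙 T := by
    ext1
    exact pointOfClosedPoint_comp (Red.bc b H).hom z hzc
  have hfac : ∀ y : T ⟶ H, (∀ t, y.left t ∈ v.left.opensRange) → ∃ y' : T ⟶ W, y' ≫ v = y := fun y hy => by
    refine ⟨Over.homMk (IsOpenImmersion.lift v.left y.left (by rintro _ ⟨t, rfl⟩; exact hy t)) ?_, ?_⟩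
    · rw [← Over.w v, IsOpenImmersion.lift_fac_assoc, Over.w]
    · ext1; exact IsOpenImmersion.lift_fac _ _ _
  obtain ⟨a', ha'⟩ := hfac (w ≫ pr) fun t => by
    rw [Over.comp_left, Scheme.Hom.comp_apply, hwz]; exact hz.1
  obtain ⟨b', hb'⟩ := hfac (w ≫ (pr⁻¹ * (q ≫ x))) fun t => by
    rw [Over.comp_left, Scheme.Hom.comp_apply, hwz]; exact hz.2
  refine ⟨(lift a' b').left s, ?_⟩
  rw [← Scheme.Hom.comp_apply, ← Over.comp_left, lift_mW, ha', hb', MonObj.comp_mul, GrpObj.comp_inv,
    mul_inv_cancel_left, reassoc_of% hwq]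
  exact hw₀ ⟨s, rfl⟩

theorem isCover_whiskerLeft {X Y : Over (Spec (CommRingCat.of k))} (P : Over (Spec (CommRingCat.of k)))
    {f : X ⟶ Y} (hf : IsCover f) : IsCover (P ◁ f) :=
  ⟨GrpSch.whiskerLeft_left_of (P := @Flat) _ _ hf.1, GrpSch.whiskerLeft_left_of (P := @Surjective) _ _ hf.2.1,
    GrpSch.whiskerLeft_left_of (P := @QuasiCompact) _ _ hf.2.2⟩

end

end Groth.Agent.Lib.GrpQ.GenCover
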