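import Groth.Agent.Lib.GrpQ.InfAgree
import Groth.Agent.Lib.GrpQ.GenCover
import Groth.Agent.Lib.GrpQ.AffineQuot

/-!
Points killed by the affine hull act trivially near fixed points; they are central in connected
groups; quotients by subgroups containing them are affine.
-/

set_option autoImplicit false

universe u

open CategoryTheory Limits MonoidalCategory CartesianMonoidalCategory MonObj AlgebraicGeometry

namespace Groth.Agent.Lib.GrpQ.AffKer

noncomputable section

variable {k : Type u} [Field k]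

/-- A point killed by the affine hull. -/
def Killed {G P : Over (Spec (CommRingCat.of k))} [GrpObj G] (g : P ⟶ G) : Prop :=
  g ≫ Affinization.rho G = toUnit P ≫ η[G] ≫ Affinization.rho G

variable {G : Over (Spec (CommRingCat.of k))} [GrpObj G]

theorem killed_comp {P P' : Over (Spec (CommRingCat.of k))} {g : P ⟶ G} (h : Killed g) (t : P' ⟶ P) :
    Killed (t ≫ g) := by
  rw [Killed, Category.assoc, h, ← Category.assoc t, toUnit_unique (t ≫ toUnit P) (toUnit P')]

theorem killed_of_comp {P P' : Over (Spec (CommRingCat.of k))} {g : P ⟶ G} {t : P' ⟶ P} (ht : IsCover t)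
    (h : Killed (t ≫ g)) : Killed g := by
  refine cancel_cover ht ?_
  rw [← Category.assoc, h, ← Category.assoc t, toUnit_unique (t ≫ toUnit P) (toUnit P')]

/-- On an anti-affine group every point is killed. -/
theorem killed_id [QuasiCompact G.hom] [IsIso G.hom.appTop] : Killed (𝟙 G) := by
  have := GrpSch.isSeparated_of_field G
  have : IsIso (toUnit G).left.appTop := ‹IsIso G.hom.appTop›
  obtain ⟨c, hc⟩ := Affinization.exists_fac (toUnit G) (Affinization.rho G)
  have hc' : c = η[G] ≫ Affinization.rho G := by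
    rw [← hc, ← Category.assoc, toUnit_unique (η[G] ≫ toUnit G) (𝟙 _), Category.id_comp]
  rw [Killed, Category.id_comp, ← hc', hc]

/-- Killed points act trivially on the infinitesimal neighbourhoods of a fixed point. -/
theorem agreeInf_act [QuasiCompact G.hom] {X : Over (Spec (CommRingCat.of k))} (a : AlgGrp.Action G X)
    {A : Type u} [CommRing A] [Algebra k A] (e : A →ₐ[k] k) (j : InfSub.sp k A ⟶ X)
    (hfix : a.IsFixedPt (InfSub.ptOf e ≫ j)) {P : Over (Spec (CommRingCat.of k))} (g : P ⟶ G) (hg : Killed g) :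
    InfAgree.AgreeInf e j ((g ▷ X) ≫ a.act) (snd P X) := by
  intro n
  have := GrpSch.isSeparated_of_field G
  let C := InfAgree.nbhRing e n
  obtain ⟨W, _, w, f', hf'⟩ := InfAgree.exists_affine_factor e ((G ◁ InfAgree.nbhIncl e j n) ≫ a.act)
    (InfSub.ptOf e ≫ j) (by
    rw [← MonoidalCategory.whiskerLeft_comp_assoc, InfAgree.ptOf_nbhIncl]
    have h := hfix (G ⊗ 𝟙_ _) (fst _ _)
    rw [show lift (fst G (𝟙_ _)) (toUnit (G ⊗ 𝟙_ _) ≫ InfSub.ptOf e ≫ j) = G ◁ (InfSub.ptOf e ≫ j) by
      rw [toUnit_unique (toUnit (G ⊗ 𝟙_ _)) (snd G (𝟙_ _))]; ext1 <;> simp] at h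
    exact h)
  have : IsAffine (InfSub.sp k C).left := inferInstanceAs (IsAffine (Spec (CommRingCat.of C)))
  have := Affinization.qc_of_isAffine (InfSub.sp k C)
  have := Affinization.qs_of_isAffine (InfSub.sp k C)
  have : IsIso (Over.Hom.left (𝟙 (InfSub.sp k C))).appTop := by
    rw [Over.id_left, Scheme.Hom.id_appTop]; infer_instance
  have : IsAffine (Affinization.aff G).left := inferInstance
  have := Affinization.qc_of_isAffine (Affinization.aff G)
  have := Affinization.qs_of_isAffine (Affinization.aff G)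
  have := Affinization.isIso_tensor_appTop (Affinization.rho G) (𝟙 (InfSub.sp k C))
  obtain ⟨h', hh'⟩ := Affinization.exists_fac (Affinization.rho G ⊗ₘ 𝟙 (InfSub.sp k C)) f'
  have key : (g ▷ InfSub.sp k C) ≫ (Affinization.rho G ⊗ₘ 𝟙 (InfSub.sp k C)) =
      ((toUnit P ≫ η[G]) ▷ InfSub.sp k C) ≫ (Affinization.rho G ⊗ₘ 𝟙 (InfSub.sp k C)) := by
    rw [tensorHom_id, ← comp_whiskerRight, ← comp_whiskerRight, hg, Category.assoc]
  rw [whisker_exchange_assoc, ← hf', ← hh']
  simp only [Category.assoc]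
  rw [reassoc_of% key, reassoc_of% hh', hf', ← whisker_exchange_assoc,
    show ((toUnit P ≫ η[G]) ▷ X) ≫ a.act = snd P X by
      rw [show (toUnit P ≫ η[G]) ▷ X = lift (toUnit (P ⊗ X) ≫ η[G]) (snd P X) by ext1 <;> simp,
        GrpSch.act_η]]

/-- Conjugation through a homomorphism. -/
def conjAct {H : Over (Spec (CommRingCat.of k))} [GrpObj H] (φ : G ⟶ H) [IsMonHom φ] : AlgGrp.Action G H :=
  GrpSch.actionMk ((fst G H ≫ φ) * snd G H * (fst G H ≫ φ)⁻¹)
    (fun T x => by simp [MonObj.comp_mul, GrpObj.comp_inv])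
    (fun T g h x => by
      simp [MonObj.comp_mul, GrpObj.comp_inv, MonObj.mul_comp, _root_.mul_assoc])

theorem conjAct_apply {H T : Over (Spec (CommRingCat.of k))} [GrpObj H] (φ : G ⟶ H) [IsMonHom φ]
    (g : T ⟶ G) (x : T ⟶ H) : lift g x ≫ (conjAct φ).act = (g ≫ φ) * x * (g ≫ φ)⁻¹ := by
  change lift g x ≫ ((fst G H ≫ φ) * snd G H * (fst G H ≫ φ)⁻¹) = _
  simp [MonObj.comp_mul, GrpObj.comp_inv]

/-- Killed points are central in connected groups. -/
theorem commute_of_killed [QuasiCompact G.hom] {H : Over (Spec (CommRingCat.of k))} [GrpObj H]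
    [LocallyOfFiniteType H.hom] [QuasiCompact H.hom] [ConnectedSpace H.left] (φ : G ⟶ H) [IsMonHom φ]
    {T : Over (Spec (CommRingCat.of k))} (g : T ⟶ G) (hg : Killed g) (y : T ⟶ H) :
    (g ≫ φ) * y = y * (g ≫ φ) := by
  have := GrpSch.isSeparated_of_field H
  have : IsLocallyNoetherian H.left := LocallyOfFiniteType.isLocallyNoetherian H.hom
  obtain ⟨A, _, _, _, j, e, hj, he⟩ := InfAgree.exists_chart H η[H]
  have hfix : (conjAct φ).IsFixedPt (InfSub.ptOf e ≫ j) := fun T' g' => by
    rw [he, conjAct_apply, ← Hom.one_def, _root_.mul_one, mul_inv_cancel]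
  have hA := agreeInf_act (conjAct φ) e j hfix g hg
  obtain ⟨L, _, _, _, v, eL, hv, hev, hfg⟩ := InfAgree.exists_agree_nhd e j _ _ hA
  have hcov := GenCover.isCover_mW v (InfSub.ptOf eL) (hev.trans he)
  have key : (g ▷ H) ≫ (conjAct φ).act = snd T H := by
    refine cancel_cover (GenCover.isCover_whiskerLeft T hcov) ?_
    have e1 : ∀ {T' : Over (Spec (CommRingCat.of k))} (t : T' ⟶ T) (a : T' ⟶ InfSub.sp k L),
        (t ≫ g ≫ φ) * (a ≫ v) * (t ≫ g ≫ φ)⁻¹ = a ≫ v := by
      intro T' t a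
      have h := congrArg (lift t a ≫ ·) hfg
      simp only [← Category.assoc, lift_whiskerLeft, lift_whiskerRight, lift_snd, conjAct_apply] at h
      simpa only [Category.assoc] using h
    have hW : T ◁ GenCover.mW v = lift (fst T (InfSub.sp k L ⊗ InfSub.sp k L))
        ((snd T (InfSub.sp k L ⊗ InfSub.sp k L) ≫ fst _ _ ≫ v) *
          (snd T (InfSub.sp k L ⊗ InfSub.sp k L) ≫ snd _ _ ≫ v)) := by
      ext1
      · simp
      · rw [lift_snd, whiskerLeft_snd, ← MonObj.comp_mul, GenCover.mW, Hom.mul_def, lift_fst_comp_snd_comp]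
    rw [hW]
    simp only [← Category.assoc, lift_whiskerRight, lift_snd, conjAct_apply]
    simp only [Category.assoc]
    generalize hc : fst T (InfSub.sp k L ⊗ InfSub.sp k L) ≫ g ≫ φ = c
    have ea := e1 (fst T (InfSub.sp k L ⊗ InfSub.sp k L)) (snd T _ ≫ fst _ _)
    have eb := e1 (fst T (InfSub.sp k L ⊗ InfSub.sp k L)) (snd T _ ≫ snd _ _)
    rw [hc] at ea eb
    simp only [Category.assoc] at ea eb ⊢
    conv_rhs => rw [← ea, ← eb]
    group
  have h := congrArg (lift (𝟙 T) y ≫ ·) key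
  simp only [← Category.assoc, lift_whiskerRight, lift_snd, conjAct_apply, Category.id_comp] at h
  exact mul_inv_eq_iff_eq_mul.1 h

/-- Existence of affine quotients by normal subgroups containing the killed points. -/
theorem exists_quotient [LocallyOfFiniteType G.hom] [QuasiCompact G.hom]
    {Z : Over (Spec (CommRingCat.of k))} [GrpObj Z] (i : Z ⟶ G) [IsMonHom i] [IsClosedImmersion i.left]
    (hn : AlgGrp.IsNormalHom i) (hk : ∀ (T : Over (Spec (CommRingCat.of k))) (g : T ⟶ G), Killed g → ∃ z : T ⟶ Z, z ≫ i = g) :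
    ∃ (Q : Over (Spec (CommRingCat.of k))) (_ : GrpObj Q) (q : G ⟶ Q), IsMonHom q ∧ IsAffine Q.left ∧
      LocallyOfFiniteType Q.hom ∧ Flat q.left ∧ Surjective q.left ∧ AlgGrp.IsKernel i q := by
  obtain ⟨_, _⟩ := Affinization.exists_grp G
  obtain ⟨hs, hf, hlft⟩ := Affinization.rho_faithfullyFlat G
  let ρ := Affinization.rho G
  have hρ : IsCover ρ := ⟨hf, hs, quasiCompact_left ρ⟩
  have : LocallyOfFiniteType Z.hom := by rw [← Over.w i]; infer_instance
  have : QuasiCompact Z.hom := by rw [← Over.w i]; infer_instance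
  obtain ⟨Z', _, p, i', hp, hi', hpi, hstd, hcl⟩ := Image.exists_image (i ≫ ρ)
  have : IsAffine Z'.left := isAffine_of_isAffineHom i'.left
  obtain ⟨hpf, hps⟩ := Image.flat_surjective p
  have hpc : IsCover p := ⟨hpf, hps, quasiCompact_left p⟩
  have : Mono i' := mono_of_left i'
  have hn' : AlgGrp.IsNormalHom i' := fun T g m => by
    obtain ⟨T₁, p₁, x, hp₁, hx⟩ := exists_lift hρ g
    obtain ⟨T₂, p₂, z, hp₂, hz⟩ := exists_lift hpc (p₁ ≫ m)
    obtain ⟨z', hz'⟩ := hn T₂ (p₂ ≫ x) z
    obtain ⟨w, hw⟩ := exists_factor i' (g * (m ≫ i') * g⁻¹) (hp₂.comp hp₁) (z' ≫ p) (by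
      rw [Category.assoc z', hpi, ← Category.assoc, ← hz', MonObj.mul_comp, MonObj.mul_comp, GrpObj.inv_comp,
        Category.assoc z, ← hpi, MonObj.comp_mul, MonObj.comp_mul, GrpObj.comp_inv]
      simp only [Category.assoc, hx, reassoc_of% hz])
    exact ⟨w, hw.symm⟩
  obtain ⟨A, _, _, e, he⟩ := H1.Hopf.exists_iso (Affinization.aff G)
  have hie : IsIso e.inv.left := ((Over.forget _).mapIso e.symm).isIso_hom
  have hie' : IsIso e.hom.left := ((Over.forget _).mapIso e).isIso_hom
  have : Algebra.FiniteType k A := DomFlat.finiteType_of_locallyOfFiniteType (by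
    rw [← Over.w e.inv]; infer_instance)
  have : IsClosedImmersion (i' ≫ e.hom).left := by rw [Over.comp_left]; infer_instance
  have hn'' : AlgGrp.IsNormalHom (i' ≫ e.hom) := fun T g m => by
    obtain ⟨w, hw⟩ := hn' T (g ≫ e.inv) m
    refine ⟨w, ?_⟩
    rw [← Category.assoc, ← Category.assoc, ← hw, MonObj.mul_comp, MonObj.mul_comp, GrpObj.inv_comp]
    simp
  obtain ⟨Q, _, q', hq', hQaff, hQlft, hqf, hqs, hK⟩ := AffQ.exists_quotient Z' (i' ≫ e.hom) hn''
  let q : G ⟶ Q := ρ ≫ e.hom ≫ q'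
  have hqf' : Flat q.left := by
    simp only [q, Over.comp_left]; infer_instance
  have hqs' : Surjective q.left := by
    simp only [q, Over.comp_left]; infer_instance
  have : Mono i := mono_of_left i
  refine ⟨Q, inferInstance, q, inferInstance, hQaff, hQlft, hqf', hqs', isKernel_of i ?_ fun T x hx => ?_⟩
  · have h := kernel_comp hK
    simp only [q]
    rw [← Category.assoc i, ← hpi, Category.assoc, ← Category.assoc i', h, MonObj.comp_one]
  · obtain ⟨m, hm⟩ := (mem_kernel hK (x ≫ ρ ≫ e.hom)).2 (by simpa [q] using hx)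
    have hm' : m ≫ i' = x ≫ ρ := by
      rw [← cancel_mono e.hom]
      simpa using hm
    obtain ⟨T₁, p₁, z, hp₁, hz⟩ := exists_lift hpc m
    have hkill : Killed ((p₁ ≫ x) * (z ≫ i)⁻¹) := by
      rw [Killed, MonObj.mul_comp, GrpObj.inv_comp, Category.assoc p₁, ← hm', Category.assoc z, ← hpi,
        reassoc_of% hz, mul_inv_cancel, IsMonHom.one_hom, Hom.one_def]
    obtain ⟨z', hz'⟩ := hk T₁ _ hkill
    exact GrpQ.exists_factor i x hp₁ (z' * z) (by rw [MonObj.mul_comp, hz', inv_mul_cancel_right])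

/-- A quotient by a subgroup containing the killed points is affine. -/
theorem isAffine_quotient [LocallyOfFiniteType G.hom] [QuasiCompact G.hom]
    {Q : Over (Spec (CommRingCat.of k))} [GrpObj Q] (q : G ⟶ Q) [IsMonHom q] [Flat q.left] [Surjective q.left]
    (hk : ∀ (T : Over (Spec (CommRingCat.of k))) (g : T ⟶ G), Killed g → g ≫ q = 1) : IsAffine Q.left := by
  have := GrpSch.isSeparated_of_field Q
  obtain ⟨Z, _, i, _, _, hK, hn⟩ := exists_kernel q
  obtain ⟨Q₂, _, q₂, _, hQ₂, _, _, _, hK₂⟩ :=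
    exists_quotient i hn fun T g hg => (mem_kernel hK g).2 (hk T g hg)
  have := GrpSch.isSeparated_of_field Q₂
  have hc : IsCover q := ⟨‹_›, ‹_›, quasiCompact_left q⟩
  have hc₂ : IsCover q₂ := ⟨‹_›, ‹_›, quasiCompact_left q₂⟩
  obtain ⟨u, hu⟩ := exists_desc hc q₂ fun _ a b h =>
    comp_eq_of_kernel hK q₂ (by rw [kernel_comp hK₂, Hom.one_def]) a b h
  obtain ⟨u', hu'⟩ := exists_desc hc₂ q fun _ a b h =>
    comp_eq_of_kernel hK₂ q (by rw [kernel_comp hK, Hom.one_def]) a b h
  let iso : Q ≅ Q₂ :=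
    { hom := u
      inv := u'
      hom_inv_id := cancel_cover hc (by rw [reassoc_of% hu, hu', Category.comp_id])
      inv_hom_id := cancel_cover hc₂ (by rw [reassoc_of% hu', hu, Category.comp_id]) }
  have : IsIso u.left := ((Over.forget _).mapIso iso).isIso_hom
  exact IsAffine.of_isIso u.left

end

end Groth.Agent.Lib.GrpQ.AffKer
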