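import Groth.Agent.H2.Rigid.H0
import Groth.Agent.H4.KernelSquare
import Groth.Agent.Lib.GrpQ.Desc

/-!
# Global functions on products over a field; functions constant on the fibres of a quotient map

`Γ(X × Y) = Γ(X) ⊗ Γ(Y)` as a pushout (`isPushout_prod`); anti-affine: `bijective_iff`.
-/

set_option autoImplicit false

universe u

open CategoryTheory Limits MonoidalCategory CartesianMonoidalCategory MonObj AlgebraicGeometry

namespace Groth.Agent.Lib.GrpQ.GlobalFn

variable {k : Type u} [Field k]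

theorem isField_ΓSpec : IsField Γ(Spec (CommRingCat.of k), ⊤) :=
  (Scheme.ΓSpecIso (CommRingCat.of k)).commRingCatIsoToRingEquiv.toMulEquiv.isField (Field.toIsField k)

/-- `Γ(X ×ₖ T) = Γ(X) ⊗ₖ Γ(T)` for quasi-compact quasi-separated schemes. -/
theorem isPushout_prod {X T P : Scheme.{u}} {iX : X ⟶ Spec (CommRingCat.of k)} {f : T ⟶ Spec (CommRingCat.of k)}
    [QuasiCompact iX] [QuasiSeparated iX] [QuasiCompact f] [QuasiSeparated f]
    {p₁ : P ⟶ X} {p₂ : P ⟶ T} (h : IsPullback p₁ p₂ iX f) :
    IsPushout iX.appTop f.appTop p₁.appTop p₂.appTop := by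
  let := isField_ΓSpec.toField (R := Γ(Spec (CommRingCat.of k), ⊤))
  have hflat : ∀ (Z : Scheme.{u}) (g : Z ⟶ Spec (CommRingCat.of k)), g.appTop.hom.Flat := fun Z g => by
    algebraize [g.appTop.hom]
    exact inferInstanceAs (Module.Flat Γ(Spec (CommRingCat.of k), ⊤) Γ(Z, ⊤))
  have hcX : CompactSpace X := (quasiCompact_iff_compactSpace iX).mp inferInstance
  have hqX : QuasiSeparatedSpace X := quasiSeparatedSpace_of_quasiSeparated iX
  have hcT : CompactSpace T := (quasiCompact_iff_compactSpace f).mp inferInstance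
  have hqT : QuasiSeparatedSpace T := quasiSeparatedSpace_of_quasiSeparated f
  have := isIso_pushoutSection_of_isCompact_of_flat_right_of_ringHomFlat h
    (US := ⊤) (UT := ⊤) (UX := ⊤) (UY := ⊤) le_top le_top (by simp)
    (isAffineOpen_top _) (by simpa using hcT.isCompact_univ)
    (by simpa using isQuasiSeparated_univ_iff.2 hqT)
    (by simpa using hcX.isCompact_univ) (by simpa using isQuasiSeparated_univ_iff.2 hqX)
    (cast (by simp [Scheme.Hom.appTop, Scheme.Hom.app_eq_appLE]) (hflat X iX))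
  exact cast (by simp [Scheme.Hom.appTop, Scheme.Hom.app_eq_appLE]) ((isIso_pushoutSection_iff _ _ _ _).1 this)

variable {X Y : Over (Spec (CommRingCat.of k))}

theorem nontrivial_Γ {Z : Scheme.{u}} [Nonempty Z] : Nontrivial Γ(Z, ⊤) :=
  have : Nonempty (⊤ : Z.Opens) := ⟨⟨Classical.arbitrary _, trivial⟩⟩
  Scheme.component_nontrivial Z ⊤

theorem bijective_iff [Nonempty X.left] :
    Function.Bijective ((Scheme.ΓSpecIso (CommRingCat.of k)).inv ≫ X.hom.appTop).hom ↔
      Function.Surjective X.hom.appTop.hom := by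
  have e : ((Scheme.ΓSpecIso (CommRingCat.of k)).inv ≫ X.hom.appTop).hom =
      X.hom.appTop.hom.comp (Scheme.ΓSpecIso (CommRingCat.of k)).inv.hom := rfl
  have hb : Function.Bijective (Scheme.ΓSpecIso (CommRingCat.of k)).inv.hom :=
    ConcreteCategory.bijective_of_isIso _
  have := nontrivial_Γ (Z := X.left)
  refine ⟨fun h => ?_, fun h => ⟨RingHom.injective _, ?_⟩⟩
  · rw [e, RingHom.coe_comp] at h
    exact h.2.of_comp
  · rw [e, RingHom.coe_comp]
    exact h.comp hb.2

theorem isIso_appTop [Nonempty X.left] (h : Function.Surjective X.hom.appTop.hom) : IsIso X.hom.appTop := by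
  let := isField_ΓSpec.toField (R := Γ(Spec (CommRingCat.of k), ⊤))
  have := nontrivial_Γ (Z := X.left)
  exact (ConcreteCategory.isIso_iff_bijective _).2 ⟨RingHom.injective _, h⟩

theorem isPushout_tensor [QuasiCompact X.hom] [QuasiSeparated X.hom] [QuasiCompact Y.hom]
    [QuasiSeparated Y.hom] :
    IsPushout X.hom.appTop Y.hom.appTop (fst X Y).left.appTop (snd X Y).left.appTop :=
  isPushout_prod (GrpSch.isPullback_left X Y)

theorem isIso_fst_appTop [QuasiCompact X.hom] [QuasiSeparated X.hom] [QuasiCompact Y.hom]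
    [QuasiSeparated Y.hom] [IsIso Y.hom.appTop] : IsIso (fst X Y).left.appTop :=
  (isPushout_tensor (X := X) (Y := Y)).isIso_inl_of_isIso

/-- When the kernel of a quotient map has only constant functions, every function descends. -/
theorem appTop_surjective_of_kernel {G Q N : Over (Spec (CommRingCat.of k))} [GrpObj G] [GrpObj Q]
    [GrpObj N] [QuasiCompact G.hom] [QuasiCompact N.hom] [IsIso N.hom.appTop]
    (i : N ⟶ G) [IsMonHom i] (q : G ⟶ Q) [IsMonHom q] [Flat q.left] [Surjective q.left]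
    (hK : AlgGrp.IsKernel i q) : Function.Surjective q.left.appTop.hom := by
  have := GrpSch.isSeparated_of_field G
  have := GrpSch.isSeparated_of_field N
  have := quasiCompact_left q
  let m : G ⊗ N ⟶ G := fst G N * (snd G N ≫ i)
  let s : G ⟶ G ⊗ N := lift (𝟙 G) 1
  have := isIso_fst_appTop (X := G) (Y := N)
  have h1 : (fst G N).left.appTop ≫ s.left.appTop = 𝟙 _ := by
    rw [← Scheme.Hom.comp_appTop, ← Over.comp_left, lift_fst]
    rfl
  have h2 : m.left.appTop ≫ s.left.appTop = 𝟙 _ := by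
    rw [← Scheme.Hom.comp_appTop, ← Over.comp_left, MonObj.comp_mul, lift_fst, lift_snd_assoc,
      MonObj.one_comp, _root_.mul_one]
    rfl
  have hs : s.left.appTop = inv (fst G N).left.appTop := by
    rw [← IsIso.inv_hom_id_assoc (fst G N).left.appTop s.left.appTop, h1, Category.comp_id]
  have hm : m.left.appTop = (fst G N).left.appTop := by
    rw [hs] at h2
    exact ((IsIso.comp_inv_eq _).1 h2).trans (Category.id_comp _)
  have hsq := H4.KernelSquare.isPullback_left q i hK
  have key : ∀ {Z : Scheme.{u}} (g₁ g₂ : Z ⟶ G.left), g₁ ≫ q.left = g₂ ≫ q.left →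
      g₁ ≫ G.left.toSpecΓ = g₂ ≫ G.left.toSpecΓ := by
    intro Z g₁ g₂ hg
    have e1 := hsq.lift_fst g₁ g₂ hg
    have e2 := hsq.lift_snd g₁ g₂ hg
    generalize hsq.lift g₁ g₂ hg = l at e1 e2
    rw [← e1, ← e2, Category.assoc, Category.assoc]
    congr 1
    rw [Scheme.toSpecΓ_naturality, Scheme.toSpecΓ_naturality, show (fst G N * (snd G N ≫ i)).left.appTop = _ from hm]
  let u := EffectiveEpi.desc q.left G.left.toSpecΓ key
  have hu : q.left ≫ u = G.left.toSpecΓ := EffectiveEpi.fac q.left _ key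
  have e : u.appTop ≫ q.left.appTop = G.left.toSpecΓ.appTop := by
    rw [← hu, Scheme.Hom.comp_appTop]
  rw [Scheme.toSpecΓ_appTop] at e
  intro a
  obtain ⟨b, hb⟩ := (ConcreteCategory.bijective_of_isIso (Scheme.ΓSpecIso Γ(G.left, ⊤)).hom).2 a
  exact ⟨u.appTop.hom b, (congr($(e).hom b)).trans hb⟩

end Groth.Agent.Lib.GrpQ.GlobalFn
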