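import Groth.Agent.Lib.GrpQ.AntiAffSub

/-!
A group is generated by its anti-affine part and an affine subgroup with proper quotient; the
anti-affine part lies in every subgroup with this property.
-/

set_option autoImplicit false

universe u

open CategoryTheory Limits MonoidalCategory CartesianMonoidalCategory MonObj AlgebraicGeometry

namespace Groth.Agent.Lib.GrpQ.AntiAffMul

noncomputable section

variable {k : Type u} [Field k]

/-- Every point of a connected proper group lies in an anti-affine subgroup. -/
theorem exists_antiAff_surjective (A : Over (Spec (CommRingCat.of k))) [GrpObj A] [IsProper A.hom]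
    [ConnectedSpace A.left] :
    ∃ (L : Over (Spec (CommRingCat.of k))) (_ : GrpObj L) (l : L ⟶ A), IsMonHom l ∧ IsClosedImmersion l.left ∧
      LocallyOfFiniteType L.hom ∧ QuasiCompact L.hom ∧ AntiAffSub.AntiAffine L ∧ Surjective l.left := by
  obtain ⟨_, _⟩ := Affinization.exists_grp A
  let ρ := Affinization.rho A
  let B := Affinization.aff A
  have := GrpSch.isSeparated_of_field B
  obtain ⟨hs, -, hlft⟩ := Affinization.rho_faithfullyFlat A
  have : IsFinite B.hom := by
    rw [IsFinite.iff_isProper_and_isAffineHom]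
    refine ⟨?_, inferInstance⟩
    have : IsProper (ρ.left ≫ B.hom) := by rw [Over.w]; infer_instance
    have : Surjective ρ.left := hs
    have : UniversallyClosed B.hom := UniversallyClosed.of_comp_surjective ρ.left B.hom
    exact { }
  have : Finite B.left := by
    have h := Scheme.Hom.finite_preimage_singleton B.hom (IsLocalRing.closedPoint k)
    have hu : B.hom ⁻¹' {IsLocalRing.closedPoint k} = Set.univ :=
      Set.eq_univ_of_forall fun x => Subsingleton.elim (α := Spec (CommRingCat.of k)) _ _
    exact Set.finite_univ_iff.1 (hu ▸ h)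
  have : JacobsonSpace B.left := LocallyOfFiniteType.jacobsonSpace B.hom
  have : ConnectedSpace B.left := hs.surj.connectedSpace ρ.left.continuous
  have : Subsingleton B.left := by
    have hd : DiscreteTopology B.left := inferInstance
    exact PreconnectedSpace.trivial_of_discrete
  obtain ⟨L, _, l, hl, hlc, hK, -⟩ := exists_kernel ρ
  have : LocallyOfFiniteType L.hom := by rw [← Over.w l]; infer_instance
  have : QuasiCompact L.hom := by rw [← Over.w l]; infer_instance
  have := KerRho.isIso_appTop_kernel l hK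
  have h1 : Surjective η[B].left := ⟨fun b => ⟨IsLocalRing.closedPoint k, Subsingleton.elim _ _⟩⟩
  exact ⟨L, inferInstance, l, hl, hlc, inferInstance, inferInstance,
    ConcreteCategory.bijective_of_isIso ((Scheme.ΓSpecIso (CommRingCat.of k)).inv ≫ L.hom.appTop),
    MorphismProperty.of_isPullback (P := @Surjective) (hK.map (Over.forget _)).flip h1⟩

/-- The anti-affine part and an affine subgroup with proper quotient. -/
theorem surjective_and_factor {G N A M : Over (Spec (CommRingCat.of k))} [GrpObj G] [GrpObj N] [GrpObj A] [GrpObj M]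
    [LocallyOfFiniteType G.hom] [QuasiCompact G.hom] [ConnectedSpace G.left] [IsAffine N.left] [IsProper A.hom]
    (i : N ⟶ G) [IsMonHom i] [IsClosedImmersion i.left]
    (q : G ⟶ A) [IsMonHom q] [Surjective q.left] (hq : AlgGrp.IsKernel i q)
    [LocallyOfFiniteType M.hom] [QuasiCompact M.hom] (j : M ⟶ G) [IsMonHom j] [IsClosedImmersion j.left]
    (hM : AntiAffSub.AntiAffine M)
    (hMmax : ∀ (M₁ : Over (Spec (CommRingCat.of k))) [GrpObj M₁] [LocallyOfFiniteType M₁.hom] [QuasiCompact M₁.hom]
      (j₁ : M₁ ⟶ G) [IsMonHom j₁] [IsClosedImmersion j₁.left], AntiAffSub.AntiAffine M₁ → ∃ g : M₁ ⟶ M, g ≫ j = j₁) :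
    Surjective ((i ⊗ₘ j) ≫ μ[G]).left ∧
      ∀ (H : Over (Spec (CommRingCat.of k))) [GrpObj H] (h : H ⟶ G) [IsMonHom h] [IsClosedImmersion h.left],
        Surjective ((h ⊗ₘ i) ≫ μ[G]).left → ∃ g : M ⟶ H, g ≫ h = j := by
  have : ConnectedSpace A.left := (‹Surjective q.left›).surj.connectedSpace q.left.continuous
  have := GrpSch.isSeparated_of_field A
  obtain ⟨A', _, a, ha, hac, hA'lft, hA'qc, hA', has⟩ := exists_antiAff_surjective A
  have : Mono a := mono_of_left a
  have hsurj : Surjective (j ≫ q).left := by
    refine ⟨fun y => ?_⟩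
    exact AntiAffSub.range_subset q a hA' j hMmax (has.surj y |>.choose_spec ▸ Set.mem_range_self _)
  have hmul : ∀ {X Y : Over (Spec (CommRingCat.of k))} (u : X ⟶ G) (v : Y ⟶ G),
      (u ⊗ₘ v) ≫ μ[G] = (fst X Y ≫ u) * (snd X Y ≫ v) := fun u v => by
    rw [Hom.mul_def]
    congr 1
  refine ⟨?_, fun H _ h _ _ hH => ?_⟩
  · rw [hmul]
    have := kernel_mono hq
    have hsq : IsPullback (snd N M).left ((fst N M ≫ i) * (snd N M ≫ j)).left (j ≫ q).left q.left := by
      refine DomFlat.isPullback_of_forall ?_ ?_ ?_
      · rw [MonObj.mul_comp, Category.assoc (fst N M), kernel_comp hq, MonObj.comp_one, _root_.one_mul, Category.assoc]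
      · intro T x y hxy
        obtain ⟨z, hz⟩ := (mem_kernel hq (y * (x ≫ j)⁻¹)).2 (by
          rw [MonObj.mul_comp, GrpObj.inv_comp, Category.assoc, hxy, mul_inv_cancel])
        refine ⟨lift z x, lift_snd _ _, ?_⟩
        rw [MonObj.comp_mul, lift_fst_assoc, lift_snd_assoc, hz, inv_mul_cancel_right]
      · intro T l l' h1 h2
        rw [MonObj.comp_mul, MonObj.comp_mul, reassoc_of% h1, mul_left_inj, ← Category.assoc, ← Category.assoc,
          cancel_mono] at h2
        exact CartesianMonoidalCategory.hom_ext _ _ h2 h1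
    exact MorphismProperty.of_isPullback (P := @Surjective) hsq hsurj
  have : LocallyOfFiniteType H.hom := by rw [← Over.w h]; infer_instance
  have : QuasiCompact H.hom := by rw [← Over.w h]; infer_instance
  have : Surjective (h ≫ q).left := by
    have e : ((h ⊗ₘ i) ≫ μ[G]) ≫ q = fst H N ≫ h ≫ q := by
      rw [hmul, MonObj.mul_comp, Category.assoc (snd H N), kernel_comp hq, MonObj.comp_one, _root_.mul_one,
        Category.assoc]
    have : Surjective ((fst H N).left ≫ (h ≫ q).left) := by
      rw [← Over.comp_left, ← e, Over.comp_left]; infer_instance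
    exact Surjective.of_comp (fst H N).left (h ≫ q).left
  obtain ⟨L, _, l, hl, hlc, hLlft, hLqc, hL, hLmem⟩ := AntiAffSub.exists_antiAffPart H
  have hLs : Surjective (l ≫ h ≫ q).left := by
    refine ⟨fun y => AntiAffSub.range_subset (h ≫ q) a hA' l (fun M₁ _ _ _ j₁ _ _ hM₁ =>
      (hLmem M₁ j₁).1 (AntiAffSub.killed_of_antiAffine j₁ hM₁)) (has.surj y |>.choose_spec ▸ Set.mem_range_self _)⟩
  have : IsClosedImmersion (l ≫ h).left := by rw [Over.comp_left]; infer_instance
  obtain ⟨g, hg⟩ := hMmax L (l ≫ h) hL
  have : Mono j := mono_of_left j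
  have : IsMonHom g := DomFlat.isMonHom_of_comp_mono g j (by rw [hg]; infer_instance)
  have : IsClosedImmersion g.left := by
    have : IsClosedImmersion (g.left ≫ j.left) := by rw [← Over.comp_left, hg]; infer_instance
    exact IsClosedImmersion.of_comp g.left j.left
  -- `M` maps to the anti-affine part of `A`
  obtain ⟨A'', _, a', ha', ha'c, hA''lft, hA''qc, hA'', hA''mem⟩ := AntiAffSub.exists_antiAffPart A
  have : Mono a' := mono_of_left a'
  obtain ⟨π, hπ⟩ := (hA''mem M (j ≫ q)).1 (AntiAffSub.killed_of_antiAffine (j ≫ q) hM)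
  have : IsMonHom π := DomFlat.isMonHom_of_comp_mono π a' (by rw [hπ]; infer_instance)
  have := GrpSch.isSeparated_of_field A''
  obtain ⟨K, _, iK, hiK, hiKc, hK, -⟩ := exists_kernel π
  have : IsAffine K.left := by
    obtain ⟨z, hz⟩ := (mem_kernel hq (iK ≫ j)).2 (by
      rw [Category.assoc, ← hπ, ← Category.assoc, kernel_comp hK, MonObj.one_comp])
    have : IsClosedImmersion (z.left ≫ i.left) := by
      rw [← Over.comp_left, hz, Over.comp_left]; infer_instance
    have : IsClosedImmersion z.left := IsClosedImmersion.of_comp z.left i.left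
    exact isAffine_of_isAffineHom z.left
  have : Surjective (g ≫ π).left := ⟨fun y => by
    obtain ⟨w, hw⟩ := hLs.surj (a'.left y)
    refine ⟨w, a'.left.isClosedEmbedding.injective ?_⟩
    rw [← Scheme.Hom.comp_apply, ← Over.comp_left, Category.assoc, hπ, reassoc_of% hg, hw]⟩
  have : Smooth A''.hom := AntiAffSmooth.smooth A'' hA''
  have : Flat (g ≫ π).left := flat_of_surjective_of_smooth (g ≫ π)
  have hiso := AntiAffSub.isIso_of_affine_kernel hM π iK hK g (isCover_hom (g ≫ π))
  refine ⟨inv g ≫ l, ?_⟩
  rw [Category.assoc, ← hg, IsIso.inv_hom_id_assoc]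

end

end Groth.Agent.Lib.GrpQ.AntiAffMul
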