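import Groth.Agent.Lib.GrpQ.AntiAffSmooth
import Groth.Agent.Lib.GrpQ.KerRho
import Groth.Agent.S18825

/-!
Anti-affine subgroups: the anti-affine part, its image under surjective homomorphisms, and
anti-affine groups are generated by any subgroup covering the quotient by an affine subgroup.
-/

set_option autoImplicit false

universe u

open CategoryTheory Limits MonoidalCategory CartesianMonoidalCategory MonObj AlgebraicGeometry

namespace Groth.Agent.Lib.GrpQ.AntiAffSub

noncomputable section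

variable {k : Type u} [Field k]

/-- The condition of being anti-affine. -/
abbrev AntiAffine (G : Over (Spec (CommRingCat.of k))) : Prop :=
  Function.Bijective ((Scheme.ΓSpecIso (CommRingCat.of k)).inv ≫ G.hom.appTop).hom

/-- Homomorphisms from anti-affine groups are killed. -/
theorem killed_of_antiAffine {M G : Over (Spec (CommRingCat.of k))} [GrpObj M] [GrpObj G] (φ : M ⟶ G) [IsMonHom φ]
    (hM : AntiAffine M) : AffKer.Killed φ := by
  have := AntiAff.isIso_of_bijective hM
  have : IsIso (toUnit M).left.appTop := ‹IsIso M.hom.appTop›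
  obtain ⟨c, hc⟩ := Affinization.exists_fac (toUnit M) (φ ≫ Affinization.rho G)
  have hc' : c = η[G] ≫ Affinization.rho G := by
    rw [← IsMonHom.one_hom (f := φ), Category.assoc, ← hc, ← Category.assoc,
      toUnit_unique (η[M] ≫ toUnit M) (𝟙 _), Category.id_comp]
  rw [AffKer.Killed, ← hc', hc]

/-- The anti-affine part. -/
theorem exists_antiAffPart (G : Over (Spec (CommRingCat.of k))) [GrpObj G] [LocallyOfFiniteType G.hom]
    [QuasiCompact G.hom] :
    ∃ (L : Over (Spec (CommRingCat.of k))) (_ : GrpObj L) (l : L ⟶ G), IsMonHom l ∧ IsClosedImmersion l.left ∧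
      LocallyOfFiniteType L.hom ∧ QuasiCompact L.hom ∧ AntiAffine L ∧
      ∀ (T : Over (Spec (CommRingCat.of k))) (g : T ⟶ G), AffKer.Killed g ↔ ∃ z, z ≫ l = g := by
  obtain ⟨_, _⟩ := Affinization.exists_grp G
  have := GrpSch.isSeparated_of_field (Affinization.aff G)
  obtain ⟨L, _, l, hl, hcl, hK, -⟩ := exists_kernel (Affinization.rho G)
  have : LocallyOfFiniteType L.hom := by rw [← Over.w l]; infer_instance
  have : QuasiCompact L.hom := by rw [← Over.w l]; infer_instance
  have := KerRho.isIso_appTop_kernel l hK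
  refine ⟨L, inferInstance, l, hl, hcl, inferInstance, inferInstance,
    ConcreteCategory.bijective_of_isIso ((Scheme.ΓSpecIso (CommRingCat.of k)).inv ≫ L.hom.appTop), fun T g => ?_⟩
  rw [mem_kernel hK g, AffKer.Killed, IsMonHom.one_hom (f := Affinization.rho G), Hom.one_def]

/-- Preimage of a subgroup. -/
theorem exists_preimage {S : Scheme.{u}} {G Q Q' : Over S} [GrpObj G] [GrpObj Q] [GrpObj Q'] (q : G ⟶ Q) [IsMonHom q]
    (a : Q' ⟶ Q) [IsMonHom a] [IsClosedImmersion a.left] :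
    ∃ (P : Over S) (_ : GrpObj P) (i : P ⟶ G) (p : P ⟶ Q'), IsMonHom i ∧ IsMonHom p ∧ IsClosedImmersion i.left ∧
      IsPullback i.left p.left q.left a.left ∧ i ≫ q = p ≫ a ∧
      ∀ (T : Over S) (x : T ⟶ G) (y : T ⟶ Q'), x ≫ q = y ≫ a → ∃ z : T ⟶ P, z ≫ i = x ∧ z ≫ p = y := by
  let P : Over S := Over.mk (pullback.fst q.left a.left ≫ G.hom)
  let i : P ⟶ G := Over.homMk (pullback.fst q.left a.left) rfl
  let p : P ⟶ Q' := Over.homMk (pullback.snd q.left a.left) (by
    change pullback.snd q.left a.left ≫ Q'.hom = pullback.fst q.left a.left ≫ G.hom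
    rw [← Over.w a, ← pullback.condition_assoc, Over.w])
  have hw : i ≫ q = p ≫ a := Over.OverMorphism.ext pullback.condition
  have hfac : ∀ (T : Over S) (x : T ⟶ G) (y : T ⟶ Q'), x ≫ q = y ≫ a → ∃ z : T ⟶ P, z ≫ i = x ∧ z ≫ p = y := by
    intro T x y h
    have h' := congrArg Over.Hom.left h
    refine ⟨Over.homMk (pullback.lift x.left y.left (by simpa using h')) ?_,
      Over.OverMorphism.ext (pullback.lift_fst _ _ _), Over.OverMorphism.ext (pullback.lift_snd _ _ _)⟩
    change pullback.lift _ _ _ ≫ pullback.fst q.left a.left ≫ G.hom = _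
    rw [pullback.lift_fst_assoc, Over.w]
  have hi : IsClosedImmersion i.left := inferInstanceAs (IsClosedImmersion (pullback.fst q.left a.left))
  have := mono_of_left i
  have : Mono a := mono_of_left a
  obtain ⟨e, he, -⟩ := hfac _ η[G] η[Q'] (by rw [IsMonHom.one_hom, IsMonHom.one_hom])
  obtain ⟨m, hm, -⟩ := hfac _ ((fst P P ≫ i) * (snd P P ≫ i)) ((fst P P ≫ p) * (snd P P ≫ p)) (by
    rw [MonObj.mul_comp, MonObj.mul_comp]
    simp only [Category.assoc, hw])
  obtain ⟨v, hv, -⟩ := hfac _ i⁻¹ p⁻¹ (by rw [GrpObj.inv_comp, GrpObj.inv_comp, hw])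
  obtain ⟨_, hi'⟩ := InfSub.exists_grpObj_of_mono i ⟨e, he⟩ ⟨m, hm⟩ ⟨v, hv⟩
  have hp : IsMonHom p := DomFlat.isMonHom_of_comp_mono p a (by rw [← hw]; infer_instance)
  exact ⟨P, inferInstance, i, p, hi', hp, hi, IsPullback.of_hasPullback q.left a.left, hw, hfac⟩

/-- Only the whole group covers an anti-affine group modulo an affine subgroup. -/
theorem isIso_of_affine_kernel {M C R K : Over (Spec (CommRingCat.of k))} [GrpObj M] [GrpObj C] [GrpObj R] [GrpObj K]
    [LocallyOfFiniteType M.hom] [QuasiCompact M.hom] (hM : AntiAffine M) (π : M ⟶ C) [IsMonHom π]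
    (iK : K ⟶ M) [IsMonHom iK] [IsClosedImmersion iK.left] (hK : AlgGrp.IsKernel iK π) [IsAffine K.left]
    (iR : R ⟶ M) [IsMonHom iR] [IsClosedImmersion iR.left] (hρc : IsCover (iR ≫ π)) : IsIso iR := by
  have := AntiAff.isIso_of_bijective hM
  have := AntiAff.connectedSpace hM
  have := GrpSch.isSeparated_of_field M
  have := GrpSch.isSeparated_of_field C
  have hcomm : ∀ {T : Over (Spec (CommRingCat.of k))} (x y : T ⟶ M), x * y = y * x := fun x y => by
    simpa using AntiAff.commute (𝟙 M) x y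
  have : Mono iK := mono_of_left iK
  have : Mono iR := mono_of_left iR
  have : LocallyOfFiniteType K.hom := by rw [← Over.w iK]; infer_instance
  have : QuasiCompact K.hom := by rw [← Over.w iK]; infer_instance
  let ρ : R ⟶ C := iR ≫ π
  obtain ⟨N, _, iN, hiNm, hiN, hN, -⟩ := exists_kernel ρ
  obtain ⟨jN, hjN⟩ := (mem_kernel hK (iN ≫ iR)).2 (by rw [Category.assoc]; exact kernel_comp hN)
  have : IsMonHom jN := DomFlat.isMonHom_of_comp_mono jN iK (by rw [hjN]; infer_instance)
  have : IsClosedImmersion jN.left := by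
    have : IsClosedImmersion (jN.left ≫ iK.left) := by
      rw [← Over.comp_left, hjN, Over.comp_left]; infer_instance
    exact IsClosedImmersion.of_comp jN.left iK.left
  have hn : AlgGrp.IsNormalHom jN := fun T g m => by
    refine ⟨m, ?_⟩
    rw [← cancel_mono iK, MonObj.mul_comp, MonObj.mul_comp, GrpObj.inv_comp, hcomm (g ≫ iK),
      mul_inv_cancel_right]
  have hk : ∀ (T : Over (Spec (CommRingCat.of k))) (g : T ⟶ K), AffKer.Killed g → ∃ z : T ⟶ N, z ≫ jN = g := by
    intro T g hg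
    have : IsIso (Affinization.rho K).left := inferInstanceAs (IsIso K.left.toSpecΓ)
    have : Mono (Affinization.rho K) := mono_of_left _
    refine ⟨1, ?_⟩
    rw [← cancel_mono (Affinization.rho K), hg, ← Category.assoc (toUnit T), ← Hom.one_def, MonObj.one_comp]
  obtain ⟨Q, _, q, hqm, hQaff, -, -, -, hq⟩ := AffKer.exists_quotient jN hn hk
  let m : R ⊗ K ⟶ M := (fst R K ≫ iR) * (snd R K ≫ iK)
  have hlift : ∀ {T : Over (Spec (CommRingCat.of k))} (a : T ⟶ R) (b : T ⟶ K),
      lift a b ≫ m = (a ≫ iR) * (b ≫ iK) := fun a b => by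
    simp only [m, MonObj.comp_mul, lift_fst_assoc, lift_snd_assoc]
  have hmeq : ∀ {T : Over (Spec (CommRingCat.of k))} (l : T ⟶ R ⊗ K),
      l ≫ m = ((l ≫ fst R K) ≫ iR) * ((l ≫ snd R K) ≫ iK) := fun l => by
    simp only [m, MonObj.comp_mul, Category.assoc]
  have hsq : IsPullback (fst R K).left m.left ρ.left π.left := by
    refine DomFlat.isPullback_of_forall ?_ ?_ ?_
    · simp only [m, ρ, MonObj.mul_comp, Category.assoc, kernel_comp hK, MonObj.comp_one, _root_.mul_one]
    · intro T x y hxy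
      obtain ⟨z, hz⟩ := (mem_kernel hK ((x ≫ iR)⁻¹ * y)).2 (by
        rw [MonObj.mul_comp, GrpObj.inv_comp, Category.assoc, hxy, inv_mul_cancel])
      refine ⟨lift x z, lift_fst _ _, ?_⟩
      rw [hlift, hz, mul_inv_cancel_left]
    · intro T l l' h1 h2
      rw [hmeq, hmeq, h1, mul_right_inj, cancel_mono] at h2
      exact CartesianMonoidalCategory.hom_ext _ _ h1 h2
  have hmc : IsCover m := by
    obtain ⟨h1, h2, h3⟩ := hρc
    exact ⟨MorphismProperty.of_isPullback (P := @Flat) hsq h1,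
      MorphismProperty.of_isPullback (P := @Surjective) hsq h2,
      MorphismProperty.of_isPullback (P := @QuasiCompact) hsq h3⟩
  obtain ⟨φ, hφ⟩ := exists_desc hmc (snd R K ≫ q) fun Z x y hxy => by
    rw [← Category.assoc, ← Category.assoc]
    rw [hmeq, hmeq] at hxy
    generalize x ≫ snd R K = b at hxy ⊢
    generalize y ≫ snd R K = b' at hxy ⊢
    generalize x ≫ fst R K = a at hxy
    generalize y ≫ fst R K = a' at hxy
    have he : (a⁻¹ * a') ≫ iR = (b * b'⁻¹) ≫ iK := by
      rw [MonObj.mul_comp, MonObj.mul_comp, GrpObj.inv_comp, GrpObj.inv_comp]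
      rw [eq_mul_inv_iff_mul_eq, _root_.mul_assoc, ← hxy, inv_mul_cancel_left]
    obtain ⟨n, hn⟩ := (mem_kernel hN (a⁻¹ * a')).2 (by
      rw [← Category.assoc, he, Category.assoc, kernel_comp hK, MonObj.comp_one])
    have hnb : n ≫ jN = b * b'⁻¹ := by
      rw [← cancel_mono iK, Category.assoc, hjN, ← Category.assoc, hn, he]
    have hb : (b * b'⁻¹) ≫ q = 1 := by rw [← hnb, Category.assoc, kernel_comp hq, MonObj.comp_one]
    rw [MonObj.mul_comp, GrpObj.inv_comp, mul_inv_eq_one] at hb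
    exact hb
  have : IsIso (toUnit M).left.appTop := ‹IsIso M.hom.appTop›
  obtain ⟨c, hc⟩ := Affinization.exists_fac (toUnit M) φ
  have hKq : ∀ {T : Over (Spec (CommRingCat.of k))} (z : T ⟶ K), z ≫ q = toUnit T ≫ c := by
    intro T z
    have h := congrArg (lift (1 : T ⟶ R) z ≫ ·) hφ
    simp only [← Category.assoc, hlift, lift_snd] at h
    rw [← h, MonObj.one_comp, _root_.one_mul, ← hc, ← Category.assoc, toUnit_unique ((z ≫ iK) ≫ toUnit M) (toUnit T)]
  obtain ⟨n, hn'⟩ := (mem_kernel hq (𝟙 K)).2 (by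
    rw [hKq, ← hKq (1 : K ⟶ K), MonObj.one_comp])
  have hKR : (n ≫ iN) ≫ iR = iK := by
    rw [Category.assoc, ← hjN, reassoc_of% hn']
  obtain ⟨s, hs⟩ := exists_factor iR (𝟙 M) hmc (fst R K * (snd R K ≫ n ≫ iN)) (by
    rw [MonObj.mul_comp, Category.comp_id, Category.assoc (snd R K), hKR])
  exact ⟨s, by rw [← cancel_mono iR, Category.assoc, hs, Category.comp_id, Category.id_comp], hs⟩

/-- The anti-affine part maps onto anti-affine subgroups of quotients. -/
theorem range_subset {G Q Q' L : Over (Spec (CommRingCat.of k))} [GrpObj G] [GrpObj Q] [GrpObj Q'] [GrpObj L]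
    [LocallyOfFiniteType G.hom] [QuasiCompact G.hom] [LocallyOfFiniteType Q'.hom] [QuasiCompact Q'.hom]
    (q : G ⟶ Q) [IsMonHom q] [Surjective q.left]
    (a : Q' ⟶ Q) [IsMonHom a] [IsClosedImmersion a.left] (hQ' : AntiAffine Q')
    (l : L ⟶ G) [IsMonHom l]
    (hl : ∀ (M : Over (Spec (CommRingCat.of k))) [GrpObj M] [LocallyOfFiniteType M.hom] [QuasiCompact M.hom]
      (j : M ⟶ G) [IsMonHom j] [IsClosedImmersion j.left], AntiAffine M → ∃ g : M ⟶ L, g ≫ l = j) :
    Set.range a.left ⊆ Set.range (l ≫ q).left := by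
  obtain ⟨P, _, i, p, hi, hp, hic, hsq, hw, hfac⟩ := exists_preimage q a
  have : LocallyOfFiniteType P.hom := by rw [← Over.w i]; infer_instance
  have : QuasiCompact P.hom := by rw [← Over.w i]; infer_instance
  have : Surjective p.left := MorphismProperty.of_isPullback (P := @Surjective) hsq ‹_›
  have : Smooth Q'.hom := AntiAffSmooth.smooth Q' hQ'
  have : Flat p.left := flat_of_surjective_of_smooth p
  have hpc : IsCover p := isCover_hom p
  have := GrpSch.isSeparated_of_field Q'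
  have := AntiAff.connectedSpace hQ'
  have := AntiAff.isIso_of_bijective hQ'
  have hcomm : ∀ {T : Over (Spec (CommRingCat.of k))} (x y : T ⟶ Q'), x * y = y * x := fun x y => by
    simpa using AntiAff.commute (𝟙 Q') x y
  obtain ⟨N, _, n, hn, hnc, hNlft, hNqc, hN, hmem⟩ := exists_antiAffPart P
  obtain ⟨C, _, g, iC, hg, hiC, hgi, hstd, hiCc⟩ := Image.exists_image (n ≫ p)
  have : LocallyOfFiniteType (n ≫ p).left := locallyOfFiniteType_left _
  have : QuasiCompact (n ≫ p).left := quasiCompact_left _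
  have hgs : Surjective g.left := (Groth.Agent.S18825.result k N Q' C (n ≫ p) iC g hgi).2
  have : LocallyOfFiniteType C.hom := by rw [← Over.w iC]; infer_instance
  obtain ⟨Z, _, iZ, pZ, hiZ, hpZ, hiZc, -, hwZ, hfacZ⟩ := exists_preimage p iC
  have hZn : AlgGrp.IsNormalHom iZ := fun T x z => by
    obtain ⟨z', hz', -⟩ := hfacZ T (x * (z ≫ iZ) * x⁻¹) (z ≫ pZ) (by
      rw [MonObj.mul_comp, MonObj.mul_comp, GrpObj.inv_comp, hcomm (x ≫ p), mul_inv_cancel_right, Category.assoc,
        hwZ, Category.assoc])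
    exact ⟨z', hz'.symm⟩
  obtain ⟨Q₂, _, q₂, hq₂, hQ₂, -, -, -, hK₂⟩ := AffKer.exists_quotient iZ hZn fun T x hx => by
    obtain ⟨z, hz⟩ := (hmem T x).1 hx
    obtain ⟨w, hw₁, -⟩ := hfacZ T x (z ≫ g) (by rw [← hz, Category.assoc, Category.assoc, hgi])
    exact ⟨w, hw₁⟩
  obtain ⟨N₀, _, n₀, hn₀, -, hK₀, -⟩ := exists_kernel p
  obtain ⟨φ, hφ⟩ := exists_desc hpc q₂ fun Z' x y hxy => comp_eq_of_kernel hK₀ q₂ (by
    obtain ⟨w, hw₁, -⟩ := hfacZ N₀ n₀ 1 (by rw [kernel_comp hK₀, MonObj.one_comp])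
    rw [← hw₁, Category.assoc, kernel_comp hK₂, MonObj.comp_one, Hom.one_def]) x y hxy
  have : IsIso (toUnit Q').left.appTop := ‹IsIso Q'.hom.appTop›
  obtain ⟨c, hc⟩ := Affinization.exists_fac (toUnit Q') φ
  have hq2c : q₂ = toUnit P ≫ c := by
    rw [← hφ, ← hc, ← Category.assoc, toUnit_unique (p ≫ toUnit Q') (toUnit P)]
  have hq21 : q₂ = 1 := by
    rw [hq2c, Hom.one_def, ← IsMonHom.one_hom (f := q₂)]
    rw [hq2c, ← Category.assoc η[P], toUnit_unique (η[P] ≫ toUnit P) (𝟙 _), Category.id_comp]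
  obtain ⟨s, hs⟩ := (mem_kernel hK₂ (𝟙 P)).2 (by rw [Category.id_comp, hq21])
  have : IsClosedImmersion (n ≫ i).left := by rw [Over.comp_left]; infer_instance
  obtain ⟨j, hj⟩ := hl N (n ≫ i) hN
  rintro _ ⟨x, rfl⟩
  obtain ⟨y, rfl⟩ := p.left.surjective x
  obtain ⟨w, hw'⟩ := g.left.surjective ((s ≫ pZ).left y)
  refine ⟨j.left w, ?_⟩
  have e1 : j ≫ l ≫ q = g ≫ iC ≫ a := by
    rw [reassoc_of% hj, hw, reassoc_of% hgi]
  have e2 : p = s ≫ pZ ≫ iC := by
    rw [← hwZ, reassoc_of% hs]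
  rw [← Scheme.Hom.comp_apply, ← Over.comp_left, e1, Over.comp_left, Scheme.Hom.comp_apply, hw']
  conv_rhs => rw [e2]
  simp only [Over.comp_left, Scheme.Hom.comp_apply]

end

end Groth.Agent.Lib.GrpQ.AntiAffSub
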