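import Groth.Agent.Lib.GrpQ.FfMonoGrp
import Groth.Agent.Lib.GrpSch.Basic

/-!
# The kernel pair of `(act, snd) : G ⊗ X ⟶ X ⊗ X`

It is the base change of the stabiliser of the diagonal along the second projection.
-/

set_option autoImplicit false
set_option linter.style.haveILetI false

universe u

open CategoryTheory CategoryTheory.Limits MonoidalCategory CartesianMonoidalCategory MonObj GrpObj AlgebraicGeometry

namespace Groth.Agent.Lib.GrpQ.FfMono

variable {S : Scheme.{u}} {G X : Over S} [GrpObj G] (a : AlgGrp.Action G X)

/-- Stabiliser of the diagonal. -/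
noncomputable abbrev stabDiag : Over S := pullback (lift a.act (snd G X)) (lift (𝟙 X) (𝟙 X))

/-- Its inclusion. -/
noncomputable abbrev stabIncl : stabDiag a ⟶ G ⊗ X := pullback.fst _ _

/-- Its projection to `X`. -/
noncomputable abbrev stabProj : stabDiag a ⟶ X := pullback.snd _ _

theorem stabIncl_snd : stabIncl a ≫ snd G X = stabProj a := by
  have h := congrArg (· ≫ snd X X) (pullback.condition (f := lift a.act (snd G X)) (g := lift (𝟙 X) (𝟙 X)))
  simpa using h

theorem stabIncl_act : stabIncl a ≫ a.act = stabProj a := by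
  have h := congrArg (· ≫ fst X X) (pullback.condition (f := lift a.act (snd G X)) (g := lift (𝟙 X) (𝟙 X)))
  simpa using h

/-- The second map of the kernel pair. -/
noncomputable abbrev kerSnd : pullback (snd G X) (stabProj a) ⟶ G ⊗ X :=
  lift ((pullback.fst (snd G X) (stabProj a) ≫ fst G X) *
    (pullback.snd (snd G X) (stabProj a) ≫ stabIncl a ≫ fst G X))
    (pullback.fst (snd G X) (stabProj a) ≫ snd G X)

theorem isPullback_kerPair : IsPullback (pullback.fst (snd G X) (stabProj a)) (kerSnd a)
    (lift a.act (snd G X)) (lift a.act (snd G X)) := by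
  have hw : pullback.fst (snd G X) (stabProj a) ≫ lift a.act (snd G X) = kerSnd a ≫ lift a.act (snd G X) := by
    apply CartesianMonoidalCategory.hom_ext
    · simp only [Category.assoc, lift_fst]
      rw [GrpSch.act_mul]
      have h : lift (pullback.snd (snd G X) (stabProj a) ≫ stabIncl a ≫ fst G X)
          (pullback.fst (snd G X) (stabProj a) ≫ snd G X) = pullback.snd (snd G X) (stabProj a) ≫ stabIncl a := by
        apply CartesianMonoidalCategory.hom_ext
        · simp
        · rw [lift_snd, Category.assoc, stabIncl_snd, pullback.condition]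
      rw [h, Category.assoc, stabIncl_act, ← pullback.condition, ← comp_lift_assoc, lift_fst_snd,
        Category.id_comp]
    · simp
  have hs : ∀ s : PullbackCone (lift a.act (snd G X)) (lift a.act (snd G X)),
      s.fst ≫ a.act = s.snd ≫ a.act ∧ s.fst ≫ snd G X = s.snd ≫ snd G X := fun s =>
    ⟨by simpa using congrArg (· ≫ fst X X) s.condition, by simpa using congrArg (· ≫ snd X X) s.condition⟩
  have hz : ∀ s : PullbackCone (lift a.act (snd G X)) (lift a.act (snd G X)),
      lift ((s.fst ≫ fst G X)⁻¹ * (s.snd ≫ fst G X)) (s.fst ≫ snd G X) ≫ lift a.act (snd G X) =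
        (s.fst ≫ snd G X) ≫ lift (𝟙 X) (𝟙 X) := fun s => by
    apply CartesianMonoidalCategory.hom_ext
    · simp only [Category.assoc, lift_fst, Category.comp_id]
      rw [GrpSch.act_mul]
      conv_lhs => enter [1, 2]; rw [(hs s).2, ← comp_lift_assoc, lift_fst_snd, Category.id_comp, ← (hs s).1]
      have h := GrpSch.act_inv_act a (s.fst ≫ fst G X) (s.fst ≫ snd G X)
      rw [← comp_lift_assoc, lift_fst_snd, Category.id_comp] at h
      exact h
    · simp
  refine ⟨⟨hw⟩, ⟨PullbackCone.IsLimit.mk _
    (fun s => pullback.lift s.fst (pullback.lift _ _ (hz s)) (by rw [pullback.lift_snd]))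
    (fun s => pullback.lift_fst _ _ _) (fun s => ?_) (fun s m h1 h2 => ?_)⟩⟩
  · apply CartesianMonoidalCategory.hom_ext
    · rw [Category.assoc, lift_fst, MonObj.comp_mul, pullback.lift_fst_assoc, pullback.lift_snd_assoc,
        pullback.lift_fst_assoc, lift_fst, mul_inv_cancel_left]
    · rw [Category.assoc, lift_snd, pullback.lift_fst_assoc]
      exact (hs s).2
  · refine pullback.hom_ext (by rw [pullback.lift_fst]; exact h1) ?_
    rw [pullback.lift_snd]
    refine pullback.hom_ext ?_ ?_
    · rw [pullback.lift_fst]
      apply CartesianMonoidalCategory.hom_ext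
      · rw [lift_fst, ← h1, ← h2]
        simp only [Category.assoc, lift_fst, MonObj.comp_mul, inv_mul_cancel_left]
      · rw [lift_snd, ← h1]
        simp only [Category.assoc, stabIncl_snd, pullback.condition]
    · rw [pullback.lift_snd, ← h1]
      simp only [Category.assoc, pullback.condition]

/-- Flatness of the stabiliser can be read on the kernel pair. -/
theorem flat_stabProj_iff [Flat G.hom] :
    Flat (pullback.fst (snd G X) (stabProj a)).left ↔ Flat (stabProj a).left := by
  have sq : IsPullback (pullback.fst (snd G X) (stabProj a)).left (pullback.snd (snd G X) (stabProj a)).left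
      (snd G X).left (stabProj a).left :=
    (IsPullback.of_hasPullback (snd G X) (stabProj a)).map (Over.forget S)
  refine ⟨fun h => ?_, fun h => MorphismProperty.of_isPullback (P := @Flat) sq.flip h⟩
  let e : X ⟶ G ⊗ X := lift (toUnit X ≫ η[G]) (𝟙 X)
  have he : e.left ≫ (snd G X).left = 𝟙 _ := by
    rw [← Over.comp_left, lift_snd, Over.id_left]
  have w : ((stabProj a).left ≫ e.left) ≫ (snd G X).left = 𝟙 _ ≫ (stabProj a).left := by
    rw [Category.assoc, he, Category.comp_id, Category.id_comp]
  have big : IsPullback (stabProj a).left (sq.lift _ _ w ≫ (pullback.snd (snd G X) (stabProj a)).left)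
      (e.left ≫ (snd G X).left) (stabProj a).left := by
    rw [sq.lift_snd, he]
    exact IsPullback.of_vert_isIso ⟨by simp⟩
  exact MorphismProperty.of_isPullback (P := @Flat) (IsPullback.of_bot big (sq.lift_fst _ _ w).symm sq).flip h

theorem lfp_of_cover {A B C : Scheme.{u}} (e : A ⟶ B) (k : B ⟶ C) [Surjective e] [Flat e]
    [LocallyOfFinitePresentation e] [LocallyOfFinitePresentation (e ≫ k)] : LocallyOfFinitePresentation k :=
  H14.FppfDesc.Scheme.locallyOfFinitePresentation_of_comp e k inferInstance

theorem surjective_hom (G : Over S) [GrpObj G] : Surjective G.hom :=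
  ⟨fun s => ⟨η[G].left s, by
    rw [← Scheme.Hom.comp_apply, GrpSch.η_left_comp_hom]
    rfl⟩⟩

end Groth.Agent.Lib.GrpQ.FfMono
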