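import Groth.Agent.Lib.GrpQ.FrobQ
import Groth.Agent.Lib.GrpQ.FlatInj
import Groth.Agent.Lib.GrpQ.Kernel
import Groth.Agent.Lib.GrpQ.FfMonoGrp
import Groth.Agent.Lib.H58FrobHomeo
import Groth.Agent.H63.GrpSmooth
import Mathlib.AlgebraicGeometry.Morphisms.Integral
import Mathlib.AlgebraicGeometry.ZariskisMainTheorem

/-!
The kernel of a high iterate of the relative Frobenius of a group over any field of characteristic `p`:
finite connected, with smooth quotient.
-/

set_option autoImplicit false

universe u

open CategoryTheory Limits MonoidalCategory CartesianMonoidalCategory MonObj AlgebraicGeometry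

namespace Groth.Agent.Lib.GrpQ.FrobQuot

open Groth.Agent.Lib.GrpQ.FrobQ

noncomputable section

variable (p : ℕ) [Fact p.Prime]

theorem isIntegralHom_frobN (X : Scheme.{u}) [FrobSch.IsCharP X p] (n : ℕ) : IsIntegralHom (frobN p X n) := by
  induction n with
  | zero => exact inferInstanceAs (IsIntegralHom (𝟙 X))
  | succ n ih =>
    have := H58FrobHomeo.isIntegralHom_frob p X
    exact inferInstanceAs (IsIntegralHom (frobN p X n ≫ FrobSch.frob X p))

theorem exists_kernel_smooth_quotient {k : Type u} [Field k] [CharP k p] (G : Over (Spec (CommRingCat.of k)))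
    [GrpObj G] [LocallyOfFiniteType G.hom] :
    ∃ (H Q : Over (Spec (CommRingCat.of k))) (_ : GrpObj H) (_ : GrpObj Q) (i : H ⟶ G) (v : G ⟶ Q),
      IsMonHom i ∧ IsMonHom v ∧ IsFinite H.hom ∧ ConnectedSpace H.left ∧ Smooth Q.hom ∧
      IsClosedImmersion i.left ∧ AlgGrp.IsKernel i v ∧ Surjective v.left ∧ Flat v.left ∧
      LocallyOfFinitePresentation v.left ∧ IsPullback (fst G H) ((G ◁ i) ≫ μ[G]) v v := by
  classical
  let K := AlgebraicClosure k
  have : CharP K p := charP_of_injective_algebraMap (algebraMap k K).injective p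
  let b := GrpSch.extBase k K
  let GK := Red.bc b G
  have hchar : ∀ T : Over (Spec (CommRingCat.of k)), FrobSch.IsCharP T.left p := fun T =>
    FrobSch.IsCharP.of_hom T.hom p
  have hcharK : ∀ T : Over (Spec (CommRingCat.of K)), FrobSch.IsCharP T.left p := fun T =>
    FrobSch.IsCharP.of_hom T.hom p
  have : LocallyOfFiniteType GK.hom := GrpSch.bc_hom_of (P := @LocallyOfFiniteType) b G ‹_›
  have : IsLocallyNoetherian GK.left := LocallyOfFiniteType.isLocallyNoetherian GK.hom
  let e₁ : GK.left := η[GK].left (IsLocalRing.closedPoint K)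
  obtain ⟨U, hU, he₁, -⟩ := exists_isAffineOpen_mem_and_subset (X := GK.left) (x := e₁) (U := ⊤) trivial
  obtain ⟨n, hn⟩ : ∃ n : ℕ, ∀ s : Γ(GK.left, U), IsNilpotent s → s ^ p ^ n = 0 := by
    have : IsNoetherianRing Γ(GK.left, U) := IsLocallyNoetherian.component_noetherian ⟨U, hU⟩
    obtain ⟨N, hN⟩ := IsNoetherianRing.isNilpotent_nilradical Γ(GK.left, U)
    refine ⟨N, fun s hs => pow_eq_zero_of_le (Nat.lt_pow_self (Fact.out : p.Prime).one_lt).le ?_⟩
    have := Ideal.pow_mem_pow (mem_nilradical.2 hs) N
    rw [hN] at this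
    exact this
  let σ := frobN p (Spec (CommRingCat.of k)) n
  let F : ∀ T : Over (Spec (CommRingCat.of k)), T ⟶ (Over.pullback σ).obj T := fun T =>
    Over.homMk (pullback.lift (frobN p T.left n) T.hom (frobN_comp p T.hom n)) (pullback.lift_snd _ _ _)
  have hnat : ∀ {A B : Over (Spec (CommRingCat.of k))} (f : A ⟶ B),
      f ≫ F B = F A ≫ (Over.pullback σ).map f := by
    intro A B f
    refine Over.OverMorphism.ext (pullback.hom_ext ?_ ?_)
    · simp [F]
      erw [pullback.lift_fst, pullback.lift_fst, pullback.lift_fst_assoc]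
      exact (frobN_comp p f.left n).symm
    · simp [F]
      erw [pullback.lift_snd, pullback.lift_snd, pullback.lift_snd]
      exact Over.w f
  let G' := Red.bc σ G
  let u : G ⟶ G' := F G
  have hmul : ∀ {T : Over (Spec (CommRingCat.of k))} (x y : T ⟶ G),
      (x * y) ≫ u = (x ≫ u) * (y ≫ u) := by
    intro T x y
    rw [hnat, hnat x, hnat y, Functor.map_mul, MonObj.comp_mul]
  have hone : (1 : 𝟙_ (Over (Spec (CommRingCat.of k))) ⟶ G) ≫ u = 1 := by
    rw [hnat, Functor.map_one, MonObj.comp_one]
  have : IsMonHom u := by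
    refine ⟨?_, ?_⟩
    · have h := hone
      rw [Hom.one_def, Hom.one_def, toUnit_unique (toUnit _) (𝟙 _), Category.id_comp, Category.id_comp] at h
      exact h
    · have h := hmul (fst G G) (snd G G)
      rw [Hom.mul_def, lift_fst_snd, Category.id_comp] at h
      rw [h, Hom.mul_def, ← lift_fst_comp_snd_comp]
  have hufst : u.left ≫ pullback.fst G.hom σ = frobN p G.left n := pullback.lift_fst _ _ _
  have : LocallyOfFiniteType G'.hom := GrpSch.bc_hom_of (P := @LocallyOfFiniteType) σ G ‹_›
  have : IsSeparated G.hom := GrpSch.isSeparated_of_field G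
  have : IsSeparated G'.hom := GrpSch.isSeparated_of_field G'
  have : LocallyOfFinitePresentation G.hom := LocallyOfFinitePresentation.iff_locallyOfFiniteType.2 inferInstance
  have hσ : IsIntegralHom σ := isIntegralHom_frobN p _ n
  have : IsSeparated σ := inferInstance
  have : IsSeparated (pullback.fst G.hom σ) := inferInstance
  have : IsIntegralHom (u.left ≫ pullback.fst G.hom σ) := by rw [hufst]; exact isIntegralHom_frobN p _ n
  have hui : IsIntegralHom u.left := IsIntegralHom.of_comp u.left (pullback.fst G.hom σ)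
  obtain ⟨N, _, i, hi, hicl, hK, -⟩ := Lib.GrpQ.exists_kernel u
  obtain ⟨Q, _, v, m₁, hv, hmm, hvm, hvs, hvf, hvp, hmono, hQfp, hpb, hKv⟩ :=
    FfMono.exists_quot_kernel u i hK (GrpSch.flat_of_isField (Field.toIsField k) N.hom) (Or.inl inferInstance)
  have : LocallyOfFiniteType N.hom := by rw [← Over.w i]; infer_instance
  have hpt : ∀ x : N.left, i.left x = (1 : N ⟶ G).left x := by
    intro x
    have h : i.left ≫ frobN p G.left n = (1 : N ⟶ G).left ≫ frobN p G.left n := by
      rw [← hufst, ← Category.assoc, ← Category.assoc, ← Over.comp_left, ← Over.comp_left,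
        kernel_comp hK, MonObj.one_comp]
    have h2 : frobN p G.left n (i.left x) = frobN p G.left n ((1 : N ⟶ G).left x) := by
      rw [← Scheme.Hom.comp_apply, ← Scheme.Hom.comp_apply, h]
    rwa [frobN_apply, frobN_apply] at h2
  have : Subsingleton N.left := ⟨fun x y => i.left.isClosedEmbedding.injective (by
    rw [hpt x, hpt y, Hom.one_def, Over.comp_left, Scheme.Hom.comp_apply, Scheme.Hom.comp_apply]
    exact congrArg _ (@Subsingleton.elim (↥(Spec (CommRingCat.of k))) inferInstance _ _))⟩
  have : ConnectedSpace N.left :=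
    { toPreconnectedSpace := inferInstance
      toNonempty := ⟨η[N].left (IsLocalRing.closedPoint k)⟩ }
  have hfinite : IsFinite N.hom := by
    have hη : IsSeparated η[G'].left := by
      have : IsImmersion η[G'].left := GrpSch.isImmersion_η G'
      infer_instance
    have h : i.left ≫ u.left = N.hom ≫ η[G'].left := by
      rw [← Over.comp_left, kernel_comp hK, Hom.one_def, Over.comp_left]
      congr 1
    have : IsIntegralHom (N.hom ≫ η[G'].left) := by rw [← h]; infer_instance
    have := IsIntegralHom.of_comp N.hom η[G'].left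
    exact (IsFinite.iff_isIntegralHom_and_locallyOfFiniteType _).2 ⟨this, inferInstance⟩
  refine ⟨N, Q, inferInstance, inferInstance, i, v, hi, hv, hfinite, inferInstance, ?_, hicl, hKv, hvs, hvf, hvp, hpb⟩
  have : LocallyOfFiniteType Q.hom := inferInstance
  have hmc : IsClosedImmersion m₁.left := by
    have : Mono m₁.left := inferInstance
    have : UniversallyClosed (v.left ≫ m₁.left) := by rw [← Over.comp_left, hvm]; infer_instance
    have := UniversallyClosed.of_comp_surjective v.left m₁.left
    have : LocallyOfFiniteType (m₁.left ≫ G'.hom) := by rw [Over.w]; infer_instance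
    have := locallyOfFiniteType_of_comp m₁.left G'.hom
    exact (IsClosedImmersion.iff_isProper_and_mono _).2 ⟨{}, inferInstance⟩
  refine GrpSch.of_bc_hom k K (P := @Smooth) Q ?_
  let QK := Red.bc b Q
  let vK : GK ⟶ QK := (Over.pullback b).map v
  let mK : QK ⟶ Red.bc b G' := (Over.pullback b).map m₁
  have : IsClosedImmersion mK.left := GrpSch.bc_map_left_of (P := @IsClosedImmersion) b m₁ hmc
  have : LocallyOfFiniteType QK.hom := GrpSch.bc_hom_of (P := @LocallyOfFiniteType) b Q ‹_›
  have hvKs : Surjective vK.left := GrpSch.bc_map_left_of (P := @Surjective) b v hvs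
  have hvKf : Flat vK.left := GrpSch.bc_map_left_of (P := @Flat) b v hvf
  let σK := frobN p (Spec (CommRingCat.of K)) n
  have : IsIso σK := isIso_frobN p n
  have hσb : σK ≫ b = b ≫ σ := frobN_comp p b n
  let pr : (Red.bc b G').left ⟶ G.left := GrpSch.bcProj b G' ≫ pullback.fst G.hom σ
  let ψ : (Red.bc b G').left ⟶ GK.left := pullback.lift pr ((Red.bc b G').hom ≫ σK) (by
    simp only [pr, Category.assoc, pullback.condition]
    rw [← Category.assoc (GrpSch.bcProj b G'), show GrpSch.bcProj b G' ≫ pullback.snd G.hom σ =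
      (Red.bc b G').hom ≫ b from (GrpSch.isPullback_bc b G').w, Category.assoc, hσb])
  have ψ1 : ψ ≫ GrpSch.bcProj b G = pr := pullback.lift_fst _ _ _
  have ψ2 : ψ ≫ GK.hom = (Red.bc b G').hom ≫ σK := pullback.lift_snd _ _ _
  have hψ : IsIso ψ := by
    let φ₀ : GK.left ⟶ G'.left := pullback.lift (GrpSch.bcProj b G) (GK.hom ≫ inv σK ≫ b) (by
      rw [(GrpSch.isPullback_bc b G).w, Category.assoc, Category.assoc, ← hσb, IsIso.inv_hom_id_assoc])
    have φ01 : φ₀ ≫ pullback.fst G.hom σ = GrpSch.bcProj b G := pullback.lift_fst _ _ _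
    have φ02 : φ₀ ≫ G'.hom = GK.hom ≫ inv σK ≫ b := pullback.lift_snd _ _ _
    let φ : GK.left ⟶ (Red.bc b G').left := (GrpSch.isPullback_bc b G').lift φ₀ (GK.hom ≫ inv σK) (by
      rw [φ02, Category.assoc])
    have φ1 : φ ≫ GrpSch.bcProj b G' = φ₀ := IsPullback.lift_fst _ _ _ _
    have φ2 : φ ≫ (Red.bc b G').hom = GK.hom ≫ inv σK := IsPullback.lift_snd _ _ _ _
    refine ⟨φ, (GrpSch.isPullback_bc b G').hom_ext ?_ ?_, (GrpSch.isPullback_bc b G).hom_ext ?_ ?_⟩
    · rw [Category.assoc, φ1, Category.id_comp]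
      refine pullback.hom_ext ?_ ?_
      · rw [Category.assoc, φ01, ψ1]
      · show (ψ ≫ φ₀) ≫ G'.hom = GrpSch.bcProj b G' ≫ G'.hom
        rw [Category.assoc, φ02, reassoc_of% ψ2, IsIso.hom_inv_id_assoc, (GrpSch.isPullback_bc b G').w]
    · rw [Category.assoc, φ2, reassoc_of% ψ2, IsIso.hom_inv_id, Category.comp_id, Category.id_comp]
    · rw [Category.assoc, ψ1, Category.id_comp, ← φ01, ← φ1, Category.assoc]
    · rw [Category.assoc, ψ2, reassoc_of% φ2, IsIso.inv_hom_id, Category.comp_id, Category.id_comp]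
  let j : QK.left ⟶ GK.left := mK.left ≫ ψ
  have hj : IsClosedImmersion j := inferInstanceAs (IsClosedImmersion (mK.left ≫ ψ))
  have hvj : vK.left ≫ j = frobN p GK.left n := by
    refine (GrpSch.isPullback_bc b G).hom_ext ?_ ?_
    · simp only [j, Category.assoc]
      rw [ψ1]
      show vK.left ≫ mK.left ≫ GrpSch.bcProj b G' ≫ pullback.fst G.hom σ = frobN p GK.left n ≫ GrpSch.bcProj b G
      rw [← Category.assoc mK.left, GrpSch.bc_map_proj, Category.assoc, ← Category.assoc vK.left,
        GrpSch.bc_map_proj, Category.assoc, ← Category.assoc v.left, ← Over.comp_left, hvm, hufst,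
        frobN_comp p (GrpSch.bcProj b G) n]
    · simp only [j, Category.assoc]
      rw [ψ2, ← Category.assoc mK.left, Over.w mK, ← Category.assoc, Over.w vK, frobN_comp p GK.hom n]
  have hid : ∀ x : GK.left, j (vK.left x) = x := fun x => by
    rw [← Scheme.Hom.comp_apply, hvj, frobN_apply]
  let V : QK.left.Opens := j ⁻¹ᵁ U
  have hVa : IsAffineOpen V := hU.preimage j
  have : _root_.IsReduced Γ(QK.left, V) := by
    refine ⟨fun c ⟨m, hm⟩ => ?_⟩
    obtain ⟨a, rfl⟩ := j.app_surjective U hU c
    apply FlatInj.app_injective vK.left V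
    rw [map_zero]
    have e : U ≤ frobN p GK.left n ⁻¹ᵁ U := fun x hx => by
      change frobN p GK.left n x ∈ U
      rwa [frobN_apply]
    have e' : U ≤ vK.left ⁻¹ᵁ V := fun x hx => by
      change j (vK.left x) ∈ U
      rwa [hid]
    have hbij : Function.Injective (GK.left.presheaf.map (homOfLE e').op) := by
      have he : vK.left ⁻¹ᵁ V = U := le_antisymm (fun x hx => by
        have : j (vK.left x) ∈ U := hx
        rwa [hid] at this) e'
      have : IsIso (homOfLE e').op := by
        have : IsIso (homOfLE e') := ⟨homOfLE he.le, rfl, rfl⟩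
        infer_instance
      exact (ConcreteCategory.bijective_of_isIso _).1
    apply hbij
    rw [map_zero]
    have key : GK.left.presheaf.map (homOfLE e').op (vK.left.app V (j.app U a)) = a ^ p ^ n := by
      rw [← frobN_appLE p GK.left n U e a]
      have : (vK.left ≫ j).appLE U U (by rw [hvj]; exact e) = (frobN p GK.left n).appLE U U e := by
        simp only [hvj]
      rw [← this, Scheme.Hom.comp_appLE]
      rfl
    rw [key]
    refine hn a ?_
    have h2 : (a ^ p ^ n) ^ m = 0 := by
      rw [← key, ← map_pow, ← map_pow, hm, map_zero, map_zero]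
    exact ⟨p ^ n * m, by rw [pow_mul, h2]⟩
  have : IsAffine V.toScheme := hVa
  have : _root_.IsReduced (Γ(V.toScheme, ⊤)) :=
    isReduced_of_injective V.topIso.hom.hom V.topIso.commRingCatIsoToRingEquiv.injective
  have := (affine_isReduced_iff _).2 this
  have : IsReduced V.toScheme := isReduced_of_isOpenImmersion V.toScheme.isoSpec.hom
  have : LocallyOfFinitePresentation QK.hom := LocallyOfFinitePresentation.iff_locallyOfFiniteType.2 inferInstance
  have : Nonempty V.toScheme := ⟨⟨vK.left e₁, show j (vK.left e₁) ∈ U by rw [hid]; exact he₁⟩⟩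
  have : PerfectField K := inferInstance
  obtain ⟨z, hz⟩ := (Scheme.Hom.dense_smoothLocus_of_perfectField (V.ι ≫ QK.hom)).nonempty
  refine H63.GrpSmooth.smooth_of_isAlgClosed QK ⟨V.ι z, ?_⟩
  rw [← Scheme.Hom.preimage_smoothLocus_eq] at hz
  exact hz

end

end Groth.Agent.Lib.GrpQ.FrobQuot
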