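import Groth.Prelude.Def_AlgGrp
import Groth.Agent.Lib.GrpSch.Basic
import Mathlib.AlgebraicGeometry.Morphisms.SchemeTheoreticallyDominant
import Mathlib.GroupTheory.Solvable
import Mathlib.GroupTheory.Nilpotent
import Groth.Prelude.Def_Red

/-! Group laws pass from a schematically dense fibre to the whole of a flat separated group scheme. -/

set_option autoImplicit false

universe u v w

open CategoryTheory Limits MonoidalCategory CartesianMonoidalCategory MonObj AlgebraicGeometry
open scoped commutatorElement

namespace Groth.Agent.Lib.GrpQ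

section Group

variable {H : Type v} [Group H] {H' : Type w} [Group H']

/-- The iterated commutator `[…[x, y₁], …, yₙ]`. -/
def comW : ∀ (n : ℕ) {H : Type v} [Group H], H → (Fin n → H) → H
  | 0, _, _, x, _ => x
  | n + 1, _, _, x, y => comW n ⁅x, y 0⁆ (Fin.tail y)

theorem map_comW {H : Type v} [Group H] {H' : Type v} [Group H'] (φ : H →* H') :
    ∀ (n : ℕ) (x : H) (y : Fin n → H), φ (comW n x y) = comW n (φ x) (φ ∘ y)
  | 0, _, _ => rfl
  | n + 1, x, y => by
    rw [comW, map_comW φ n, map_commutatorElement]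
    rfl

theorem mem_upperCentralSeries_iff {H : Type v} [Group H] :
    ∀ (n : ℕ) (x : H), x ∈ Subgroup.upperCentralSeries H n ↔ ∀ y : Fin n → H, comW n x y = 1
  | 0, x => by
    rw [Subgroup.upperCentralSeries_zero, Subgroup.mem_bot]
    exact ⟨fun h _ => h, fun h => h Fin.elim0⟩
  | n + 1, x => by
    rw [Subgroup.mem_upperCentralSeries_succ_iff]
    simp only [mem_upperCentralSeries_iff n]
    constructor
    · intro h y
      exact h (y 0) (Fin.tail y)
    · intro h a y
      have := h (Fin.cons a y)
      rwa [comW, Fin.cons_zero, Fin.tail_cons] at this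

theorem upperCentralSeries_eq_top_iff {H : Type v} [Group H] (n : ℕ) :
    Subgroup.upperCentralSeries H n = ⊤ ↔ ∀ (x : H) (y : Fin n → H), comW n x y = 1 := by
  rw [Subgroup.eq_top_iff']
  exact forall_congr' fun x => mem_upperCentralSeries_iff n x

/-- Index type of the `n`-th derived word. -/
def DerI : ℕ → Type
  | 0 => Unit
  | n + 1 => DerI n ⊕ DerI n

instance : ∀ n, Finite (DerI n)
  | 0 => inferInstanceAs (Finite Unit)
  | n + 1 => by
    have := (inferInstance : Finite Unit)
    have : Finite (DerI n) := instFiniteDerI n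
    exact inferInstanceAs (Finite (DerI n ⊕ DerI n))

/-- The `n`-th derived word. -/
def derW : ∀ (n : ℕ) {H : Type v} [Group H], (DerI n → H) → H
  | 0, _, _, v => v ()
  | n + 1, _, _, v => ⁅derW n (fun i => v (Sum.inl i)), derW n (fun i => v (Sum.inr i))⁆

theorem map_derW {H : Type v} [Group H] {H' : Type v} [Group H'] (φ : H →* H') :
    ∀ (n : ℕ) (v : DerI n → H), φ (derW n v) = derW n (φ ∘ v)
  | 0, _ => rfl
  | n + 1, v => by
    rw [derW, map_commutatorElement, map_derW φ n, map_derW φ n]
    rfl

theorem commutator_closure_le_of_forall {s : Set H} {C : Subgroup H} [C.Normal]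
    (hC : ∀ a ∈ s, ∀ b ∈ s, ⁅a, b⁆ ∈ C) : ⁅Subgroup.closure s, Subgroup.closure s⁆ ≤ C := by
  rw [← QuotientGroup.ker_mk' C, ← (Subgroup.map_eq_bot_iff _), Subgroup.map_commutator,
    Subgroup.commutator_eq_bot_iff_le_centralizer, MonoidHom.map_closure, Subgroup.closure_le]
  rw [Subgroup.centralizer_closure]
  rintro _ ⟨a, ha, rfl⟩ _ ⟨b, hb, rfl⟩
  refine (commutatorElement_eq_one_iff_mul_comm.mp ?_).symm
  rw [← map_commutatorElement]
  exact (QuotientGroup.eq_one_iff _).2 (hC a ha b hb)

theorem derivedSeries_eq_closure {H : Type v} [Group H] :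
    ∀ n, derivedSeries H n = Subgroup.closure (Set.range fun v : DerI n → H => derW n v)
  | 0 => by
    refine (eq_top_iff.2 fun x _ => Subgroup.subset_closure ?_).symm
    exact ⟨fun _ => x, rfl⟩
  | n + 1 => by
    have : (Subgroup.closure (Set.range fun v : DerI (n + 1) → H => derW (n + 1) v)).Normal := by
      refine ⟨fun x hx g => ?_⟩
      refine Subgroup.closure_induction ?_ ?_ ?_ ?_ hx
      · rintro _ ⟨v, rfl⟩
        refine Subgroup.subset_closure ⟨(MulAut.conj g).toMonoidHom ∘ v, ?_⟩
        exact (map_derW (MulAut.conj g).toMonoidHom (n + 1) v).symm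
      · simp
      · intro a b _ _ ha hb
        simpa [_root_.mul_assoc] using mul_mem ha hb
      · intro a _ ha
        simpa [_root_.mul_assoc] using inv_mem ha
    rw [derivedSeries_succ, derivedSeries_eq_closure n]
    refine le_antisymm (commutator_closure_le_of_forall ?_) ((Subgroup.closure_le _).2 ?_)
    · rintro _ ⟨v, rfl⟩ _ ⟨w, rfl⟩
      exact Subgroup.subset_closure ⟨Sum.elim v w, rfl⟩
    · rintro _ ⟨v, rfl⟩
      exact Subgroup.commutator_mem_commutator
        (Subgroup.subset_closure ⟨fun i => v (Sum.inl i), rfl⟩)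
        (Subgroup.subset_closure ⟨fun i => v (Sum.inr i), rfl⟩)

theorem derivedSeries_eq_bot_iff {H : Type v} [Group H] (n : ℕ) :
    derivedSeries H n = ⊥ ↔ ∀ v : DerI n → H, derW n v = 1 := by
  rw [derivedSeries_eq_closure, Subgroup.closure_eq_bot_iff]
  exact ⟨fun h v => h ⟨v, rfl⟩, by rintro h _ ⟨v, rfl⟩; exact h v⟩

end Group

variable {S S₁ S₂ : Scheme.{u}}

/-- Morphisms to a separated scheme agreeing after a schematically dominant morphism are equal. -/
theorem hom_ext_of_schDominant {X Y Z W : Scheme.{u}} (g : Y ⟶ Z) [IsSeparated g] {a b : X ⟶ Y}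
    (h : a ≫ g = b ≫ g) (p : W ⟶ X) [IsSchemeTheoreticallyDominant p] (hp : p ≫ a = p ≫ b) :
    a = b := by
  let eq' := pullback.snd (pullback.diagonal g) (pullback.lift a b h)
  have hc : (p ≫ a) ≫ pullback.diagonal g = p ≫ pullback.lift a b h := by
    apply pullback.hom_ext
    · simp; erw [pullback.lift_fst]
    · simp; erw [pullback.lift_snd]; exact hp
  have heq : pullback.lift (p ≫ a) p hc ≫ eq' = p := pullback.lift_snd _ _ _
  have hk : eq'.ker = ⊥ := by
    refine le_bot_iff.1 ?_
    have := Scheme.Hom.le_ker_comp (pullback.lift (p ≫ a) p hc) eq'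
    rwa [heq, p.ker_eq_bot] at this
  have : IsIso eq' := IsClosedImmersion.isIso_iff_ker_eq_bot.2 hk
  have e := pullback.condition (f := pullback.diagonal g) (g := pullback.lift a b h)
  have e1 := congrArg (fun f => f ≫ pullback.fst g g) e
  have e2 := congrArg (fun f => f ≫ pullback.snd g g) e
  simp only [Category.assoc, pullback.diagonal_fst, pullback.diagonal_snd, pullback.lift_fst,
    pullback.lift_snd, Category.comp_id] at e1 e2
  rw [← cancel_epi eq']
  exact e1.symm.trans e2

theorem exists_power (G : Over S) [Flat G.hom] : ∀ m : ℕ, ∃ (P : Over S) (_ : Flat P.hom)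
    (π : Fin m → (P ⟶ G)), ∀ (T : Over S) (v : Fin m → (T ⟶ G)), ∃ f : T ⟶ P, ∀ i, f ≫ π i = v i
  | 0 => ⟨Over.mk (𝟙 S), (inferInstance : Flat (𝟙 S)), Fin.elim0, fun T _ => ⟨Over.homMk T.hom (by simp), fun i => i.elim0⟩⟩
  | m + 1 => by
    obtain ⟨P, hP, π, h⟩ := exists_power G m
    have : Flat (fst P G).left := GrpSch.fst_left_of P (P := @Flat) ‹_›
    refine ⟨P ⊗ G, by rw [← Over.w (fst P G)]; infer_instance,
      Fin.snoc (fun i => fst P G ≫ π i) (snd P G), fun T v => ?_⟩
    obtain ⟨f, hf⟩ := h T fun i => v i.castSucc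
    refine ⟨CartesianMonoidalCategory.lift f (v (Fin.last m)), fun i => ?_⟩
    induction i using Fin.lastCases with
    | last => rw [Fin.snoc_last, lift_snd]
    | cast i => rw [Fin.snoc_castSucc, lift_fst_assoc, hf]

/-- Morphisms from a flat scheme to a separated one agree as soon as they agree over a
schematically dominant base change. -/
theorem ext_of_dominant_base (j : S₁ ⟶ S) [IsSchemeTheoreticallyDominant j] [QuasiCompact j]
    {T G : Over S} [Flat T.hom] [IsSeparated G.hom] {a b : T ⟶ G}
    (h : (Over.pullback j).map a = (Over.pullback j).map b) : a = b := by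
  ext1
  have hp : pullback.fst T.hom j ≫ a.left = pullback.fst T.hom j ≫ b.left := by
    have := congrArg (fun f => f.left ≫ pullback.fst G.hom j) h
    simpa [pullback.lift_fst] using this
  exact hom_ext_of_schDominant G.hom (by rw [Over.w, Over.w]) (pullback.fst T.hom j) hp

/-- A natural law holding on a schematically dense fibre holds on every fibre. -/
theorem law_of_dominant_base (j : S₁ ⟶ S) [IsSchemeTheoreticallyDominant j] [QuasiCompact j]
    (i : S₂ ⟶ S) (G : Over S) [GrpObj G] [Flat G.hom] [IsSeparated G.hom] {idx : Type} [Finite idx]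
    (F : ∀ {H : Type u} [Group H], (idx → H) → H)
    (hF : ∀ {H H' : Type u} [Group H] [Group H'] (φ : H →* H') (v : idx → H), φ (F v) = F (φ ∘ v))
    (hj : ∀ (X : Over S₁) (v : idx → (X ⟶ Red.bc j G)), F v = 1)
    (X : Over S₂) (v : idx → (X ⟶ Red.bc i G)) : F v = 1 := by
  obtain ⟨m, ⟨e⟩⟩ := Finite.exists_equiv_fin idx
  obtain ⟨P, hP, π, hπ⟩ := exists_power G m
  have hu : F (fun a => π (e a)) = 1 := by
    refine ext_of_dominant_base j ?_
    have h1 := hF ((Over.pullback j).homMonoidHom (X := P) (M := G)) (fun a => π (e a))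
    rw [hj] at h1
    rw [Functor.map_one]
    exact h1
  have hall : ∀ (T : Over S) (w : idx → (T ⟶ G)), F w = 1 := fun T w => by
    obtain ⟨f, hf⟩ := hπ T fun a => w (e.symm a)
    let φ : (P ⟶ G) →* (T ⟶ G) :=
      { toFun := fun x => f ≫ x
        map_one' := MonObj.comp_one f
        map_mul' := fun x y => MonObj.comp_mul f x y }
    have h1 := hF φ (fun a => π (e a))
    rw [hu, map_one] at h1
    have h2 : φ ∘ (fun a => π (e a)) = w := funext fun a => by
      change f ≫ π (e a) = w a
      rw [hf, Equiv.symm_apply_apply]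
    rw [h2] at h1
    exact h1.symm
  let adj := Over.mapPullbackAdj i
  let ψ : ((Over.map i).obj X ⟶ G) →* (X ⟶ Red.bc i G) :=
    { toFun := fun x => adj.unit.app X ≫ (Over.pullback i).map x
      map_one' := by rw [Functor.map_one, MonObj.comp_one]
      map_mul' := fun x y => by rw [Functor.map_mul, MonObj.comp_mul] }
  have h2 : ψ ∘ (fun a => (adj.homEquiv X G).symm (v a)) = v := funext fun a => by
    change adj.unit.app X ≫ (Over.pullback i).map ((adj.homEquiv X G).symm (v a)) = v a
    exact (adj.homEquiv_unit (X := X) (Y := G) ((adj.homEquiv X G).symm (v a))).symm.trans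
      (Equiv.apply_symm_apply _ _)
  have h1 := hF ψ (fun a => (adj.homEquiv X G).symm (v a))
  rw [hall, map_one, h2] at h1
  exact h1.symm

theorem isSchemeTheoreticallyDominant_fractionRing (A K : Type u) [CommRing A] [IsDomain A]
    [Field K] [Algebra A K] [IsFractionRing A K] :
    IsSchemeTheoreticallyDominant (Spec.map (CommRingCat.ofHom (algebraMap A K))) := by
  have : IsDominant (Spec.map (CommRingCat.ofHom (algebraMap A K))) := by
    refine ⟨?_⟩
    rw [DenseRange]
    exact PrimeSpectrum.denseRange_comap_iff_ker_le_nilRadical (algebraMap A K) |>.2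
      ((RingHom.injective_iff_ker_eq_bot _).1 (IsFractionRing.injective A K) ▸ bot_le)
  exact IsSchemeTheoreticallyDominant.of_isDominant _

end Groth.Agent.Lib.GrpQ
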