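import Groth.Agent.Lib.GrpSch.Basic
import Mathlib.AlgebraicGeometry.Morphisms.UniversallyOpen
import Mathlib.AlgebraicGeometry.Restrict

/-!
The largest open on which a homomorphism of group schemes has a given property is a subgroup.
-/

set_option autoImplicit false
set_option backward.isDefEq.respectTransparency false
set_option backward.isDefEq.respectTransparency.types false

universe u

open CategoryTheory Limits MonoidalCategory CartesianMonoidalCategory MonObj GrpObj AlgebraicGeometry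

namespace Groth.Agent.Lib.GrpQ.MaxOpen

variable (P : MorphismProperty Scheme.{u}) [P.IsStableUnderBaseChange]

/-- `f` has the property `P` near `x`. -/
def Good {X Y : Scheme.{u}} (f : X ⟶ Y) (x : X) : Prop := ∃ O : X.Opens, x ∈ O ∧ P (O.ι ≫ f)

theorem good_baseChange {W X Y Y' : Scheme.{u}} {a : W ⟶ X} {b : W ⟶ Y'} {f : X ⟶ Y} {g : Y' ⟶ Y}
    (sq : IsPullback a b f g) (w : W) (h : Good P f (a w)) : Good P b w := by
  obtain ⟨O, hwO, hO⟩ := h
  exact ⟨a ⁻¹ᵁ O, hwO, MorphismProperty.of_isPullback ((isPullback_morphismRestrict a O).paste_vert sq) hO⟩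

theorem good_pre {W X Y : Scheme.{u}} (e : W ⟶ X) [IsIso e] (f : X ⟶ Y) (w : W) (h : Good P f (e w)) :
    Good P (e ≫ f) w :=
  good_baseChange P (a := e) (b := e ≫ f) (g := 𝟙 Y) (IsPullback.of_horiz_isIso ⟨by simp⟩) w h

theorem good_post [P.RespectsIso] {X Y Y' : Scheme.{u}} (f : X ⟶ Y) (e : Y ⟶ Y') [IsIso e] (x : X)
    (h : Good P f x) : Good P (f ≫ e) x := by
  obtain ⟨O, hxO, hO⟩ := h
  exact ⟨O, hxO, by rw [← Category.assoc]; exact (P.cancel_right_of_respectsIso _ e).2 hO⟩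

variable {S : Scheme.{u}} {G H : Over S} [GrpObj G] [GrpObj H] (u : G ⟶ H) [IsMonHom u]

theorem good_inv [P.RespectsIso] (g : G.left) (h : Good P u.left g) : Good P u.left (ι[G].left g) := by
  have : IsIso ι[G] := ⟨⟨ι[G], by simp, by simp⟩⟩
  have : IsIso ι[H] := ⟨⟨ι[H], by simp, by simp⟩⟩
  have : IsIso ι[G].left := (Over.forget S).map_isIso ι[G]
  have : IsIso ι[H].left := (Over.forget S).map_isIso ι[H]
  have hu : ι[G] ≫ u ≫ ι[H] = u := by
    rw [← Category.assoc, GrpObj.inv_hom u, Category.assoc, GrpObj.inv_comp_inv, Category.comp_id]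
  have hgg : ι[G].left (ι[G].left g) = g := by
    rw [← Scheme.Hom.comp_apply, ← Over.comp_left, GrpObj.inv_comp_inv]; rfl
  have := good_pre P ι[G].left (u ≫ ι[H]).left (ι[G].left g) (by
    rw [hgg, Over.comp_left]; exact good_post P _ _ g h)
  rwa [← Over.comp_left, hu] at this

theorem good_mul [P.RespectsIso] (Q : MorphismProperty Scheme.{u}) [Q.IsStableUnderBaseChange] (V : G.left.Opens)
    (hVS : Q (V.ι ≫ G.hom)) (hV : P (V.ι ≫ u.left))
    (desc : ∀ {W X Y Y' : Scheme.{u}} (a : W ⟶ X) (b : W ⟶ Y') (f : X ⟶ Y) (g : Y' ⟶ Y),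
      IsPullback a b f g → Q g → ∀ w, Good P b w → Good P f (a w))
    (z : ↥(G ⊗ G).left) (h₁ : (fst G G).left z ∈ V) (h₂ : (snd G G).left z ∈ V) :
    Good P u.left (μ[G].left z) := by
  let V' : Over S := Over.mk (V.ι ≫ G.hom)
  let i : V' ⟶ G := Over.homMk V.ι rfl
  let x : V' ⊗ G ⟶ G := fst V' G ≫ i
  let y : V' ⊗ H ⟶ H := fst V' H ≫ i ≫ u
  let σA : V' ⊗ G ⟶ V' ⊗ G := lift (fst V' G) (x * snd V' G)
  let σB : V' ⊗ H ⟶ V' ⊗ H := lift (fst V' H) (y * snd V' H)
  have : IsIso σA := by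
    refine ⟨⟨lift (fst V' G) (x⁻¹ * snd V' G), ?_, ?_⟩⟩
    · refine CartesianMonoidalCategory.hom_ext _ _ ?_ ?_
      · simp [σA]
      · simp [σA, x, MonObj.comp_mul, GrpObj.comp_inv]
    · refine CartesianMonoidalCategory.hom_ext _ _ ?_ ?_
      · simp [σA]
      · simp [σA, x, MonObj.comp_mul, GrpObj.comp_inv]
  have : IsIso σB := by
    refine ⟨⟨lift (fst V' H) (y⁻¹ * snd V' H), ?_, ?_⟩⟩
    · refine CartesianMonoidalCategory.hom_ext _ _ ?_ ?_
      · simp [σB]
      · simp [σB, y, MonObj.comp_mul, GrpObj.comp_inv]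
    · refine CartesianMonoidalCategory.hom_ext _ _ ?_ ?_
      · simp [σB]
      · simp [σB, y, MonObj.comp_mul, GrpObj.comp_inv]
  have : IsIso σA.left := (Over.forget S).map_isIso σA
  have : IsIso σB.left := (Over.forget S).map_isIso σB
  have hsq : σA ≫ (V' ◁ u) = (V' ◁ u) ≫ σB := by
    refine CartesianMonoidalCategory.hom_ext _ _ ?_ ?_
    · simp [σA, σB]
    · simp [σA, σB, x, y, MonObj.comp_mul, MonObj.mul_comp]
  obtain ⟨z₀, rfl⟩ : ∃ z₀, (i ▷ G).left z₀ = z := by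
    obtain ⟨z₀, hz, -⟩ := Scheme.exists_preimage_of_isPullback (GrpSch.isPullback_whiskerRight i G)
      z ⟨(fst G G).left z, h₁⟩ rfl
    exact ⟨z₀, hz⟩
  have hb : IsPullback (snd V' G).left (V' ◁ u).left u.left (snd V' H).left :=
    (GrpSch.isPullback_whiskerLeft V' u).flip
  have hsnd : (snd V' G).left z₀ ∈ V := by
    rwa [← Scheme.Hom.comp_apply, ← Over.comp_left, whiskerRight_snd] at h₂
  have g0 : Good P (V' ◁ u).left z₀ := good_baseChange P hb z₀ ⟨V, hsnd, hV⟩
  have heq : (V' ◁ u).left = inv σA.left ≫ (V' ◁ u).left ≫ σB.left := by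
    rw [← Over.comp_left, ← hsq, Over.comp_left, IsIso.inv_hom_id_assoc]
  have g1 : Good P (V' ◁ u).left (σA.left z₀) := by
    rw [heq]
    refine good_pre P _ _ _ ?_
    rw [← Scheme.Hom.comp_apply, IsIso.hom_inv_id]
    exact good_post P _ _ z₀ g0
  have hQ : Q (snd V' H).left := GrpSch.snd_left_of H hVS
  have := desc _ _ _ _ hb hQ _ g1
  have e : σA ≫ snd V' G = (i ▷ G) ≫ μ[G] := by
    simp only [σA, x, lift_snd, Hom.mul_def]
    congr 1
    all_goals (refine CartesianMonoidalCategory.hom_ext _ _ ?_ ?_ <;> simp)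
  rwa [← Scheme.Hom.comp_apply, ← Over.comp_left, e, Over.comp_left, Scheme.Hom.comp_apply] at this

/-- The largest open on which a homomorphism has a property is an open subgroup over its image. -/
theorem isSubgroup [P.RespectsIso] (Q : MorphismProperty Scheme.{u}) [Q.IsStableUnderBaseChange]
    (hQ : ∀ {X Y : Scheme.{u}} (f : X ⟶ Y), Q f → UniversallyOpen f) (V : G.left.Opens)
    (hVS : Q (V.ι ≫ G.hom)) (hV : P (V.ι ≫ u.left)) (hmax : ∀ W : G.left.Opens, P (W.ι ≫ u.left) → W ≤ V)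
    (desc : ∀ {W X Y Y' : Scheme.{u}} (a : W ⟶ X) (b : W ⟶ Y') (f : X ⟶ Y) (g : Y' ⟶ Y),
      IsPullback a b f g → Q g → ∀ w, Good P b w → Good P f (a w)) :
    IsOpen (G.hom.base '' (V : Set G.left)) ∧
    (∀ g ∈ V, ∀ p : ↥(𝟙_ (Over S)).left, (𝟙_ (Over S)).hom.base p = G.hom.base g → η[G].left.base p ∈ V) ∧
    (∀ g ∈ V, ι[G].left.base g ∈ V) ∧
    (∀ z : ↥(G ⊗ G).left, (fst G G).left.base z ∈ V → (snd G G).left.base z ∈ V → μ[G].left.base z ∈ V) := by
  have hin : ∀ g, Good P u.left g → g ∈ V := fun g ⟨O, hgO, hO⟩ => hmax O hO hgO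
  have hinv : ∀ g ∈ V, ι[G].left.base g ∈ V := fun g hg => hin _ (good_inv P u g ⟨V, hg, hV⟩)
  have hmul : ∀ z : ↥(G ⊗ G).left, (fst G G).left.base z ∈ V → (snd G G).left.base z ∈ V →
      μ[G].left.base z ∈ V := fun z h1 h2 => hin _ (good_mul P u Q V hVS hV desc z h1 h2)
  refine ⟨?_, fun g hg p hp => ?_, hinv, hmul⟩
  · have := hQ _ hVS
    have h := (V.ι ≫ G.hom).isOpenMap.isOpen_range
    rwa [Scheme.Hom.comp_base, TopCat.coe_comp, Set.range_comp, Scheme.Opens.range_ι] at h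
  · have hz := hmul ((lift (𝟙 G) ι[G]).left g)
      (by rw [← Scheme.Hom.comp_apply, ← Over.comp_left, lift_fst]; exact hg)
      (by rw [← Scheme.Hom.comp_apply, ← Over.comp_left, lift_snd]; exact hinv g hg)
    rw [← Scheme.Hom.comp_apply, ← Over.comp_left, GrpObj.right_inv, Over.comp_left, Scheme.Hom.comp_apply] at hz
    have : p = (toUnit G).left g := by
      have h := congr($(Over.w (toUnit G)) g)
      rw [Scheme.Hom.comp_apply] at h
      exact hp.trans h.symm
    rwa [this]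

end Groth.Agent.Lib.GrpQ.MaxOpen
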