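import Groth.Agent.Lib.GrpQ.MaxOpen
import Groth.Agent.Lib.Unram.BaseChangeNhd
import Groth.Agent.Lib.Flat55.FlatDescend
import Groth.Agent.H14.FppfDesc.Scheme

/-!
Descent of properties near a point along flat finitely presented, or universally open, base change.
-/

set_option autoImplicit false
set_option backward.isDefEq.respectTransparency false
set_option backward.isDefEq.respectTransparency.types false

universe u

open CategoryTheory Limits AlgebraicGeometry

namespace Groth.Agent.Lib.GrpQ.MaxOpen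

theorem universallyOpen_of_comp_surjective {X Y Z : Scheme.{u}} (f : X ⟶ Y) (g : Y ⟶ Z) [Surjective f]
    [UniversallyOpen (f ≫ g)] : UniversallyOpen g := by
  refine ⟨fun X' Y' i₁ i₂ f' h => ?_⟩
  have h' : IsPullback (pullback.fst f i₁) (pullback.snd f i₁ ≫ f') (f ≫ g) i₂ :=
    (IsPullback.of_hasPullback f i₁).paste_vert h.flip
  have ho := UniversallyOpen.universally_isOpenMap (f := f ≫ g) _ _ _ h'.flip
  intro U hU
  have hsurj : Function.Surjective (pullback.snd f i₁) := (pullback.snd f i₁).surjective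
  have e : f' '' U = (pullback.snd f i₁ ≫ f') '' (pullback.snd f i₁ ⁻¹' U) := by
    rw [Scheme.Hom.comp_base, TopCat.coe_comp, Set.image_comp, Set.image_preimage_eq U hsurj]
  show IsOpen (f' '' U)
  rw [e]
  exact ho _ (hU.preimage (pullback.snd f i₁).continuous)

/-- The image of a neighbourhood under a universally open base change. -/
theorem exists_image_open (Q : MorphismProperty Scheme.{u}) [Q.IsStableUnderBaseChange]
    [Q.IsStableUnderComposition]
    (hQi : ∀ {A B : Scheme.{u}} (i : A ⟶ B) [IsOpenImmersion i], Q i)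
    (hQ : ∀ {A B : Scheme.{u}} (f : A ⟶ B), Q f → UniversallyOpen f)
    (hQd : ∀ {A B C : Scheme.{u}} (e : A ⟶ B) (k : B ⟶ C), Q e → Surjective e → Q (e ≫ k) → Q k)
    {W X Y Y' : Scheme.{u}} {a : W ⟶ X} {b : W ⟶ Y'} {f : X ⟶ Y} {g : Y' ⟶ Y}
    (sq : IsPullback a b f g) (hg : Q g) (w : W) (h : Good Q b w) :
    ∃ O : X.Opens, a w ∈ O ∧ Q (O.ι ≫ f) := by
  obtain ⟨O, hwO, hO⟩ := h
  let m := O.ι ≫ a
  have hm : Q m := Q.comp_mem _ _ (hQi _) (MorphismProperty.of_isPullback sq.flip hg)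
  have := hQ m hm
  let O' : X.Opens := ⟨Set.range m, m.isOpenMap.isOpen_range⟩
  refine ⟨O', ⟨⟨w, hwO⟩, rfl⟩, ?_⟩
  have hr : Set.range m ⊆ Set.range O'.ι := by rw [Scheme.Opens.range_ι]; rfl
  let m' := IsOpenImmersion.lift O'.ι m hr
  have hm' : m' ≫ O'.ι = m := IsOpenImmersion.lift_fac _ _ _
  have hQm : Q m' := MorphismProperty.of_isPullback
    (IsPullback.of_horiz_isIso_mono (fst := 𝟙 _) (snd := m') (f := m) (g := O'.ι)
      ⟨by rw [Category.id_comp]; exact hm'.symm⟩) hm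
  refine hQd m' _ hQm ⟨fun x => ?_⟩ ?_
  · obtain ⟨y, hy⟩ := x.2
    exact ⟨y, Subtype.ext (by rw [← hy, ← hm']; rfl)⟩
  · rw [← Category.assoc, hm', Category.assoc, sq.w, ← Category.assoc]
    exact Q.comp_mem _ _ hO hg

theorem desc_universallyOpen {W X Y Y' : Scheme.{u}} (a : W ⟶ X) (b : W ⟶ Y') (f : X ⟶ Y) (g : Y' ⟶ Y)
    (sq : IsPullback a b f g) (hg : UniversallyOpen g) (w : W) (h : Good @UniversallyOpen b w) :
    Good @UniversallyOpen f (a w) :=
  exists_image_open @UniversallyOpen (fun _ _ => inferInstance) (fun _ h => h)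
    (fun e k _ _ h => have := h; universallyOpen_of_comp_surjective e k) sq hg w h

theorem desc_flatLfp {W X Y Y' : Scheme.{u}} (a : W ⟶ X) (b : W ⟶ Y') (f : X ⟶ Y) (g : Y' ⟶ Y)
    (sq : IsPullback a b f g) (hg : (@Flat ⊓ @LocallyOfFinitePresentation : MorphismProperty Scheme.{u}) g)
    (w : W) (h : Good (@Flat ⊓ @LocallyOfFinitePresentation : MorphismProperty Scheme.{u}) b w) :
    Good (@Flat ⊓ @LocallyOfFinitePresentation : MorphismProperty Scheme.{u}) f (a w) :=
  exists_image_open _ (fun _ _ => ⟨inferInstance, inferInstance⟩)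
    (fun _ h => by have := h.1; have := h.2; infer_instance)
    (fun e k he _ hk => by
      have := he.1; have := he.2; have := hk.1
      exact ⟨Flat55.FlatDescend.flat_of_comp e k,
        H14.FppfDesc.Scheme.locallyOfFinitePresentation_of_comp e k hk.2⟩) sq hg w h

/-- Descent of a pointwise property implying flat and finitely presented. -/
theorem desc_of_flatLfp (P : MorphismProperty Scheme.{u}) [P.IsStableUnderBaseChange] [P.IsStableUnderComposition]
    (hPi : ∀ {A B : Scheme.{u}} (i : A ⟶ B) [IsOpenImmersion i], P i)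
    (hP : P ≤ (@Flat ⊓ @LocallyOfFinitePresentation : MorphismProperty Scheme.{u}))
    (hdesc : ∀ {X Y Y' : Scheme.{u}} (f : X ⟶ Y) [LocallyOfFinitePresentation f] (g : Y' ⟶ Y) [Flat g]
      (w : ↑(pullback f g)), (∃ W : (pullback f g).Opens, w ∈ W ∧ P (W.ι ≫ pullback.snd f g)) →
      ∃ O : X.Opens, pullback.fst f g w ∈ O ∧ P (O.ι ≫ f))
    {W X Y Y' : Scheme.{u}} (a : W ⟶ X) (b : W ⟶ Y') (f : X ⟶ Y) (g : Y' ⟶ Y)
    (sq : IsPullback a b f g) (hg : (@Flat ⊓ @LocallyOfFinitePresentation : MorphismProperty Scheme.{u}) g)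
    (w : W) (h : Good P b w) : Good P f (a w) := by
  obtain ⟨O, hwO, hO⟩ := h
  obtain ⟨O', hwO', hO'⟩ := desc_flatLfp a b f g sq hg w ⟨O, hwO, hP _ hO⟩
  have := hO'.2
  have := hg.1
  have sq' : IsPullback (a ∣_ O') ((a ⁻¹ᵁ O').ι ≫ b) (O'.ι ≫ f) g :=
    ((isPullback_morphismRestrict a O').flip.paste_horiz sq.flip).flip
  let w' : ↥(a ⁻¹ᵁ O').toScheme := ⟨w, hwO'⟩
  obtain ⟨O'', hx, hO''⟩ := hdesc (O'.ι ≫ f) g (sq'.isoPullback.hom w')
    ⟨sq'.isoPullback.inv ⁻¹ᵁ ((a ⁻¹ᵁ O').ι ⁻¹ᵁ O), by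
      change sq'.isoPullback.inv (sq'.isoPullback.hom w') ∈ (a ⁻¹ᵁ O').ι ⁻¹ᵁ O
      rw [← Scheme.Hom.comp_apply, Iso.hom_inv_id]
      exact hwO, by
      rw [← sq'.isoPullback_inv_snd, ← morphismRestrict_ι_assoc, ← morphismRestrict_ι_assoc]
      exact P.comp_mem _ _ (hPi _) (P.comp_mem _ _ (hPi _) hO)⟩
  let j := O''.ι ≫ O'.ι
  refine ⟨j.opensRange, ?_, ?_⟩
  · rw [← Scheme.Hom.comp_apply, sq'.isoPullback_hom_fst] at hx
    refine ⟨⟨_, hx⟩, ?_⟩
    show ((a ∣_ O') ≫ O'.ι) w' = a w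
    rw [morphismRestrict_ι]
    rfl
  · rw [← j.isoOpensRange_inv_comp, Category.assoc, Category.assoc]
    exact P.comp_mem _ _ (hPi _) hO''

end Groth.Agent.Lib.GrpQ.MaxOpen
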