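import Groth.Agent.Lib.GrpQ.Kernel
import Groth.Agent.Lib.GrpQ.InfAgree
import Mathlib.Algebra.DualNumber
import Mathlib.LinearAlgebra.Basis.VectorSpace

/-!
A homomorphism which is injective on geometric points and on tangent vectors is a monomorphism.
-/

set_option autoImplicit false

universe u

open CategoryTheory Limits MonoidalCategory CartesianMonoidalCategory MonObj AlgebraicGeometry

namespace Groth.Agent.Lib.GrpQ.MonoCrit

noncomputable section

variable {k : Type u} [Field k]

/-- An ideal contained in its square in a noetherian ring, consisting of nilpotents, is zero. -/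
theorem eq_bot_of_le_sq {A : Type u} [CommRing A] [IsNoetherianRing A] (I : Ideal A)
    (h : I ≤ I ^ 2) (hn : ∀ a ∈ I, IsNilpotent a) : I = ⊥ := by
  obtain ⟨r, hr, hr0⟩ := Submodule.exists_sub_one_mem_and_smul_eq_zero_of_fg_of_le_smul I I
    (IsNoetherian.noetherian I) (by rw [smul_eq_mul, ← sq]; exact h)
  refine (Submodule.eq_bot_iff _).2 fun a ha => ?_
  have hu : IsUnit r := by
    have := (hn _ hr).isUnit_add_one
    rwa [sub_add_cancel] at this
  exact hu.mul_right_eq_zero.1 (hr0 a ha)

theorem eps_point {D : DualNumber k →ₐ[k] k} : D = TrivSqZeroExt.fstHom k k k := by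
  refine DualNumber.algHom_ext ?_
  change D DualNumber.eps = TrivSqZeroExt.fst DualNumber.eps
  rw [DualNumber.fst_eps]
  exact pow_eq_zero_iff two_ne_zero |>.1 (by rw [← map_pow, sq, DualNumber.eps_mul_eps, map_zero])

/-- A pointed algebra without tangent vectors, all of whose augmentation ideal is nilpotent, is the base. -/
theorem algHom_eq_of_noTangent {A : Type u} [CommRing A] [Algebra k A] [IsNoetherianRing A] (e : A →ₐ[k] k)
    (hn : ∀ a ∈ RingHom.ker e, IsNilpotent a)
    (h : ∀ D : A →ₐ[k] DualNumber k, (TrivSqZeroExt.fstHom k k k).comp D = e →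
      D = (Algebra.ofId k (DualNumber k)).comp e) (a : A) : a = algebraMap k A (e a) := by
  classical
  let m : Ideal A := RingHom.ker e
  have hm : ∀ b : A, b - algebraMap k A (e b) ∈ m := fun b => by
    rw [RingHom.mem_ker, map_sub, AlgHom.commutes]
    simp
  suffices hle : m ≤ m ^ 2 by
    have := hm a
    rw [eq_bot_of_le_sq m hle hn, Ideal.mem_bot, sub_eq_zero] at this
    exact this
  intro b hb
  by_contra hb2
  let W : Submodule k A := (m ^ 2).restrictScalars k ⊔ Submodule.span k {1}
  have hbW : b ∉ W := by
    intro hw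
    obtain ⟨x, hx, y, hy, hxy⟩ := Submodule.mem_sup.1 hw
    obtain ⟨c, rfl⟩ := Submodule.mem_span_singleton.1 hy
    have hxm : x ∈ m := Ideal.pow_le_self two_ne_zero hx
    have h0 : e (x + c • 1) = c := by
      rw [map_add, RingHom.mem_ker.1 hxm, map_smul, map_one, zero_add]; simp
    rw [hxy, RingHom.mem_ker.1 hb] at h0
    rw [← h0, zero_smul, add_zero] at hxy
    exact hb2 (hxy ▸ hx)
  obtain ⟨φ, hφb, hφW⟩ := Submodule.exists_dual_map_eq_bot_of_notMem hbW inferInstance
  have hφ0 : ∀ w ∈ W, φ w = 0 := fun w hw => by
    have : φ w ∈ W.map φ := Submodule.mem_map_of_mem hw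
    rwa [hφW, Submodule.mem_bot] at this
  have h1 : φ 1 = 0 := hφ0 1 (Submodule.mem_sup_right (Submodule.mem_span_singleton_self 1))
  have hmul : ∀ x y : A, φ (x * y) = e x * φ y + e y * φ x := by
    intro x y
    have h2 := hφ0 _ (Submodule.mem_sup_left (S := (m ^ 2).restrictScalars k) (T := Submodule.span k {(1 : A)})
      (show (x - algebraMap k A (e x)) * (y - algebraMap k A (e y)) ∈ (m ^ 2).restrictScalars k from by
        rw [Submodule.restrictScalars_mem, sq]; exact Ideal.mul_mem_mul (hm x) (hm y)))
    rw [show (x - algebraMap k A (e x)) * (y - algebraMap k A (e y)) =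
      x * y - e y • x - e x • y + (e x * e y) • (1 : A) by
        simp only [Algebra.smul_def, map_mul, _root_.mul_one]; ring, map_add, map_sub, map_sub, map_smul, map_smul,
      map_smul, h1] at h2
    simp only [smul_eq_mul, mul_zero, add_zero] at h2
    linear_combination h2
  let D : A →ₐ[k] DualNumber k :=
    { toFun := fun x => TrivSqZeroExt.inl (e x) + TrivSqZeroExt.inr (φ x)
      map_one' := by ext <;> simp [h1]
      map_mul' := fun x y => by
        ext <;> simp [hmul x y]
        ring
      map_zero' := by ext <;> simp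
      map_add' := fun x y => by ext <;> simp
      commutes' := fun c => by
        ext
        · simp [TrivSqZeroExt.algebraMap_eq_inl]
        · simp [Algebra.algebraMap_eq_smul_one, h1] }
  have hD := h D (AlgHom.ext fun x => by simp [D])
  have hb' := congrArg TrivSqZeroExt.snd (AlgHom.congr_fun hD b)
  simp [D, Algebra.ofId_apply, TrivSqZeroExt.algebraMap_eq_inl] at hb'
  exact hφb hb'

variable {G G' : Over (Spec (CommRingCat.of k))} [GrpObj G] [GrpObj G']

/-- A homomorphism injective on geometric points and on tangent vectors is a monomorphism. -/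
theorem mono_of_injective [LocallyOfFiniteType G.hom] [QuasiCompact G.hom] (f : G ⟶ G') [IsMonHom f]
    (hgeom : ∀ (K : Type u) [Field K] [IsAlgClosed K] [Algebra k K],
      Function.Injective (fun g : (Over.mk (Spec.map (CommRingCat.ofHom (algebraMap k K)))) ⟶ G => g ≫ f))
    (htan : ∀ g : (Over.mk (Spec.map (CommRingCat.ofHom (algebraMap k (DualNumber k))))) ⟶ G,
      (∀ x : 𝟙_ (Over (Spec (CommRingCat.of k))) ⟶ (Over.mk (Spec.map (CommRingCat.ofHom (algebraMap k (DualNumber k))))), x ≫ g = η[G]) →
        g ≫ f = toUnit _ ≫ η[G'] → g = toUnit _ ≫ η[G]) :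
    Mono f := by
  classical
  have := GrpSch.isSeparated_of_field G'
  obtain ⟨N, _, i, him, hi, hK, -⟩ := exists_kernel f
  have : Mono i := mono_of_left i
  have : LocallyOfFiniteType N.hom := by rw [← Over.w i]; infer_instance
  have : IsLocallyNoetherian N.left := LocallyOfFiniteType.isLocallyNoetherian N.hom
  let z := η[N].left (IsLocalRing.closedPoint k)
  have hone : ∀ {T : Over (Spec (CommRingCat.of k))}, (1 : T ⟶ N) ≫ i = toUnit T ≫ η[G] := fun {T} => by
    rw [Hom.one_def, Category.assoc, IsMonHom.one_hom]
  have hsub : ∀ x : N.left, x = z := by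
    intro x
    let φ : k →+* N.left.residueField x := (Spec.preimage (N.left.fromSpecResidueField x ≫ N.hom)).hom
    let L := AlgebraicClosure (N.left.residueField x)
    let _ : Algebra k L := ((algebraMap (N.left.residueField x) L).comp φ).toAlgebra
    let g : Over.mk (Spec.map (CommRingCat.ofHom (algebraMap k L))) ⟶ N :=
      Over.homMk (Spec.map (CommRingCat.ofHom (algebraMap (N.left.residueField x) L)) ≫ N.left.fromSpecResidueField x) (by
        rw [Category.assoc, ← Spec.map_preimage (N.left.fromSpecResidueField x ≫ N.hom), ← Spec.map_comp]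
        rfl)
    have h1 : (g ≫ i) ≫ f = (toUnit _ ≫ η[G]) ≫ f := by
      rw [Category.assoc, kernel_comp hK, MonObj.comp_one, ← hone, Category.assoc, kernel_comp hK,
        MonObj.comp_one]
    have h2 : g = 1 := by
      rw [← cancel_mono i, hgeom L h1, hone]
    have h3 := congrArg (fun e : _ ⟶ N => e.left (IsLocalRing.closedPoint L)) h2
    rw [Hom.one_def] at h3
    change N.left.fromSpecResidueField x _ = η[N].left _ at h3
    rw [Scheme.fromSpecResidueField_apply] at h3
    rw [h3]
    exact congrArg _ (Subsingleton.elim (α := Spec (CommRingCat.of k)) _ _)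
  obtain ⟨A, _, _, _, j, e, hj, he⟩ := InfAgree.exists_chart N η[N]
  have : Surjective j.left := ⟨fun x => ⟨(InfSub.ptOf e).left (IsLocalRing.closedPoint k), by
    rw [← Scheme.Hom.comp_apply, ← Over.comp_left, he, hsub x]⟩⟩
  have := isIso_of_isOpenImmersion_of_opensRange_eq_top j.left (top_unique fun x _ => j.left.surjective x)
  have : IsIso ((Over.forget _).map j) := this
  have : IsIso j := isIso_of_reflects_iso j (Over.forget _)
  have hsubA : Subsingleton (PrimeSpectrum A) := ⟨fun p q =>
    j.left.homeomorph.injective ((hsub _).trans (hsub _).symm)⟩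
  have hn : ∀ a ∈ RingHom.ker e, IsNilpotent a := fun a ha => by
    refine nilpotent_iff_mem_prime.2 fun J hJ => ?_
    have hJe : (⟨J, hJ⟩ : PrimeSpectrum A) = ⟨RingHom.ker e, RingHom.ker_isPrime e⟩ := Subsingleton.elim _ _
    have hJe' : J = RingHom.ker e := congrArg PrimeSpectrum.asIdeal hJe
    rw [hJe']
    exact ha
  have key := algHom_eq_of_noTangent e hn fun D hD => by
    let d : InfSub.sp k (DualNumber k) ⟶ G := InfSub.spMap D ≫ j ≫ i
    have hd := htan d (fun x => by
      obtain ⟨xh, hxh⟩ := Spec.map_surjective x.left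
      let xa : DualNumber k →ₐ[k] k :=
        { toRingHom := xh.hom
          commutes' := fun c => by
            have w := Over.w x
            rw [← hxh] at w
            change Spec.map xh ≫ Spec.map _ = 𝟙 _ at w
            rw [← Spec.map_comp, ← Spec.map_id] at w
            exact ConcreteCategory.congr_hom (Spec.map_injective w) c }
      have hx : x = InfSub.ptOf xa := Over.OverMorphism.ext hxh.symm
      have e1 : x ≫ InfSub.spMap D = InfSub.ptOf e := by
        rw [hx]
        ext1
        rw [Over.comp_left]
        refine (Spec.map_comp _ _).symm.trans ?_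
        rw [← hD, ← eps_point (D := xa)]
        rfl
      change x ≫ InfSub.spMap D ≫ j ≫ i = _
      rw [reassoc_of% e1, reassoc_of% he, IsMonHom.one_hom]) (by
      change (InfSub.spMap D ≫ j ≫ i) ≫ f = _
      rw [Category.assoc, Category.assoc, kernel_comp hK, MonObj.comp_one, MonObj.comp_one, Hom.one_def]
      rfl)
    have h2 : InfSub.spMap D = InfSub.spMap ((Algebra.ofId k (DualNumber k)).comp e) := by
      rw [← cancel_mono (j ≫ i)]
      refine hd.trans ?_
      rw [InfSub.spMap_comp, Category.assoc, ← IsMonHom.one_hom (f := i), ← he, Category.assoc,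
        show InfSub.spMap (Algebra.ofId k (DualNumber k)) = toUnit _ ≫ InfSub.ptOf (AlgHom.id k k) by
          ext1
          change Spec.map _ = (toUnit (InfSub.sp k (DualNumber k))).left ≫ Spec.map _
          rw [show CommRingCat.ofHom (AlgHom.id k k).toRingHom = 𝟙 _ from rfl, Spec.map_id]
          exact (Category.comp_id _).symm, Category.assoc]
      congr 1
      rw [← Category.assoc (InfSub.ptOf (AlgHom.id k k))]
      congr 1
      ext1
      rw [Over.comp_left]
      exact (Spec.map_comp (CommRingCat.ofHom e.toRingHom) (CommRingCat.ofHom (AlgHom.id k k).toRingHom))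
    ext1 x
    exact ConcreteCategory.congr_hom (Spec.map_injective (congrArg Over.Hom.left h2)) x
  have hid : InfSub.spMap (AlgHom.id k A) = toUnit (InfSub.sp k A) ≫ InfSub.ptOf e := by
    ext1
    rw [Over.comp_left]
    have e2 : Spec.map (CommRingCat.ofHom (AlgHom.id k A).toRingHom) =
        Spec.map (CommRingCat.ofHom e.toRingHom ≫ CommRingCat.ofHom (algebraMap k A)) := by
      congr 1
      ext a
      exact key a
    exact e2.trans (Spec.map_comp _ _)
  have hN : 𝟙 N = 1 := by
    rw [← cancel_epi j, MonObj.comp_one, Hom.one_def, ← he, Category.comp_id, ← Category.assoc, ← hid]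
    have : InfSub.spMap (AlgHom.id k A) = 𝟙 _ := Over.OverMorphism.ext (Spec.map_id _)
    rw [this, Category.id_comp]
  refine ⟨fun {T} g h hgh => ?_⟩
  obtain ⟨n, hn⟩ := (mem_kernel hK (g * h⁻¹)).2 (by
    rw [MonObj.mul_comp, GrpObj.inv_comp, hgh, mul_inv_cancel])
  rw [← Category.comp_id n, hN, MonObj.comp_one, MonObj.one_comp] at hn
  exact mul_inv_eq_one.1 hn.symm

end

end Groth.Agent.Lib.GrpQ.MonoCrit
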