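import Groth.Agent.Lib.GrpQ.AntiAffSub
import Groth.Agent.Lib.GrpQ.Rosenlicht
import Groth.Prelude.Def_VecGrp

/-!
Natural functions on the affine points of a separated scheme come from global functions; consequently
representations and actions with a fixed point of anti-affine groups are trivial.
-/

set_option autoImplicit false

universe u

open CategoryTheory Limits MonoidalCategory CartesianMonoidalCategory MonObj AlgebraicGeometry
open TensorProduct
open Groth.Agent.Lib.GrpQ

namespace Groth.Agent.Lib.GrpQ.NatFun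

noncomputable section

variable {k : Type u} [Field k] {G : Over (Spec (CommRingCat.of k))}

variable (F : ∀ (B : Type u) [CommRing B] [Algebra k B], (InfSub.sp k B ⟶ G) → B)
  (hF : ∀ {B B' : Type u} [CommRing B] [Algebra k B] [CommRing B'] [Algebra k B'] (φ : B →ₐ[k] B')
    (g : InfSub.sp k B ⟶ G), φ (F B g) = F B' (InfSub.spMap φ ≫ g))

include hF in
theorem map_eq {B B' : Type u} [CommRing B] [Algebra k B] [CommRing B'] [Algebra k B']
    (t : InfSub.sp k B ⟶ G) (t' : InfSub.sp k B' ⟶ G) (ψ : CommRingCat.of B ⟶ CommRingCat.of B')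
    (h : Spec.map ψ ≫ t.left = t'.left) : F B' t' = ψ (F B t) := by
  have hc : CommRingCat.ofHom (algebraMap k B) ≫ ψ = CommRingCat.ofHom (algebraMap k B') := by
    apply Spec.map_injective
    rw [Spec.map_comp]
    refine (congrArg (Spec.map ψ ≫ ·) (Over.w t).symm).trans ?_
    exact (Category.assoc _ _ _).symm.trans ((congrArg (· ≫ G.hom) h).trans (Over.w t'))
  let φ : B →ₐ[k] B' := { ψ.hom with commutes' := fun r => congr($hc r) }
  have e : InfSub.spMap φ ≫ t = t' := Over.OverMorphism.ext h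
  rw [← e, ← hF φ t]
  rfl

include hF in
/-- Natural functions on affine points come from global functions. -/
theorem exists_global [IsSeparated G.hom] :
    ∃ f : Γ(G.left, ⊤), ∀ (B : Type u) [CommRing B] [Algebra k B] (g : InfSub.sp k B ⟶ G),
      F B g = Rosenlicht.pb g f := by
  let 𝒰 := G.left.affineCover
  have hu : ∀ i, ∃ (R : CommRingCat.{u}) (_ : Algebra k R) (e : 𝒰.X i ≅ Spec R) (u : InfSub.sp k R ⟶ G),
      u.left = e.inv ≫ 𝒰.f i := fun i => by
    obtain ⟨_, u, hu⟩ := InfAgree.exists_algebra (X := G) ((𝒰.X i).isoSpec.inv ≫ 𝒰.f i)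
    exact ⟨_, _, (𝒰.X i).isoSpec, u, hu⟩
  choose R iA e u hu using hu
  let E : ∀ (X : Scheme.{u}), (X ⟶ Spec (CommRingCat.of (MvPolynomial PUnit.{u+1} (ULift.{u} ℤ)))) ≃
      (PUnit.{u+1} → Γ(X, ⊤)) := fun X => AffineSpace.toSpecMvPolyIntEquiv PUnit
  let val : ∀ i, Γ(𝒰.X i, ⊤) := fun i =>
    (e i).hom.appTop ((Scheme.ΓSpecIso (R i)).inv (F (R i) (u i)))
  let ψ := fun i => (E (𝒰.X i)).symm fun _ => val i
  have : G.left.IsSeparated := by
    constructor
    rw [← terminal.comp_from G.hom]
    infer_instance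
  -- the value on an affine scheme over two members
  have key : ∀ (Z : Scheme.{u}) [IsAffine Z] (B : Type u) [CommRing B] [Algebra k B] (w : InfSub.sp k B ⟶ G)
      (d : Z ⟶ Spec (CommRingCat.of B)) (i : 𝒰.I₀) (a : Z ⟶ 𝒰.X i), a ≫ 𝒰.f i = d ≫ w.left →
      a.appTop (val i) = d.appTop ((Scheme.ΓSpecIso (CommRingCat.of B)).inv (F B w)) := by
    intro Z _ B _ _ w d i a ha
    obtain ⟨_, w', hw'⟩ := InfAgree.exists_algebra (X := G) (Z.isoSpec.inv ≫ d ≫ w.left)
    let α := Spec.preimage (Z.isoSpec.inv ≫ a ≫ (e i).hom)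
    let β := Spec.preimage (Z.isoSpec.inv ≫ d)
    have h1 := map_eq F hF (u i) w' α (by
      simp only [α, Spec.map_preimage, hu, Category.assoc, Iso.hom_inv_id_assoc]
      rw [ha, hw'])
    have h2 := map_eq F hF w w' β (by simp only [β, Spec.map_preimage, Category.assoc]; rw [hw'])
    have hα : a.appTop ((e i).hom.appTop ((Scheme.ΓSpecIso (R i)).inv (F (R i) (u i)))) =
        Z.isoSpec.hom.appTop ((Scheme.ΓSpecIso Γ(Z, ⊤)).inv (α (F (R i) (u i)))) := by
      have h0 : a ≫ (e i).hom = Z.isoSpec.hom ≫ Spec.map α := by simp [α]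
      rw [← CommRingCat.comp_apply, ← Scheme.Hom.comp_appTop, h0, Scheme.Hom.comp_appTop, CommRingCat.comp_apply]
      exact congrArg _ (ConcreteCategory.congr_hom (Scheme.ΓSpecIso_inv_naturality α) _).symm
    have hβ : d.appTop ((Scheme.ΓSpecIso (CommRingCat.of B)).inv (F B w)) =
        Z.isoSpec.hom.appTop ((Scheme.ΓSpecIso Γ(Z, ⊤)).inv (β (F B w))) := by
      have h0 : d = Z.isoSpec.hom ≫ Spec.map β := by simp [β]
      conv_lhs => rw [h0, Scheme.Hom.comp_appTop, CommRingCat.comp_apply]
      exact congrArg _ (ConcreteCategory.congr_hom (Scheme.ΓSpecIso_inv_naturality β) _).symm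
    rw [hβ]
    exact hα.trans (congrArg _ (congrArg _ (h1.symm.trans h2)))
  have hglue : ∀ i j, pullback.fst (𝒰.f i) (𝒰.f j) ≫ ψ i = pullback.snd (𝒰.f i) (𝒰.f j) ≫ ψ j := by
    intro i j
    have : IsAffine (pullback (𝒰.f i) (𝒰.f j)) := by
      have : IsAffineHom (𝒰.f j) := IsAffineHom.of_comp _ (terminal.from G.left)
      exact isAffine_of_isAffineHom (pullback.fst (𝒰.f i) (𝒰.f j))
    apply (E _).injective
    funext t
    simp only [E, AffineSpace.toSpecMvPolyIntEquiv_comp, ψ, Equiv.apply_symm_apply]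
    refine (key _ (R j) (u j) (pullback.snd (𝒰.f i) (𝒰.f j) ≫ (e j).hom) i (pullback.fst (𝒰.f i) (𝒰.f j)) ?_).trans ?_
    · rw [hu, Category.assoc, Iso.hom_inv_id_assoc, pullback.condition]
    · rw [Scheme.Hom.comp_appTop, CommRingCat.comp_apply]
      rfl
  let Ψ := 𝒰.glueMorphisms ψ hglue
  refine ⟨E _ Ψ PUnit.unit, fun B _ _ g => ?_⟩
  suffices h : g.left ≫ Ψ = (E _).symm (fun _ => (Scheme.ΓSpecIso (CommRingCat.of B)).inv (F B g)) by
    have h' := congr(E _ $h PUnit.unit)
    simp only [E, AffineSpace.toSpecMvPolyIntEquiv_comp, Equiv.apply_symm_apply] at h'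
    change F B g = (Scheme.ΓSpecIso (CommRingCat.of B)).hom (g.left.appTop _)
    simp only [E]
    rw [h']
    simp
  refine Scheme.Cover.hom_ext (𝒰.pullback₁ g.left) _ _ fun i => ?_
  change pullback.fst g.left (𝒰.f i) ≫ _ = pullback.fst g.left (𝒰.f i) ≫ _
  rw [← Category.assoc, pullback.condition, Category.assoc, Scheme.Cover.ι_glueMorphisms]
  have : IsAffine (pullback g.left (𝒰.f i)) := by
    have : IsAffineHom (𝒰.f i) := IsAffineHom.of_comp _ (terminal.from G.left)
    have : IsAffine (InfSub.sp k B).left := inferInstanceAs (IsAffine (Spec (CommRingCat.of B)))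
    exact isAffine_of_isAffineHom (pullback.fst g.left (𝒰.f i))
  apply (E _).injective
  funext t
  simp only [E, AffineSpace.toSpecMvPolyIntEquiv_comp, ψ, Equiv.apply_symm_apply]
  refine (key _ B g (pullback.fst g.left (𝒰.f i)) i (pullback.snd g.left (𝒰.f i)) pullback.condition.symm).trans ?_
  exact congrArg _ (congrFun ((AffineSpace.toSpecMvPolyIntEquiv PUnit).apply_symm_apply fun _ => (Scheme.ΓSpecIso (CommRingCat.of B)).inv (F B g)) t).symm

include hF in
/-- Natural functions on an anti-affine group are constant. -/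
theorem eq_apply_one [GrpObj G] [IsIso G.hom.appTop] (B : Type u) [CommRing B] [Algebra k B]
    (g : InfSub.sp k B ⟶ G) : F B g = F B 1 := by
  have := GrpSch.isSeparated_of_field G
  obtain ⟨f, hf⟩ := exists_global F hF
  obtain ⟨c, rfl⟩ : ∃ c, ((Scheme.ΓSpecIso (CommRingCat.of k)).inv ≫ G.hom.appTop).hom c = f :=
    (ConcreteCategory.bijective_of_isIso ((Scheme.ΓSpecIso (CommRingCat.of k)).inv ≫ G.hom.appTop)).2 f
  rw [hf, hf, Rosenlicht.pb_const, Rosenlicht.pb_const]

/-- Representations of anti-affine groups are trivial. -/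
theorem gmod_eq_one [GrpObj G] [IsIso G.hom.appTop] {M : Type u} [AddCommGroup M] [Module k M]
    (m : VecGrp.GMod G M) (B : Type u) [CommRing B] [Algebra k B] (g : VecGrp.pt k B ⟶ G) : m.ρ B g = 1 := by
  let b := Module.Free.chooseBasis k M
  have h : ∀ j, m.ρ B g (1 ⊗ₜ b j) = 1 ⊗ₜ b j := fun j => by
    apply (Algebra.TensorProduct.basis B b).repr.injective
    ext i
    refine (eq_apply_one (G := G) (fun C _ _ t => (Algebra.TensorProduct.basis C b).repr (m.ρ C t (1 ⊗ₜ b j)) i)
      (fun {C C'} _ _ _ _ φ t => ?_) B g).trans ?_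
    · have h1 := m.naturality φ t (1 ⊗ₜ b j)
      rw [VecGrp.Wmap_tmul, map_one] at h1
      have h2 : ∀ x, (Algebra.TensorProduct.basis C' b).repr (VecGrp.Wmap φ x) i =
          φ ((Algebra.TensorProduct.basis C b).repr x i) := fun x => by
        induction x using TensorProduct.induction_on with
        | zero => simp
        | tmul c v => simp [Algebra.TensorProduct.basis_repr_tmul, map_mul]
        | add x y hx hy => simp [hx, hy]
      change φ ((Algebra.TensorProduct.basis C b).repr _ i) = _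
      rw [← h2]
      exact congrArg (fun z => (Algebra.TensorProduct.basis C' b).repr z i) h1
    · rw [show m.ρ B (1 : InfSub.sp k B ⟶ G) = 1 from map_one (m.ρ B)]
      rfl
  apply LinearEquiv.toLinearMap_injective
  refine (Algebra.TensorProduct.basis B b).ext fun j => ?_
  rw [Algebra.TensorProduct.basis_apply]
  exact h j

/-- Actions of anti-affine groups with a fixed point on integral schemes are trivial. -/
theorem act_eq_snd [GrpObj G] [QuasiCompact G.hom] [IsIso G.hom.appTop] {X : Over (Spec (CommRingCat.of k))}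
    [LocallyOfFiniteType X.hom] [IsSeparated X.hom] [IsIntegral X.left] (a : AlgGrp.Action G X)
    (x : 𝟙_ (Over (Spec (CommRingCat.of k))) ⟶ X) (hx : a.IsFixedPt x) : a.act = snd G X := by
  have : IsLocallyNoetherian X.left := LocallyOfFiniteType.isLocallyNoetherian X.hom
  obtain ⟨A, _, _, _, j, e, hj, he⟩ := InfAgree.exists_chart X x
  have h := AffKer.agreeInf_act a e j (by rw [he]; exact hx) (𝟙 G) AffKer.killed_id
  simpa using InfAgree.eq_of_agreeInf e j h

end

end Groth.Agent.Lib.GrpQ.NatFun
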