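import Groth.Agent.Lib.GrpQ.RepMat
import Groth.Agent.Lib.GrpQ.NatFun
import Groth.Agent.Lib.GrpQ.AntiAffSmooth
import Groth.Agent.Lib.GrpQ.AffKer2

/-!
Criteria for being anti-affine through representations; faithful representations.
-/

set_option autoImplicit false

universe u

open CategoryTheory Limits MonoidalCategory CartesianMonoidalCategory MonObj AlgebraicGeometry

namespace Groth.Agent.Lib.GrpQ.RepCrit

noncomputable section

variable {k : Type u} [Field k] {G : Over (Spec (CommRingCat.of k))} [GrpObj G]

theorem affineSpace_inst (n : ℕ) :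
    IsAffine (RepMat.V k n).left ∧ LocallyOfFiniteType (RepMat.V k n).hom ∧ QuasiCompact (RepMat.V k n).hom ∧
      IsSeparated (RepMat.V k n).hom ∧ GeometricallyIntegral (RepMat.V k n).hom ∧ IsIntegral (RepMat.V k n).left := by
  have h1 : IsAffine (RepMat.V k n).left :=
    inferInstanceAs (IsAffine (AffineSpace (ULift.{u} (Fin n)) (Spec (CommRingCat.of k))))
  have : IsAffineHom (RepMat.V k n).hom := inferInstance
  exact ⟨h1, inferInstanceAs (LocallyOfFiniteType (AffineSpace (ULift.{u} (Fin n)) (Spec (CommRingCat.of k)) ↘ _)),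
    inferInstance, inferInstance,
    inferInstanceAs (GeometricallyIntegral (AffineSpace (ULift.{u} (Fin n)) (Spec (CommRingCat.of k)) ↘ _)),
    inferInstanceAs (IsIntegral (AffineSpace (ULift.{u} (Fin n)) (Spec (CommRingCat.of k))))⟩

/-- A group is anti-affine when its representations are trivial. -/
theorem antiAffine_of_gmod [LocallyOfFiniteType G.hom] [QuasiCompact G.hom]
    (h : ∀ (n : ℕ) (m : VecGrp.GMod G (Fin n → k)) (B : Type u) [CommRing B] [Algebra k B]
      (g : VecGrp.pt k B ⟶ G), m.ρ B g = 1) : AntiAffSub.AntiAffine G := by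
  by_contra hG
  obtain ⟨n, r, hr⟩ := RepMat.exists_rep hG
  exact hr (r.eq_one_of_gmod fun B _ _ g => h n r.gmod B g)

/-- A group is anti-affine when its actions on affine spaces fixing a rational point are trivial. -/
theorem antiAffine_of_action [LocallyOfFiniteType G.hom] [QuasiCompact G.hom]
    (h : ∀ (n : ℕ) (a : AlgGrp.Action G (RepMat.V k n)) (x : 𝟙_ _ ⟶ RepMat.V k n),
      a.IsFixedPt x → a.act = snd G (RepMat.V k n)) : AntiAffSub.AntiAffine G := by
  by_contra hG
  obtain ⟨n, r, hr⟩ := RepMat.exists_rep hG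
  exact hr (r.eq_one_of_action (h n r.action _ r.action_fixed))

/-- A group is anti-affine when its homomorphisms to general linear groups are trivial. -/
theorem antiAffine_of_hom [LocallyOfFiniteType G.hom] [QuasiCompact G.hom]
    (h : ∀ (n : ℕ) (ρ : G ⟶ FrB.GLn n (Spec (CommRingCat.of k))), IsMonHom ρ → ρ = 1) :
    AntiAffSub.AntiAffine G := by
  by_contra hG
  obtain ⟨n, r, hr⟩ := RepMat.exists_rep hG
  exact hr (r.eq_one_of_toGLn (h n r.toGLn r.isMonHom_toGLn))

/-- Homomorphisms from anti-affine groups to affine groups are trivial. -/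
theorem hom_eq_one [QuasiCompact G.hom] (hG : AntiAffSub.AntiAffine G) {H : Over (Spec (CommRingCat.of k))} [GrpObj H]
    [IsAffine H.left] (ρ : G ⟶ H) [IsMonHom ρ] : ρ = 1 := by
  have := AntiAff.isIso_of_bijective hG
  have := GrpSch.isSeparated_of_field G
  obtain ⟨c, hc⟩ := Affinization.exists_fac (Affinization.rho G) ρ
  have h := congrArg (· ≫ c) (AffKer.killed_id (G := G))
  simp only [Category.id_comp, Category.assoc, hc, IsMonHom.one_hom] at h
  rw [h, Hom.one_def]

/-- A group with a faithful representation is affine. -/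
theorem isAffine_of_faithful [IsAlgClosed k] [LocallyOfFiniteType G.hom] [QuasiCompact G.hom]
    {M : Type u} [AddCommGroup M] [Module k M] (m : VecGrp.GMod G M)
    (hfaith : ∀ g : VecGrp.pt k k ⟶ G, m.ρ k g = 1 → g = 1) : IsAffine G.left := by
  obtain ⟨L, _, l, _, _, _, _, hL, hmem⟩ := AntiAffSub.exists_antiAffPart G
  have := AntiAff.isIso_of_bijective hL
  have := GrpSch.isSeparated_of_field L
  have := AntiAffSmooth.smooth L hL
  have : IsReduced L.left := GrpSch.isReduced_of_smooth_field L.hom
  have : Mono l := mono_of_left l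
  let mL : VecGrp.GMod L M :=
    { ρ := fun B _ _ =>
        { toFun := fun g => m.ρ B (g ≫ l)
          map_one' := by rw [MonObj.one_comp, map_one]
          map_mul' := fun a b => by rw [MonObj.mul_comp, map_mul] }
      naturality := fun φ g x => by
        simp only [MonoidHom.coe_mk, OneHom.coe_mk, Category.assoc]
        exact m.naturality φ (g ≫ l) x }
  have hpt : ∀ g : VecGrp.pt k k ⟶ L, g = 1 := fun g => by
    rw [← cancel_mono l, MonObj.one_comp]
    exact hfaith _ (NatFun.gmod_eq_one mL k g)
  have hid : ∀ (B : Type u) [CommRing B] [Algebra k B] [Algebra.FiniteType k B] [_root_.IsReduced B]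
      (u : InfSub.sp k B ⟶ L), u = 1 := by
    intro B _ _ _ _ u
    obtain ⟨E, i, hi, hif, hu⟩ := InfAgree.exists_eqLocus u.left (1 : InfSub.sp k B ⟶ L).left L.hom
      (by rw [Over.w, Over.w])
    obtain ⟨I, e, he⟩ := IsClosedImmersion.Spec_iff.1 hi
    have hI : I = ⊥ := by
      refine eq_bot_iff.2 fun a ha => Ideal.mem_bot.2 (Rosenlicht.eq_of_forall_point (k := k) fun z => ?_)
      rw [map_zero]
      have h1 : InfSub.ptOf z ≫ u = InfSub.ptOf z ≫ (1 : InfSub.sp k B ⟶ L) := by
        rw [MonObj.comp_one]
        let τ : VecGrp.pt k k ⟶ 𝟙_ (Over (Spec (CommRingCat.of k))) := toUnit _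
        have h2 := hpt (τ ≫ InfSub.ptOf z ≫ u)
        have : IsIso τ.left := by
          change IsIso (Spec.map (CommRingCat.ofHom (algebraMap k k)))
          have : IsIso (CommRingCat.ofHom (algebraMap k k)) := inferInstanceAs (IsIso (𝟙 (CommRingCat.of k)))
          infer_instance
        have : Epi τ := ⟨fun a b hab => Over.OverMorphism.ext ((cancel_epi τ.left).1 congr($(hab).left))⟩
        rw [← cancel_epi τ, h2, MonObj.comp_one]
      obtain ⟨q, hq⟩ := hu _ congr($(h1).left)
      have h3 : Spec.map (CommRingCat.ofHom z.toRingHom) =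
          Spec.map (CommRingCat.ofHom (Ideal.Quotient.mk I) ≫ Spec.preimage (q ≫ e.hom)) := by
        rw [Spec.map_comp, Spec.map_preimage, Category.assoc, ← he]
        exact hq.symm
      have h4 := congr($(Spec.map_injective h3) a)
      refine h4.trans ?_
      simp [Ideal.Quotient.eq_zero_iff_mem.2 ha]
    have : IsIso i := by
      rw [he]
      have : IsIso (CommRingCat.ofHom (Ideal.Quotient.mk I)) := by
        subst hI
        exact (RingEquiv.quotientBot B).symm.toCommRingCatIso.isIso_hom
      exact IsIso.comp_isIso' inferInstance (Scheme.Spec.mapIso (asIso (CommRingCat.ofHom (Ideal.Quotient.mk I))).op).isIso_hom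
    exact Over.OverMorphism.ext ((cancel_epi i).1 hif)
  have hL1 : 𝟙 L = 1 := by
    ext1
    refine Scheme.Cover.hom_ext L.left.affineCover _ _ fun s => ?_
    obtain ⟨_, u, hu⟩ := InfAgree.exists_algebra (X := L) ((L.left.affineCover.X s).isoSpec.inv ≫ L.left.affineCover.f s)
    have := L.left.affineCover.map_prop s
    have : IsOpenImmersion u.left := by
      rw [hu]; exact IsOpenImmersion.comp _ _
    have hlft : LocallyOfFiniteType (InfSub.sp k Γ(L.left.affineCover.X s, ⊤)).hom := by rw [← Over.w u]; infer_instance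
    have : IsReduced (InfSub.sp k Γ(L.left.affineCover.X s, ⊤)).left := isReduced_of_isOpenImmersion u.left
    have := DomFlat.finiteType_of_locallyOfFiniteType hlft
    have : _root_.IsReduced Γ(L.left.affineCover.X s, ⊤) := (affine_isReduced_iff (CommRingCat.of Γ(L.left.affineCover.X s, ⊤))).1 ‹IsReduced (InfSub.sp k Γ(L.left.affineCover.X s, ⊤)).left›
    have h1 : u ≫ 𝟙 L = u ≫ 1 := by rw [MonObj.comp_one, Category.comp_id]; exact hid _ u
    have h2 := congr($(h1).left)
    rw [Over.comp_left, Over.comp_left, hu] at h2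
    exact (cancel_epi (L.left.affineCover.X s).isoSpec.inv).1
      ((Category.assoc _ _ _).symm.trans (h2.trans (Category.assoc _ _ _)))
  refine AffKer.isAffine_of_killed_eq_one fun T g hg => ?_
  obtain ⟨z, rfl⟩ := (hmem T g).1 hg
  rw [← Category.comp_id z, hL1, MonObj.comp_one, MonObj.one_comp]

end

end Groth.Agent.Lib.GrpQ.RepCrit
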